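import Cfsg.Agent.Lib.Char.CyclicTI.Family
import Cfsg.Agent.Lib.Char.CyclicTI.Galois
import Cfsg.Agent.Lib.Char.Exceptional.Coherence3
import Mathlib.GroupTheory.PGroup
import Mathlib.Data.ZMod.Basic

/-!
Owner: helper1. Elementary counting lemmas for the exclusion of Type V in the final configuration: sums
invariant under a permutation of prime order, Bessel's inequality with integer coefficients, and the
possible coefficient matrices of small norm.
-/

set_option autoImplicit false
set_option linter.unusedSectionVars false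

open scoped ComplexConjugate

namespace CfsgLib.OddLocal.TypeFive

open CfsgLib.Char CfsgLib.CyclicTI

/-- A sum invariant under a permutation of prime order `r` is congruent modulo `r` to the sum over the fixed
points. -/
theorem perm_sum_eq {α : Type*} [Fintype α] [DecidableEq α] {r : ℕ} [hr : Fact r.Prime] (σ : Equiv.Perm α)
    (hσ : σ ^ r = 1) (f : α → ZMod r) (hf : ∀ a, f (σ a) = f a) :
    ∑ a, f a = ∑ a ∈ Finset.univ.filter (fun a => σ a = a), f a := by
  classical
  set H := Subgroup.zpowers σ with hH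
  have hpow : ∀ h ∈ H, ∀ a, f (h a) = f a := by
    intro h hh a
    obtain ⟨n, rfl⟩ := (mem_zpowers_iff_mem_range_orderOf (x := σ)).mp hh |> Finset.mem_image.mp
      |> fun ⟨n, _, e⟩ => (⟨n, e⟩ : ∃ n, σ ^ n = h)
    induction n with
    | zero => simp
    | succ n ih => rw [pow_succ', Equiv.Perm.mul_apply, hf]; exact ih (pow_mem (Subgroup.mem_zpowers σ) n)
  have hfixed : ∀ a, σ a = a → ∀ h ∈ H, h a = a := fun a ha h hh => by
    have : σ ∈ MulAction.stabilizer (Equiv.Perm α) a := ha
    exact (Subgroup.zpowers_le.mpr this) hh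
  have hp : IsPGroup r H := fun h => ⟨1, by
    obtain ⟨n, hn⟩ := Subgroup.mem_zpowers_iff.mp h.2
    ext1
    rw [pow_one, SubmonoidClass.coe_pow, ← hn, ← zpow_natCast, ← zpow_mul, mul_comm, zpow_mul,
      zpow_natCast, hσ, one_zpow, OneMemClass.coe_one]⟩
  have horb : ∀ a, σ a ≠ a → (r : ℕ) ∣ Nat.card (MulAction.orbit H a) := by
    intro a ha
    obtain ⟨n, hn⟩ := hp.card_orbit a
    rcases n with _ | n
    · exfalso
      rw [pow_zero] at hn
      have := (Nat.card_eq_one_iff_unique.mp hn).1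
      have h1 : (⟨σ a, ⟨⟨σ, Subgroup.mem_zpowers σ⟩, rfl⟩⟩ : MulAction.orbit H a) =
          ⟨a, MulAction.mem_orbit_self a⟩ := Subsingleton.elim _ _
      exact ha (congrArg Subtype.val h1)
    · exact hn ▸ dvd_pow_self r n.succ_ne_zero
  rw [← Finset.sum_filter_add_sum_filter_not Finset.univ (fun a => σ a = a), add_eq_left]
  refine Finset.sum_partition (MulAction.orbitRel H α) |>.trans (Finset.sum_eq_zero fun x hx => ?_)
  obtain ⟨a, ha, rfl⟩ := Finset.mem_image.mp hx
  have ha' : σ a ≠ a := (Finset.mem_filter.mp ha).2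
  rw [Finset.sum_congr rfl (g := fun _ => f a) fun b hb => ?_, Finset.sum_const]
  · have hset : ((Finset.univ.filter fun a => ¬ σ a = a).filter
        fun b => Quotient.mk (MulAction.orbitRel H α) b = Quotient.mk (MulAction.orbitRel H α) a) =
        (MulAction.orbit H a).toFinset := by
      ext b
      simp only [Finset.mem_filter, Finset.mem_univ, true_and, Set.mem_toFinset, Quotient.eq,
        MulAction.orbitRel_apply]
      refine ⟨fun h => h.2, fun h => ⟨fun hb => ?_, h⟩⟩
      obtain ⟨g, rfl⟩ := h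
      have := hfixed _ hb _ (inv_mem g.2)
      apply ha'
      have e : a = g • a := by
        calc a = (g.1)⁻¹ (g • a) := (g.1.symm_apply_apply a).symm
          _ = g • a := this
      rw [e]; exact hb
    rw [hset, ← Set.ncard_eq_toFinset_card', ← Nat.card_coe_set_eq]
    obtain ⟨m, hm⟩ := horb a ha'
    rw [hm, nsmul_eq_mul, Nat.cast_mul, ZMod.natCast_self, zero_mul, zero_mul]
  · obtain ⟨g, rfl⟩ := (MulAction.orbitRel_apply.mp (Quotient.exact (Finset.mem_filter.mp hb).2))
    exact hpow _ g.2 a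

variable {X : Type*} [Group X] [Fintype X]

/-- Bessel's inequality for an orthonormal family and integral coefficients. -/
theorem bessel_int {ι : Type*} (s : Finset ι) (u : ι → X → ℂ) (V : X → ℂ) (a : ι → ℤ)
    (hu : ∀ i ∈ s, Cfsg.classInner (u i) (u i) = 1)
    (horth : ∀ i ∈ s, ∀ j ∈ s, i ≠ j → Cfsg.classInner (u i) (u j) = 0)
    (ha : ∀ i ∈ s, Cfsg.classInner V (u i) = a i) {N : ℤ} (hN : Cfsg.classInner V V = N) :
    ∑ i ∈ s, a i ^ 2 ≤ N ∧ (∑ i ∈ s, a i ^ 2 = N → V = ∑ i ∈ s, (a i : ℂ) • u i) := by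
  classical
  obtain ⟨-, h⟩ := Exceptional.bessel_split s u V a (fun _ => 1) (fun _ _ => one_pos)
    (fun i hi j hj => by
      by_cases e : i = j
      · subst e; rw [if_pos rfl, hu i hi, Nat.cast_one]
      · rw [if_neg e, horth i hi j hj e]) ha
  simp only [Nat.cast_one, div_one] at h
  rw [hN, Complex.intCast_re] at h
  refine ⟨?_, fun e => ?_⟩
  · have h0 := Exceptional.classInner_self_re_nonneg (V - ∑ i ∈ s, (a i : ℂ) • u i)
    rw [h, sub_nonneg] at h0
    exact_mod_cast h0
  · refine sub_eq_zero.mp (Exceptional.eq_zero_of_classInner_self ?_)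
    rw [h, sub_eq_zero, ← e]
    push_cast; ring

/-- At least one square for each nonzero entry. -/
theorem card_le_sum_sq {ι : Type*} (s : Finset ι) (f : ι → ℤ) (h : ∀ i ∈ s, f i ≠ 0) :
    (s.card : ℤ) ≤ ∑ i ∈ s, f i ^ 2 := by
  rw [Finset.card_eq_sum_ones, Nat.cast_sum]
  exact Finset.sum_le_sum fun i hi => by
    have := h i hi
    have : (0 : ℤ) < f i ^ 2 := by positivity
    push_cast; omega

/-- An additive matrix with at most two as sum of squares vanishes. -/
theorem additive_eq_zero {L K : Type*} [Fintype L] [Fintype K] [DecidableEq L] [DecidableEq K] (l₀ : L) (k₀ : K)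
    (hL : 3 ≤ Fintype.card L) (hK : 3 ≤ Fintype.card K) (C : L → K → ℤ)
    (hadd : ∀ l k, C l k = C l k₀ + C l₀ k) (hsum : ∑ l, ∑ k, C l k ^ 2 ≤ 2) : ∀ l k, C l k = 0 := by
  have h00 : C l₀ k₀ = 0 := by linarith [hadd l₀ k₀]
  have hA : ∀ l, C l k₀ = 0 := by
    intro l
    by_contra hl
    have hne : l ≠ l₀ := fun e => hl (e ▸ h00)
    have h1 : ∀ k, (1 : ℤ) ≤ C l k ^ 2 + C l₀ k ^ 2 := fun k => by
      by_contra hc
      push Not at hc
      have e1 : C l k ^ 2 = 0 := le_antisymm (by nlinarith) (sq_nonneg _)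
      have e2 : C l₀ k ^ 2 = 0 := le_antisymm (by nlinarith) (sq_nonneg _)
      rw [sq_eq_zero_iff] at e1 e2
      apply hl
      linarith [hadd l k]
    have h2 : ∑ k, (C l k ^ 2 + C l₀ k ^ 2) ≤ ∑ l, ∑ k, C l k ^ 2 := by
      rw [Finset.sum_add_distrib, ← Finset.sum_pair (f := fun l => ∑ k, C l k ^ 2) hne]
      exact Finset.sum_le_sum_of_subset_of_nonneg (Finset.subset_univ _)
        fun i _ _ => Finset.sum_nonneg fun k _ => sq_nonneg _
    have h3 := (Finset.sum_le_sum fun k (_ : k ∈ Finset.univ) => h1 k).trans (h2.trans hsum)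
    rw [Finset.sum_const, Finset.card_univ, nsmul_one] at h3
    have : (Fintype.card K : ℤ) ≤ 2 := by exact_mod_cast h3
    omega
  intro l k
  rw [hadd, hA l, zero_add]
  by_contra hk
  have h1 : ∀ l, (1 : ℤ) ≤ C l k ^ 2 := fun l => by
    rw [hadd, hA l, zero_add]
    have : (0 : ℤ) < C l₀ k ^ 2 := by positivity
    omega
  have h2 : ∑ l, C l k ^ 2 ≤ ∑ l, ∑ k, C l k ^ 2 :=
    Finset.sum_le_sum fun l _ => Finset.single_le_sum (f := fun k => C l k ^ 2) (fun _ _ => sq_nonneg _)
      (Finset.mem_univ k)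
  have h3 := (Finset.sum_le_sum fun l (_ : l ∈ Finset.univ) => h1 l).trans (h2.trans hsum)
  rw [Finset.sum_const, Finset.card_univ, nsmul_one] at h3
  have : (Fintype.card L : ℤ) ≤ 2 := by exact_mod_cast h3
  omega

/-- The two possible shapes of `τ(I − λ)`: sums of squares at most `|K| - 1` for `C(l,k) = A l + B k - 1`. -/
theorem additive_cases {L K : Type*} [Fintype L] [Fintype K] [DecidableEq L] [DecidableEq K] (l₀ : L) (k₀ : K)
    (A : L → ℤ) (B : K → ℤ)
    (hsum : ∑ l ∈ Finset.univ.erase l₀, A l ^ 2 + ∑ k ∈ Finset.univ.erase k₀,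
      (B k ^ 2 + ∑ l ∈ Finset.univ.erase l₀, (A l + B k - 1) ^ 2) ≤ ((Finset.univ.erase k₀).card : ℤ)) :
    ((∀ l, l ≠ l₀ → A l = 0) ∧ (∀ k, k ≠ k₀ → B k ^ 2 +
        ∑ l ∈ Finset.univ.erase l₀, (B k - 1) ^ 2 = 1)) ∨ (∀ l, l ≠ l₀ → A l = 1) := by
  by_cases hA : ∀ l, l ≠ l₀ → A l = 1
  · exact Or.inr hA
  push Not at hA
  obtain ⟨l₁, hl₁, hA1⟩ := hA
  left
  set T : K → ℤ := fun k => B k ^ 2 + ∑ l ∈ Finset.univ.erase l₀, (A l + B k - 1) ^ 2
  have hT : ∀ k, 1 ≤ T k := fun k => by
    by_cases hB : B k = 0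
    · have h1 : (A l₁ + B k - 1) ^ 2 ≤ ∑ l ∈ Finset.univ.erase l₀, (A l + B k - 1) ^ 2 :=
        Finset.single_le_sum (f := fun l => (A l + B k - 1) ^ 2) (fun _ _ => sq_nonneg _)
          (Finset.mem_erase.mpr ⟨hl₁, Finset.mem_univ _⟩)
      have : (0 : ℤ) < (A l₁ + B k - 1) ^ 2 := by
        have : A l₁ + B k - 1 ≠ 0 := by omega
        positivity
      simp only [T]; nlinarith
    · have : (0 : ℤ) < B k ^ 2 := by positivity
      have h0 : (0 : ℤ) ≤ ∑ l ∈ Finset.univ.erase l₀, (A l + B k - 1) ^ 2 :=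
        Finset.sum_nonneg fun _ _ => sq_nonneg _
      simp only [T]; omega
  have hcard : ((Finset.univ.erase k₀).card : ℤ) = ∑ _k ∈ Finset.univ.erase k₀, (1 : ℤ) := by simp
  have h1 : ∑ _k ∈ Finset.univ.erase k₀, (1 : ℤ) ≤ ∑ k ∈ Finset.univ.erase k₀, T k :=
    Finset.sum_le_sum fun k _ => hT k
  have hA0 : ∑ l ∈ Finset.univ.erase l₀, A l ^ 2 = 0 := le_antisymm (by simp only [T] at h1; linarith)
    (Finset.sum_nonneg fun _ _ => sq_nonneg _)
  have hA0' : ∀ l, l ≠ l₀ → A l = 0 := fun l hl => sq_eq_zero_iff.mp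
    ((Finset.sum_eq_zero_iff_of_nonneg fun _ _ => sq_nonneg _).mp hA0 l (Finset.mem_erase.mpr ⟨hl, Finset.mem_univ _⟩))
  refine ⟨hA0', fun k hk => ?_⟩
  have h2 : ∑ k ∈ Finset.univ.erase k₀, T k = ∑ _k ∈ Finset.univ.erase k₀, (1 : ℤ) :=
    le_antisymm (by simp only [T] at h1 ⊢; linarith) h1
  have h3 := ((Finset.sum_eq_sum_iff_of_le fun k _ => hT k).mp h2.symm k
    (Finset.mem_erase.mpr ⟨hk, Finset.mem_univ _⟩)).symm
  refine Eq.trans ?_ h3
  simp only [T]
  congr 1
  exact Finset.sum_congr rfl fun l hl => by rw [hA0' l (Finset.mem_erase.mp hl).1, zero_add]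

/-- A pair of orthonormal signed irreducibles is determined by its difference and a common degree. -/
theorem pair_unique {x y u v : X → ℂ} (hx : SignedIrr x) (_hy : SignedIrr y) (hu : SignedIrr u) (hv : SignedIrr v)
    (hxy : Cfsg.classInner x y = 0) (h : x - y = u - v) (hx1 : x 1 = y 1) (hu1 : u 1 = x 1)
    (hne : x 1 ≠ 0) : x = u := by
  have hxx : Cfsg.classInner x x = 1 := by
    rcases hx.trichotomy hx with h0 | ⟨-, h0⟩ | ⟨e, -⟩
    · exfalso; apply hne
      have := Exceptional.eq_zero_of_classInner_self (f := x) (by rw [h0, Complex.zero_re])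
      rw [this]; rfl
    · exact h0
    · exfalso; apply hne
      have := congrFun e 1
      simp only [Pi.neg_apply] at this
      linear_combination (1 / 2 : ℂ) * this
  have hkey : Cfsg.classInner x u - Cfsg.classInner x v = 1 := by
    rw [← classInner_sub_right, ← h, classInner_sub_right, hxx, hxy, sub_zero]
  have hv1 : v 1 = u 1 := by
    have := congrFun h 1
    simp only [Pi.sub_apply, hx1, sub_self] at this
    linear_combination this
  rcases hx.trichotomy hu with h0 | ⟨e, -⟩ | ⟨e, -⟩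
  · rcases hx.trichotomy hv with g0 | ⟨e, g0⟩ | ⟨e, g0⟩
    · rw [h0, g0, sub_zero] at hkey; exact absurd hkey zero_ne_one
    · rw [h0, g0] at hkey; norm_num at hkey
    · exfalso; apply hne
      have := congrFun e 1
      simp only [Pi.neg_apply, hv1, hu1] at this
      linear_combination (1 / 2 : ℂ) * this
  · exact e
  · exfalso; apply hne
    have := congrFun e 1
    simp only [Pi.neg_apply, hu1] at this
    linear_combination (1 / 2 : ℂ) * this

end CfsgLib.OddLocal.TypeFive
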