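import Cfsg.Agent.Lib.OddLocal.Final.TypeV.Central
import Cfsg.Agent.Lib.OddLocal.Final.TISide
import Cfsg.Agent.Lib.Char.Coherence.PGroup

/-!
Owner: helper1. The case of `W₁` central in the kernel with the derived kernel a `q`-group: the Galois
invariance makes `ξ` constant on `W₁#`, and S1523 with the degree bounds kills the coefficients.
-/

set_option autoImplicit false
set_option linter.unusedSectionVars false

open scoped Classical

namespace CfsgLib.OddLocal.TypeFive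

open CfsgLib.Char CfsgLib.CyclicTI Subgroup
open scoped ComplexConjugate

namespace TV

variable {G : Type*} [Group G] [Fintype G] (D : TV G)

/-- The hypotheses of the case. -/
structure CentralCase : Prop where
  central : ∀ z ∈ D.Q₁, ∀ k : D.KT, z * k = k * z
  pgroup : IsPGroup D.q D.DK

theorem mem_pow_Mem {φ : D.T → ℂ} (hφ : φ ∈ D.Mem) {k : ℕ} (hk : k.Coprime (Nat.card G)) :
    (fun t => φ (t ^ k)) ∈ D.Mem := by
  obtain ⟨c, hc, rfl⟩ := D.exists_lin_of_mem hφ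
  have hkT : k.Coprime (Nat.card D.T) := hk.coprime_dvd_right (card_subgroup_dvd_card _)
  have hkK : k.Coprime (Nat.card D.KT) := hkT.coprime_dvd_right (card_subgroup_dvd_card _)
  set c' : D.IK := ⟨fun u => (c : D.KT → ℂ) (u ^ k), isIrrCharacter_pow c.2 hkK⟩
  have hlin : D.IsLin c' := by
    refine ⟨by show (c : D.KT → ℂ) (1 ^ k) = 1; rw [one_pow, hc.1], fun e => hc.2 (irr_ext fun g => ?_)⟩
    obtain ⟨u, hu⟩ := (powCoprime hkK.symm).surjective g
    rw [← hu]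
    exact congrFun (congrArg Subtype.val e) u
  have e : (fun t => Cfsg.indFun D.KT (c : D.KT → ℂ) (t ^ k)) = Cfsg.indFun D.KT (c' : D.KT → ℂ) :=
    funext fun t => FTFinal.indFun_apply_pow hkT _ t
  exact e ▸ D.mem_of_lin hlin

variable {D}

theorem IsFam.apply_pow {ξ : (D.T → ℂ) → G → ℂ} (hξ : D.IsFam ξ) {φ : D.T → ℂ} (hφ : φ ∈ D.Mem) {k : ℕ}
    (hk : k.Coprime (Nat.card G)) : ξ (fun t => φ (t ^ k)) = fun g => ξ φ (g ^ k) := by
  obtain ⟨hφc, hne⟩ := D.conj_mem_Mem hφ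
  have hs : ∀ ψ ∈ D.Mem, SignedIrr fun g => ξ ψ (g ^ k) := fun ψ hψ => by
    rcases hξ.signed ψ hψ with h | h
    · exact Or.inl (isIrrCharacter_pow h hk)
    · exact Or.inr (isIrrCharacter_pow h hk)
  have hd := hξ.diff _ hφ _ hφc
  have hd' := hξ.diff _ (D.mem_pow_Mem hφ hk) _ (D.mem_pow_Mem hφc hk)
  have e : (fun g => ξ φ (g ^ k)) - (fun g => ξ (Cfsg.conjFun φ) (g ^ k)) =
      ξ (fun t => φ (t ^ k)) - ξ (fun t => Cfsg.conjFun φ (t ^ k)) := by
    rw [← hd']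
    funext g
    have h1 := congrFun hd (g ^ k)
    rw [Pi.sub_apply] at h1
    rw [Pi.sub_apply, ← h1, tau, tau, FTFinal.indFun_apply_pow hk]
    rfl
  have h1 : ∀ ψ ∈ D.Mem, ξ ψ 1 ≠ 0 := fun ψ hψ => by
    rcases hξ.signed ψ hψ with h | h
    · exact IsIrr.apply_one_ne_zero h
    · exact fun e => IsIrr.apply_one_ne_zero h (by simp [e])
  have hdeg : ξ φ 1 = ξ (Cfsg.conjFun φ) 1 := by
    have h := congrFun hd 1
    rw [D.tau_map_one (D.sub_mem_span hφ hφc), Pi.sub_apply] at h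
    exact sub_eq_zero.mp h.symm
  symm
  -- two readings of the same difference
  have hdeg' : ξ (fun t => φ (t ^ k)) 1 = ξ φ 1 := by
    obtain ⟨c, hc⟩ := D.exists_lin
    have hall : ∀ ψ ∈ D.Mem, ∀ ψ' ∈ D.Mem, ξ ψ 1 = ξ ψ' 1 := fun ψ hψ ψ' hψ' => by
      have h := congrFun (hξ.diff ψ hψ ψ' hψ') 1
      rw [D.tau_map_one (D.sub_mem_span hψ hψ'), Pi.sub_apply] at h
      exact sub_eq_zero.mp h.symm
    exact hall _ (D.mem_pow_Mem hφ hk) _ hφ
  refine pair_unique (hs φ hφ) (hs _ hφc) (hξ.signed _ (D.mem_pow_Mem hφ hk))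
    (hξ.signed _ (D.mem_pow_Mem hφc hk)) ?_ e ?_ ?_ ?_
  · rw [classInner_comp_pow hk, hξ.orth _ hφ _ hφc (Ne.symm hne)]
  · show ξ φ (1 ^ k) = ξ (Cfsg.conjFun φ) (1 ^ k)
    rw [one_pow, hdeg]
  · show _ = ξ φ (1 ^ k)
    rw [one_pow, hdeg']
  · show ξ φ (1 ^ k) ≠ 0
    rw [one_pow]; exact h1 φ hφ

theorem IsFam.apply_Q₁ {ξ : (D.T → ℂ) → G → ℂ} (hξ : D.IsFam ξ) {φ ψ : D.T → ℂ} (hφ : φ ∈ D.Mem)
    (hψ : ψ ∈ D.Mem) {w : D.T} (hw : w ∈ D.Q₁) (hw1 : w ≠ 1) : ξ φ (w : G) = ξ ψ (w : G) := by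
  have h := congrFun (hξ.diff φ hφ ψ hψ) (w : G)
  rw [Pi.sub_apply] at h
  obtain ⟨hgen, hsupp⟩ := D.zspan_props (D.sub_mem_span hφ hψ)
  rw [tau, Exceptional.ti_indFun_eq D.ti_set (Exceptional.IsGen.isClassFunction hgen) hsupp
    (show (w : G) ∈ (D.K : Set G) \ {1} from ⟨D.Q₁_le hw, fun e => hw1 (Subtype.ext e)⟩), Pi.sub_apply] at h
  have hv : ∀ χ ∈ D.Mem, χ w = (D.p : ℂ) := fun χ hχ => by
    rw [((Coh.mem_above_iff (commutator_le_self D.KT)).mp hχ).2 w (D.Q₁_le_DK hw), D.mem_one hχ]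
  rw [hv φ hφ, hv ψ hψ, sub_self] at h
  exact sub_eq_zero.mp h.symm

theorem IsFam.const_Q₁ {ξ : (D.T → ℂ) → G → ℂ} (hξ : D.IsFam ξ) {φ : D.T → ℂ} (hφ : φ ∈ D.Mem) {u v : D.T}
    (hu : u ∈ D.Q₁) (hv : v ∈ D.Q₁) (hu1 : u ≠ 1) (hv1 : v ≠ 1) : ξ φ (u : G) = ξ φ (v : G) := by
  have hq := D.q_prime
  have hou : orderOf (u : G) = D.q :=
    (hq.eq_one_or_self_of_dvd _ (orderOf_dvd_natCard D.W₁ hu)).resolve_left
      fun e => hu1 (Subtype.ext (orderOf_eq_one_iff.mp e))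
  have hz : zpowers (u : G) = D.W₁ := eq_of_le_of_card_ge (zpowers_le.mpr hu) (by rw [Nat.card_zpowers, hou])
  obtain ⟨j, -, hj⟩ := Finset.mem_image.mp
    (mem_zpowers_iff_mem_range_orderOf.mp (show (v : G) ∈ zpowers (u : G) by rw [hz]; exact hv))
  have hjq : j.Coprime D.q := by
    rw [Nat.coprime_comm, hq.coprime_iff_not_dvd]
    intro hd
    refine hv1 (Subtype.ext (Eq.trans hj.symm ?_))
    exact orderOf_dvd_iff_pow_eq_one.mp (show orderOf (u : G) ∣ j by rw [hou]; exact hd)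
  have : NeZero (Nat.card G) := ⟨Nat.card_pos.ne'⟩
  obtain ⟨a, ha⟩ := ZMod.unitsMap_surjective (card_subgroup_dvd_card D.W₁) (ZMod.unitOfCoprime j hjq)
  set k := (a : ZMod (Nat.card G)).val with hkdef
  have hkc : k.Coprime (Nat.card G) := ZMod.val_coe_unit_coprime a
  have hkk : k ≡ j [MOD D.q] := by
    rw [← ZMod.natCast_eq_natCast_iff]
    have h := congrArg Units.val ha
    rw [ZMod.unitsMap_val, ZMod.coe_unitOfCoprime] at h
    rw [← h, hkdef, ZMod.natCast_val]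
  have e1 : (u : G) ^ k = v := by
    rw [← hj]
    exact pow_eq_pow_iff_modEq.mpr (hou.symm ▸ hkk)
  calc ξ φ (u : G) = ξ (fun t => φ (t ^ k)) (u : G) := hξ.apply_Q₁ hφ (D.mem_pow_Mem hφ hkc) hu hu1
    _ = ξ φ ((u : G) ^ k) := congrFun (hξ.apply_pow hφ hkc) _
    _ = ξ φ (v : G) := by rw [e1]

theorem CentralCase.normal (h : D.CentralCase) : (D.Q₁).Normal := by
  refine ⟨fun z hz x => ?_⟩
  have hx : x ∈ ((D.KT ⊔ D.P : Subgroup D.T) : Set D.T) := by rw [D.sup_top]; trivial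
  rw [normal_mul] at hx
  obtain ⟨a, ha, b, hb, rfl⟩ := hx
  have hbz : b * z * b⁻¹ = z := by
    rw [commute_W₁_W₂ D.centP hb hz, mul_inv_cancel_right]
  show a * b * z * (a * b)⁻¹ ∈ D.Q₁
  rw [show a * b * z * (a * b)⁻¹ = a * (b * z * b⁻¹) * a⁻¹ by group, hbz,
    ← show z * a = a * z from h.central z hz ⟨a, ha⟩, mul_inv_cancel_right]
  exact hz

theorem fixed_out {θ : D.IK} (hf : D.IsFixed (θ : D.KT → ℂ)) (hne : θ ≠ D.triv) : ¬ D.KerZ D.Q₁ θ := by
  intro hker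
  have h := D.nW_mod hf (D.lab θ)
  rw [if_pos rfl] at h
  have h0 : D.nW (θ : D.KT → ℂ) (D.lab θ) = 0 := by
    apply Int.cast_injective (α := ℂ)
    rw [D.coe_nW (D.isGen_irr θ), Int.cast_zero]
    have e : D.resW (θ : D.KT → ℂ) = (θ : D.KT → ℂ) 1 • fun w => (((1 : D.L₁) w : ℂˣ) : ℂ) := funext fun w => by
      rw [resW, hker (D.homK w) w.2, Pi.smul_apply, MonoidHom.one_apply, Units.val_one, smul_eq_mul, mul_one]
    rw [e, classInner_smul_left, inner_linear, if_neg (Ne.symm (D.lab_ne_one hf hne)), mul_zero]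
  rw [h0, Int.cast_zero] at h
  exact D.cast_sgn_ne hf h.symm

theorem CentralCase.sum_Q₁ (h : D.CentralCase) {θ : D.IK} (hθ : ¬ D.KerZ D.Q₁ θ) :
    ∑ w : D.Q₁, (θ : D.KT → ℂ) ⟨w, D.Q₁_le w.2⟩ = 0 := by
  obtain ⟨a, ha, hane⟩ := by simpa only [KerZ, not_forall] using hθ
  set S := ∑ w : D.Q₁, (θ : D.KT → ℂ) ⟨w, D.Q₁_le w.2⟩
  have h1 : (θ : D.KT → ℂ) 1 * S = (θ : D.KT → ℂ) a * S := by
    simp only [S, Finset.mul_sum]
    refine (Fintype.sum_equiv (Equiv.mulLeft (⟨a, ha⟩ : D.Q₁)) _ _ fun w => ?_).symm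
    have hz : ∀ k : D.KT, a * k = k * a := fun k => Subtype.ext (h.central a ha k)
    exact (D.central_mul θ hz ⟨w, D.Q₁_le w.2⟩).symm
  have h2 : ((θ : D.KT → ℂ) 1 - (θ : D.KT → ℂ) a) * S = 0 := by rw [sub_mul, h1, sub_self]
  exact (mul_eq_zero.mp h2).resolve_left (sub_ne_zero.mpr (Ne.symm hane))

theorem CentralCase.good (h : D.CentralCase) : ∃ ξ, D.Good ξ D.Q₁ := by
  have := h.normal
  have hq := D.q_prime
  haveI : Fact (D.q).Prime := ⟨hq⟩
  obtain ⟨ξ, hξ⟩ := D.exists_fam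
  obtain ⟨c, hc⟩ := D.exists_lin
  have hφ := D.mem_of_lin hc
  set f := ξ (Cfsg.indFun D.KT (c : D.KT → ℂ))
  set K₀ := D.mZ f (c : D.KT → ℂ) - 1
  have hgen : Cfsg.IsGeneralizedCharacter G f := hξ.gen hφ
  have hout : ∀ θ ∈ D.out D.Q₁, D.NotLin θ ∧ θ ≠ D.triv := fun θ hθ =>
    D.notLin_of_not_kerZ D.Q₁_le_DK ((D.mem_out).mp hθ)
  have hm : ∀ θ ∈ D.out D.Q₁, D.mZ f (θ : D.KT → ℂ) = D.xval ξ θ + D.dZ (θ : D.KT → ℂ) * K₀ := fun θ hθ => by
    have h1 := hξ.mult_dd (hout θ hθ).1 hc hφ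
    rw [if_pos rfl, D.mZ_dd hgen] at h1
    linear_combination h1
  have hbound : ∀ θ ∈ D.out D.Q₁, (D.R : ℤ) * D.xval ξ θ ^ 2 - 2 * D.dZ (θ : D.KT → ℂ) * D.xval ξ θ ≤ 0 := fun θ hθ => by
    by_cases hf : D.IsFixed (θ : D.KT → ℂ)
    · exact (hξ.fixed_bound hc hf (hout θ hθ).2).1
    · exact hξ.free_bound hf (hout θ hθ).1
  set J : ℤ := ∑ θ ∈ D.out D.Q₁, D.dZ (θ : D.KT → ℂ) * D.xval ξ θ with hJ
  set I := (D.Q₁).relIndex D.KT
  have hcardI : Nat.card D.KT = D.q * I := by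
    rw [← D.card_Q₁, ← Nat.card_congr (subgroupOfEquivOfLe D.Q₁_le).toEquiv]
    exact (card_mul_index _).symm
  have hsq : ∑ θ ∈ D.out D.Q₁, D.dZ (θ : D.KT → ℂ) ^ 2 = ((D.q : ℤ) - 1) * I := by
    rw [D.sum_sq_out, hcardI]
    push_cast; ring
  -- the Sylow congruence
  have hqK : D.q ∣ Nat.card D.K := card_dvd_of_le D.W₁_le_K
  obtain ⟨P, hP⟩ := D.exists_kerSylow D.q hqK
  have hQP : IsPGroup D.q D.Q₁ := IsPGroup.of_card (n := 1) (by rw [pow_one, D.card_Q₁])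
  obtain ⟨w₁, hw₁, hw11⟩ := (bot_or_exists_ne_one D.Q₁).resolve_left D.Q₁_ne_bot
  obtain ⟨n, hn⟩ := D.sylow_congr hP
    (hP.mem _ (by rintro _ ⟨w, hw, rfl⟩; exact D.Q₁_le hw) (hQP.map _)) D.Q₁_ne_bot h.central
    (fun u hu v hv _ _ => by
      have hall : ∀ z ∈ D.Q₁, D.T ≤ centralizer ({(z : G)} : Set G) := fun z hz g hg => by
        rw [mem_centralizer_singleton_iff]
        have hg' : (⟨g, hg⟩ : D.T) ∈ ((D.KT ⊔ D.P : Subgroup D.T) : Set D.T) := by rw [D.sup_top]; trivial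
        rw [normal_mul] at hg'
        obtain ⟨a, ha, b, hb, e⟩ := hg'
        have e1 : a * b * z = z * (a * b) := by
          rw [mul_assoc, commute_W₁_W₂ D.centP hb hz, ← mul_assoc, ← h.central z hz ⟨a, ha⟩, mul_assoc]
        have e2 : (⟨g, hg⟩ : D.T) * z = z * ⟨g, hg⟩ := by rw [← e]; exact e1
        exact congrArg Subtype.val e2
      rw [inf_eq_left.mpr (hall u hu), inf_eq_left.mpr (hall v hv)])
    (hξ.signed _ hφ) (fun u hu v hv hu1 hv1 => hξ.const_Q₁ hφ hu hv hu1 hv1) hw₁ hw11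
  obtain ⟨m, hm'⟩ : Nat.card (P : Subgroup G) ∣ Nat.card D.K := card_dvd_of_le hP.le
  set a := Nat.card (P : Subgroup G)
  have hrel : (D.q : ℤ) * J = ((D.q : ℤ) - 1) * a * (n - K₀ * m) := by
    have hsum : ∑ w : D.Q₁, (f 1 - f ((w : D.T) : G)) = ((((D.q : ℤ) - 1) * (a * n) : ℤ) : ℂ) := by
      rw [← Finset.add_sum_erase _ _ (Finset.mem_univ (1 : D.Q₁)), OneMemClass.coe_one, OneMemClass.coe_one,
        sub_self, zero_add, Finset.sum_congr rfl (g := fun _ => (((a : ℤ) * n : ℤ) : ℂ)) fun w hw => by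
          rw [← hn]
          congr 1
          exact hξ.const_Q₁ hφ w.2 hw₁ (fun e => (Finset.mem_erase.mp hw).1 (Subtype.ext e)) hw11,
        Finset.sum_const, Finset.card_erase_of_mem (Finset.mem_univ _), Finset.card_univ,
        ← Nat.card_eq_fintype_card, D.card_Q₁, nsmul_eq_mul, Nat.cast_sub hq.one_le]
      push_cast; ring
    have hsum' : ∑ w : D.Q₁, (f 1 - f ((w : D.T) : G)) =
        (((D.q : ℤ) * ∑ θ ∈ D.out D.Q₁, D.mZ f (θ : D.KT → ℂ) * D.dZ (θ : D.KT → ℂ) : ℤ) : ℂ) := by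
      rw [Finset.sum_congr rfl fun (w : D.Q₁) _ => D.deficit_out hgen (k := ⟨w, D.Q₁_le w.2⟩) w.2,
        Finset.sum_comm, Int.cast_mul, Int.cast_sum, Finset.mul_sum]
      refine Finset.sum_congr rfl fun θ hθ => ?_
      rw [← Finset.mul_sum, Finset.sum_sub_distrib, h.sum_Q₁ ((D.mem_out).mp hθ), sub_zero, Finset.sum_const,
        Finset.card_univ, ← Nat.card_eq_fintype_card, D.card_Q₁, nsmul_eq_mul, ← D.coe_dZ (D.isGen_irr θ)]
      push_cast; ring
    have e := Int.cast_injective (α := ℂ) (hsum.symm.trans hsum')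
    rw [Finset.sum_congr rfl fun (θ : D.IK) hθ => show D.mZ f (θ : D.KT → ℂ) * D.dZ (θ : D.KT → ℂ) =
        D.dZ (θ : D.KT → ℂ) * D.xval ξ θ + K₀ * D.dZ (θ : D.KT → ℂ) ^ 2 by rw [hm θ hθ]; ring,
      Finset.sum_add_distrib, ← Finset.mul_sum, hsq, ← hJ] at e
    have hKam : (D.q : ℤ) * I = a * m := by
      rw [← Nat.cast_mul, ← Nat.cast_mul, ← hcardI, D.card_KT, hm']
    linear_combination -e - K₀ * ((D.q : ℤ) - 1) * hKam
  set j := n - K₀ * m
  have hR : (2 : ℤ) ≤ D.R := by exact_mod_cast D.two_le_R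
  have hx0 : ∀ θ ∈ D.out D.Q₁, 0 ≤ D.xval ξ θ ∧ (D.R : ℤ) * D.xval ξ θ ≤ 2 * D.dZ (θ : D.KT → ℂ) := fun θ hθ => by
    have hb := hbound θ hθ
    have hd := dZ_pos θ
    set x := D.xval ξ θ
    set d := D.dZ (θ : D.KT → ℂ)
    have hx : 0 ≤ x := by
      by_contra hn'
      have : 0 < d * (-x) := mul_pos (by omega) (by omega)
      have : 0 ≤ (D.R : ℤ) * x ^ 2 := by positivity
      linarith
    refine ⟨hx, ?_⟩
    rcases hx.eq_or_lt with e | hpos
    · rw [← e]; omega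
    · exact le_of_mul_le_mul_right (by linarith) hpos
  have hJ0 : 0 ≤ J := Finset.sum_nonneg fun θ hθ => mul_nonneg (le_trans zero_le_one (dZ_pos θ)) (hx0 θ hθ).1
  have hJR : (D.R : ℤ) * J ≤ 2 * (((D.q : ℤ) - 1) * I) := by
    rw [← hsq, hJ, Finset.mul_sum, Finset.mul_sum]
    exact Finset.sum_le_sum fun θ hθ => by
      have := mul_le_mul_of_nonneg_left (hx0 θ hθ).2 (le_trans zero_le_one (dZ_pos θ))
      linarith
  have hq1 : (0 : ℤ) < (D.q : ℤ) - 1 := by have := D.three_le_q; omega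
  have ha0 : (0 : ℤ) < a := by exact_mod_cast (Nat.card_pos (α := (P : Subgroup G)))
  have hqI : (D.q : ℤ) * I = a * m := by rw [← Nat.cast_mul, ← Nat.cast_mul, ← hcardI, D.card_KT, hm']
  have hpos : 0 < ((D.q : ℤ) - 1) * a := mul_pos hq1 ha0
  have hj0 : 0 ≤ j := by
    by_contra hn'
    have : ((D.q : ℤ) - 1) * a * j < 0 := mul_neg_of_pos_of_neg hpos (by omega)
    have : 0 ≤ (D.q : ℤ) * J := mul_nonneg (Int.natCast_nonneg _) hJ0
    linarith
  have hjR : (D.R : ℤ) * j ≤ 2 * m := by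
    refine le_of_mul_le_mul_left ?_ hpos
    calc ((D.q : ℤ) - 1) * a * ((D.R : ℤ) * j) = (D.R : ℤ) * ((D.q : ℤ) * J) := by rw [hrel]; ring
      _ = (D.q : ℤ) * ((D.R : ℤ) * J) := by ring
      _ ≤ (D.q : ℤ) * (2 * (((D.q : ℤ) - 1) * I)) := mul_le_mul_of_nonneg_left hJR (Int.natCast_nonneg _)
      _ = ((D.q : ℤ) - 1) * a * (2 * m) := by linear_combination 2 * ((D.q : ℤ) - 1) * hqI
  have hm1 : m = 1 ∨ j = 0 := by
    by_contra hcon
    push Not at hcon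
    have hm0 : m ≠ 0 := fun e => Nat.card_pos.ne' (hm'.trans (by rw [e, mul_zero]))
    -- the Sylow subgroup in `T`
    set PT : Subgroup D.T := (P : Subgroup G).subgroupOf D.T
    have hPT : PT ≤ D.KT := fun y hy => hP.le hy
    have : PT.Normal := (normal_subgroupOf_iff_le_normalizer (hP.le.trans D.K_le)).mpr hP.norm.ge
    have hDP : D.DK ≤ PT := fun y hy =>
      hP.mem ((D.DK).map D.T.subtype) (by rintro _ ⟨u, hu, rfl⟩; exact commutator_le_self D.KT hu)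
        (h.pgroup.map _) ⟨y, hy, rfl⟩
    have hcP : Nat.card PT = a := Nat.card_congr (subgroupOfEquivOfLe (hP.le.trans D.K_le)).toEquiv
    have hlt : D.DK < PT := by
      refine lt_of_le_of_ne hDP fun e => ?_
      set P₁ : Subgroup D.KT := PT.subgroupOf D.KT
      obtain ⟨i, hi⟩ := IsPGroup.iff_card.mp P.isPGroup'
      have hcP₁ : Nat.card P₁ = a := (Nat.card_congr (subgroupOfEquivOfLe hPT).toEquiv).trans hcP
      have hdvd : D.q ∣ Nat.card D.KT := ⟨I, hcardI⟩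
      have hp₁ : IsPGroup D.q P₁ := IsPGroup.of_card (n := i) (hcP₁.trans hi)
      obtain ⟨P₀, hP₀⟩ := hp₁.exists_le_sylow
      have hcP₀ : Nat.card (P₀ : Subgroup D.KT) = a := by
        refine le_antisymm ?_ (hcP₁ ▸ card_le_of_le hP₀)
        obtain ⟨i', hi'⟩ := IsPGroup.iff_card.mp P₀.isPGroup'
        have hd : D.q ^ i' ∣ a * m := by rw [← hm', ← D.card_KT, ← hi']; exact card_subgroup_dvd_card _
        rw [hi']
        exact Nat.le_of_dvd Nat.card_pos (((hP.coprime m hm').pow_left i').dvd_of_dvd_mul_right hd)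
      have hP₁ : P₁ = (P₀ : Subgroup D.KT) := eq_of_le_of_card_ge hP₀ (by rw [hcP₀, hcP₁])
      obtain ⟨π, hπsurj, hπinj⟩ := D.exists_proj hdvd P₀
      have hP₁nil : Group.IsNilpotent (P₀ : Subgroup D.KT) := P₀.isPGroup'.isNilpotent
      have hcomm : P₁ = ⁅(⊤ : Subgroup D.KT), ⊤⁆ := by
        refine map_injective D.KT.subtype_injective ?_
        rw [map_commutator, ← MonoidHom.range_eq_map, range_subtype, subgroupOf_map_subtype,
          inf_eq_left.mpr hPT, ← e]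
      have hπP : P₁.map π = ⊤ := by
        refine eq_top_of_card_eq _ ?_
        rw [hP₁, Nat.card_congr (Equiv.ofBijective
          (fun y : (P₀ : Subgroup D.KT) => (⟨π y, ⟨y, y.2, rfl⟩⟩ : (P₀ : Subgroup D.KT).map π)) ⟨?_, ?_⟩).symm]
        · intro y z hyz
          have h1 : π (((y : D.KT))⁻¹ * (z : D.KT)) = 1 := by
            rw [map_mul, map_inv, show π (y : D.KT) = π (z : D.KT) from congrArg Subtype.val hyz, inv_mul_cancel]
          obtain ⟨i, hi⟩ := P₀.isPGroup' (y⁻¹ * z)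
          exact Subtype.ext (inv_mul_eq_one.mp (hπinj _ ⟨i, by simpa using congrArg Subtype.val hi⟩ h1))
        · rintro ⟨_, y, hy, rfl⟩
          exact ⟨⟨y, hy⟩, rfl⟩
      rw [hcomm, map_commutator, map_top_of_surjective π hπsurj] at hπP
      have : Nontrivial (P₀ : Subgroup D.KT) := by
        rw [← Finite.one_lt_card_iff_nontrivial, hcP₀]
        rcases Nat.eq_zero_or_pos i with h0 | h0
        · exfalso
          refine D.Q₁_ne_bot (eq_bot_iff.mpr (D.Q₁_le_DK.trans ?_))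
          rw [e, card_eq_one.mp (hcP.trans (by rw [show a = Nat.card (P : Subgroup G) from rfl, hi, h0, pow_zero]))]
        · rw [show a = Nat.card (P : Subgroup G) from rfl, hi]
          exact Nat.one_lt_pow h0.ne' hq.one_lt
      exact (Group.IsSolvable.commutator_lt_top_of_nontrivial (P₀ : Subgroup D.KT)).ne hπP
    have h2p := Coh.two_mul_index_lt (K := D.KT) D.odd_T hlt hPT (commutator_mono le_rfl hPT)
      fun k hk hkD x hx => D.frob_quot k (hPT hk) hkD x hx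
    rw [D.index_KT] at h2p
    have hmul : (D.DK).relIndex PT * PT.relIndex D.KT = (D.DK).relIndex D.KT := relIndex_mul_relIndex _ _ _ hDP hPT
    have hrelm : PT.relIndex D.KT = m := by
      refine Nat.eq_of_mul_eq_mul_left (Nat.card_pos (α := PT)) ?_
      rw [hcP, ← hm', ← D.card_KT, ← hcP, ← Nat.card_congr (subgroupOfEquivOfLe hPT).toEquiv, Subgroup.relIndex,
        card_mul_index]
    have hge : (2 * D.p + 1) * m ≤ D.p * D.R + 1 := by
      rw [D.R_eq, ← hmul, hrelm]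
      exact Nat.mul_le_mul_right m h2p
    have hge' : (2 * (D.p : ℤ) + 1) * m ≤ (D.p : ℤ) * D.R + 1 := by exact_mod_cast hge
    have hm2 : (2 : ℤ) ≤ m := by
      have : 2 ≤ m := by have := hcon.1; omega
      exact_mod_cast this
    have hp : (0 : ℤ) < D.p := by exact_mod_cast (Nat.card_pos (α := D.W₂))
    have hRm : 2 * (m : ℤ) < D.R := by nlinarith
    have hj1 : (1 : ℤ) ≤ j := by have := hcon.2; omega
    nlinarith
  have hfin : ∀ ξ', D.IsFam ξ' → (∀ θ : D.IK, ¬ D.KerZ D.Q₁ θ → D.xval ξ' θ = 0) → D.Good ξ' D.Q₁ := by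
    intro ξ' hξ' hz
    obtain ⟨μ, hμ, hμ1⟩ := D.exists_fixed_ne
    refine ⟨hξ', D.Q₁_le_DK, ⟨μ, hμ, hμ1, hz μ (fixed_out hμ hμ1)⟩, hz, ?_⟩
    have hI : (D.p : ℤ) * D.R + 1 ≤ I := by
      have h1 : (D.DK).relIndex D.KT ≤ (D.Q₁).relIndex D.KT :=
        Nat.le_of_dvd (Nat.pos_of_ne_zero index_ne_zero_of_finite) (relIndex_dvd_of_le_left _ D.Q₁_le_DK)
      rw [← D.R_eq] at h1
      exact_mod_cast h1
    rw [hcardI]
    push_cast
    have hp : (0 : ℤ) ≤ D.p := Int.natCast_nonneg _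
    have h2 : (D.p : ℤ) * 2 ≤ (D.p : ℤ) * D.R := mul_le_mul_of_nonneg_left hR hp
    have h3 := mul_le_mul_of_nonneg_left hI hq1.le
    nlinarith
  have hd : ∀ θ : D.IK, (0 : ℤ) < D.dZ (θ : D.KT → ℂ) := fun θ => lt_of_lt_of_le one_pos (dZ_pos θ)
  by_cases hjz : j = 0
  · refine ⟨ξ, hfin ξ hξ fun θ hθ => ?_⟩
    have hJz : J = 0 := by
      have h0 := hrel
      rw [hjz, mul_zero] at h0
      exact (mul_eq_zero.mp h0).resolve_left (by have := D.three_le_q; omega)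
    have h1 := (Finset.sum_eq_zero_iff_of_nonneg fun η hη =>
      mul_nonneg (hd η).le (hx0 η hη).1).mp hJz θ ((D.mem_out).mpr hθ)
    exact (mul_eq_zero.mp h1).resolve_left (hd θ).ne'
  obtain rfl := hm1.resolve_right hjz
  rw [Nat.cast_one, mul_one] at hjR
  have hj1 : j = 1 := by
    have h2 : 2 * j ≤ (D.R : ℤ) * j := mul_le_mul_of_nonneg_right hR hj0
    omega
  have hR2 : D.R = 2 := by
    rw [hj1, mul_one] at hjR
    omega
  refine ⟨_, hfin _ (D.isFam_flip hR2 hξ) fun θ hθ => ?_⟩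
  have hθ' := (D.mem_out).mpr hθ
  rw [hξ.xval_flip hR2 (hout θ hθ').1, sub_eq_zero]
  have hJI : J = ((D.q : ℤ) - 1) * I := by
    have hqne : (D.q : ℤ) ≠ 0 := by have := D.three_le_q; omega
    refine mul_left_cancel₀ hqne ?_
    rw [hrel, hj1]
    linear_combination -((D.q : ℤ) - 1) * hqI
  rw [hJ, ← hsq] at hJI
  have hle : ∀ η ∈ D.out D.Q₁, D.dZ (η : D.KT → ℂ) * D.xval ξ η ≤ D.dZ (η : D.KT → ℂ) ^ 2 := fun η hη => by
    have h1 := (hx0 η hη).2
    have hR2' : (D.R : ℤ) = 2 := by rw [hR2]; rfl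
    rw [hR2'] at h1
    rw [sq]
    exact mul_le_mul_of_nonneg_left (by linarith) (hd η).le
  have h1 := (Finset.sum_eq_sum_iff_of_le hle).mp hJI θ hθ'
  rw [sq] at h1
  exact (mul_left_cancel₀ (hd θ).ne' h1).symm

end TV

end CfsgLib.OddLocal.TypeFive
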