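import Cfsg.Agent.Lib.OddLocal.Final.TypeV.Central
import Cfsg.Agent.Lib.Char.Coherence.Filtration
import Cfsg.Agent.Lib.Char.Coherence.PGroup
import Cfsg.Agent.S1522

/-!
Owner: helper1. The case of a central subgroup of the derived kernel meeting `W₁` trivially: S1522 makes the
coefficient proportional to the degree, S1523 makes the factor integral, hence zero after a flip.
-/

set_option autoImplicit false
set_option linter.unusedSectionVars false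

open scoped Classical

namespace CfsgLib.OddLocal.TypeFive

open CfsgLib.Char CfsgLib.CyclicTI Subgroup
open scoped ComplexConjugate

namespace TV

variable {G : Type*} [Group G] [Fintype G] (D : TV G) (Z : Subgroup D.T)

/-- The hypotheses of the case. -/
structure FreeCase (r₀ : ℕ) : Prop where
  normal : Z.Normal
  le : Z ≤ D.DK
  ne_bot : Z ≠ ⊥
  central : ∀ z ∈ Z, ∀ k : D.KT, z * k = k * z
  disj : Z ⊓ D.Q₁ = ⊥
  pgroup : IsPGroup r₀ Z

variable {D Z} {r₀ : ℕ} [hr : Fact r₀.Prime] (h : D.FreeCase Z r₀)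

include h

theorem FreeCase.le_KT : Z ≤ D.KT := h.le.trans (commutator_le_self D.KT)

theorem FreeCase.mem_KT_of_comm {z x : D.T} (hz : z ∈ Z) (hz1 : z ≠ 1) (hx : x * z = z * x) : x ∈ D.KT := by
  have hx' : x ∈ ((D.KT ⊔ D.P : Subgroup D.T) : Set D.T) := by rw [D.sup_top]; trivial
  rw [normal_mul] at hx'
  obtain ⟨a, ha, b, hb, rfl⟩ := hx'
  by_cases hb1 : b = 1
  · simpa [hb1] using ha
  exfalso
  have hza : z * a = a * z := h.central z hz ⟨a, ha⟩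
  have hbz : b * z = z * b := by
    have e : a * (b * z) = a * (z * b) := by rw [← mul_assoc, hx, ← mul_assoc, ← mul_assoc, hza]
    exact mul_left_cancel e
  have hzQ : z ∈ D.Q₁ := by
    rw [← D.centP b hb hb1]
    exact ⟨h.le_KT hz, mem_centralizer_singleton_iff.mpr hbz.symm⟩
  exact hz1 (mem_bot.mp (h.disj ▸ ⟨hz, hzQ⟩))

theorem FreeCase.index_bound : 2 * D.p < Nat.card Z := by
  have := h.normal
  have hlt : (⊥ : Subgroup D.T) < Z := bot_lt_iff_ne_bot.mpr h.ne_bot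
  have h1 := Coh.two_mul_index_lt (K := D.KT) D.odd_T hlt h.le_KT (commutator_le.mpr fun k hk z hz => by
      rw [mem_bot, commutatorElement_eq_one_iff_mul_comm]
      exact (h.central z hz ⟨k, hk⟩).symm)
    fun k hk hk1 x hx => h.mem_KT_of_comm hk (fun e => hk1 (mem_bot.mpr e))
      (by rw [mem_bot, mul_inv_eq_one, mul_inv_eq_iff_eq_mul] at hx; exact hx)
  rwa [relIndex_bot_left, D.index_KT] at h1

theorem FreeCase.card_eq : Nat.card D.KT = Nat.card Z * Z.relIndex D.KT := by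
  rw [← Nat.card_congr (subgroupOfEquivOfLe h.le_KT).toEquiv, Subgroup.relIndex, card_mul_index]

theorem FreeCase.q_le : D.q ≤ Z.relIndex D.KT := by
  have hinj : Function.Injective fun y : Z × D.Q₁ =>
      (⟨(y.1 : D.T) * y.2, mul_mem (h.le_KT y.1.2) (D.Q₁_le y.2.2)⟩ : D.KT) := by
    rintro ⟨⟨z, hz⟩, ⟨a, ha⟩⟩ ⟨⟨z', hz'⟩, ⟨a', ha'⟩⟩ e
    have e' : z * a = z' * a' := congrArg Subtype.val e
    have e2 : z'⁻¹ * z = a' * a⁻¹ := by
      calc z'⁻¹ * z = z'⁻¹ * (z * a) * a⁻¹ := by group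
        _ = a' * a⁻¹ := by rw [e']; group
    have h1 : z'⁻¹ * z = 1 :=
      mem_bot.mp (h.disj ▸ (mem_inf.mpr
        ⟨Z.mul_mem (Z.inv_mem hz') hz, e2 ▸ D.Q₁.mul_mem ha' (D.Q₁.inv_mem ha)⟩ : z'⁻¹ * z ∈ Z ⊓ D.Q₁))
    have h2 : a' * a⁻¹ = 1 := e2.symm.trans h1
    exact Prod.ext (Subtype.ext (inv_mul_eq_one.mp h1).symm) (Subtype.ext (mul_inv_eq_one.mp h2).symm)
  have hc := Nat.card_le_card_of_injective _ hinj
  rw [Nat.card_prod, D.card_Q₁, h.card_eq] at hc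
  exact Nat.le_of_mul_le_mul_left hc Nat.card_pos

theorem FreeCase.fixed_kerZ {θ : D.IK} (hf : D.IsFixed (θ : D.KT → ℂ)) : D.KerZ Z θ := by
  have := h.normal
  intro a ha
  -- `z ↦ x₀ z x₀⁻¹ z⁻¹` is bijective on `Z`
  let F : Z → Z := fun z => ⟨D.x₀ * z * D.x₀⁻¹ * (z : D.T)⁻¹,
    mul_mem (h.normal.conj_mem _ z.2 _) (inv_mem z.2)⟩
  have hinj : Function.Injective F := by
    rintro ⟨z, hz⟩ ⟨z', hz'⟩ e
    have e' : D.x₀ * z * D.x₀⁻¹ * z⁻¹ = D.x₀ * z' * D.x₀⁻¹ * z'⁻¹ := congrArg Subtype.val e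
    refine Subtype.ext (inv_mul_eq_one.mp ?_).symm
    by_contra hne
    have hm : z'⁻¹ * z ∈ Z := mul_mem (inv_mem hz') hz
    have hcomm : z * (z')⁻¹ = z'⁻¹ * z := h.central z hz ⟨z'⁻¹, h.le_KT (inv_mem hz')⟩
    have e3 : D.x₀ * (z'⁻¹ * z) * D.x₀⁻¹ = z'⁻¹ * z := by
      calc D.x₀ * (z'⁻¹ * z) * D.x₀⁻¹ = (D.x₀ * z' * D.x₀⁻¹)⁻¹ * ((D.x₀ * z * D.x₀⁻¹ * z⁻¹) * z) := by group
        _ = (D.x₀ * z' * D.x₀⁻¹)⁻¹ * ((D.x₀ * z' * D.x₀⁻¹ * z'⁻¹) * z) := by rw [e']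
        _ = z'⁻¹ * z := by group
    refine D.x₀_ne_one (mem_bot.mp (D.inf_bot ▸ ⟨h.mem_KT_of_comm hm hne ?_, D.x₀_mem⟩))
    rwa [mul_inv_eq_iff_eq_mul] at e3
  obtain ⟨⟨z, hz⟩, hzF⟩ := (Finite.injective_iff_surjective.mp hinj) ⟨a, ha⟩
  have ha' : (a : D.T) = D.x₀ * z * D.x₀⁻¹ * z⁻¹ := (congrArg Subtype.val hzF).symm
  set w : D.KT := ⟨z, h.le_KT hz⟩
  set v : D.KT := ⟨D.x₀ * z * D.x₀⁻¹, h.le_KT (h.normal.conj_mem _ hz _)⟩
  have hv : (θ : D.KT → ℂ) v = (θ : D.KT → ℂ) w := congrFun (hf D.x₀ D.x₀_mem) w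
  have hcen : ∀ u ∈ Z, ∀ hu : u ∈ D.KT, ∀ k : D.KT, (⟨u, hu⟩ : D.KT) * k = k * ⟨u, hu⟩ :=
    fun u hu _ k => Subtype.ext (h.central u hu k)
  have e1 := D.central_mul θ (hcen _ (inv_mem hz) (h.le_KT (inv_mem hz))) v
  have e2 := D.central_mul θ (hcen _ (inv_mem hz) (h.le_KT (inv_mem hz))) w
  have i1 : (⟨z⁻¹, h.le_KT (inv_mem hz)⟩ : D.KT) * w = 1 := Subtype.ext (inv_mul_cancel z)
  have i2 : (⟨z⁻¹, h.le_KT (inv_mem hz)⟩ : D.KT) * v = a := Subtype.ext (by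
    show z⁻¹ * (D.x₀ * z * D.x₀⁻¹) = (a : D.T)
    rw [ha', h.central z⁻¹ (inv_mem hz) v])
  rw [i1] at e2
  rw [i2, hv, ← e2] at e1
  exact mul_left_cancel₀ (IsIrr.apply_one_ne_zero θ.2) e1

theorem FreeCase.exists_rdeg :
    ∃ θ : D.IK, ¬ D.KerZ Z θ ∧ ∃ k, D.dZ (θ : D.KT → ℂ) = ((r₀ ^ k : ℕ) : ℤ) := by
  obtain ⟨z, hz, hz1⟩ := (bot_or_exists_ne_one Z).resolve_left h.ne_bot
  obtain ⟨j, hj⟩ := h.pgroup ⟨z, hz⟩
  set a : D.KT := ⟨z, h.le_KT hz⟩
  have ha1 : a ≠ 1 := fun e => hz1 (congrArg Subtype.val e)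
  have haj : a ^ r₀ ^ j = 1 := Subtype.ext (by simpa using congrArg Subtype.val hj)
  have hd : r₀ ∣ Nat.card D.KT := by
    obtain ⟨i, -, hi⟩ := (Nat.dvd_prime_pow hr.out).mp (orderOf_dvd_of_pow_eq_one haj)
    refine (dvd_pow_self r₀ ?_).trans (hi ▸ orderOf_dvd_natCard a)
    rintro rfl
    exact ha1 (orderOf_eq_one_iff.mp (by rw [hi, pow_zero]))
  obtain ⟨P₀⟩ := (inferInstance : Nonempty (Sylow r₀ D.KT))
  obtain ⟨π, hπsurj, hπinj⟩ := D.exists_proj hd P₀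
  have hπa : π a ≠ 1 := fun e => ha1 (hπinj a ⟨j, haj⟩ e)
  have := Fintype.ofFinite (Cfsg.IrrCharacter (P₀ : Subgroup D.KT))
  obtain ⟨φ, hφ⟩ : ∃ φ : Cfsg.IrrCharacter (P₀ : Subgroup D.KT),
      (φ : ↥(P₀ : Subgroup D.KT) → ℂ) (π a) ≠ (φ : ↥(P₀ : Subgroup D.KT) → ℂ) 1 := by
    by_contra hcon
    push Not at hcon
    have h0 := Coh.sum_degree_mul_sub (L := (P₀ : Subgroup D.KT)) hπa
    rw [Finset.sum_eq_zero fun φ _ => by rw [hcon φ, sub_self, mul_zero]] at h0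
    exact neg_ne_zero.mpr (Nat.cast_ne_zero.mpr Nat.card_pos.ne') h0.symm
  refine ⟨⟨fun g => (φ : ↥(P₀ : Subgroup D.KT) → ℂ) (π g), IsIrr.comp_surjective π hπsurj φ.2⟩, fun hker => hφ ?_, ?_⟩
  · have := hker a hz
    simpa using this
  · obtain ⟨n, -, hn'⟩ := IsIrr.exists_degree φ.2
    obtain ⟨k, hk⟩ := IsPGroup.iff_card.mp P₀.isPGroup'
    obtain ⟨i, -, hi⟩ := (Nat.dvd_prime_pow hr.out).mp (hk ▸ Exceptional.DegreeLtPrime.degree_dvd_card φ hn')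
    refine ⟨i, ?_⟩
    show round ((φ : ↥(P₀ : Subgroup D.KT) → ℂ) (π 1)).re = _
    rw [map_one, hn', Complex.natCast_re, round_natCast, hi]

theorem FreeCase.free_out {θ : D.IK} (hθ : ¬ D.KerZ Z θ) :
    ¬ D.IsFixed (θ : D.KT → ℂ) ∧ D.NotLin θ ∧ θ ≠ D.triv :=
  ⟨fun hf => hθ (h.fixed_kerZ hf), D.notLin_of_not_kerZ h.le hθ⟩

/-- The coefficient is proportional to the degree outside the kernel of `Z`. -/
theorem FreeCase.proportional {ξ : (D.T → ℂ) → G → ℂ} (hξ : D.IsFam ξ) {θ θ' : D.IK} (hθ : ¬ D.KerZ Z θ)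
    (hθ' : ¬ D.KerZ Z θ') :
    D.dZ (θ' : D.KT → ℂ) * D.xval ξ θ = D.dZ (θ : D.KT → ℂ) * D.xval ξ θ' := by
  have := h.normal
  set X := Cfsg.inducedIrrAbove D.KT ⊥ \ Cfsg.inducedIrrAbove D.KT Z with hX
  have hmem : ∀ θ : D.IK, ¬ D.KerZ Z θ → Cfsg.indFun D.KT (θ : D.KT → ℂ) ∈ X := fun θ hθ => by
    refine ⟨D.mem_S₀ (h.free_out hθ).2.2, fun hA => hθ ?_⟩
    exact (Exceptional.ker_iff_indFun Z D.KT h.le_KT (IsIrr.isCharacter θ.2)).mpr
      ((Coh.mem_above_iff h.le_KT).mp hA).2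
  have hirr : ∀ χ ∈ X, Cfsg.IsIrrCharacter D.T χ := fun χ hχ => by
    obtain ⟨η, hne, rfl⟩ := D.exists_of_mem_S₀ hχ.1
    refine D.isIrr_ind_of_moved η.2 fun hf => hχ.2 ⟨η, η.2, fun e => hne (Subtype.ext e), h.fixed_kerZ hf, rfl⟩
  obtain ⟨-, -, τ₂, hτ₂, hext⟩ := Cfsg.Agent.S1522.result D.KT D.solvable_KT D.tau D.sysR D.system D.odd_T
    D.nilpotent_KT D.DK_lt D.KT_lt_top D.frob_quot Z h.ne_bot h.le_KT
    (fun z hz k hk => h.central z hz ⟨k, hk⟩) hirr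
  have hlinmap : ∀ a b : D.T → ℂ, a ∈ Cfsg.zspan X → b ∈ Cfsg.zspan X → ∀ m n : ℤ,
      τ₂ (m • a - n • b) = m • τ₂ a - n • τ₂ b := fun a b ha hb m n => by
    have hma : m • a ∈ Cfsg.zspan X := (Submodule.span ℤ X).smul_mem m ha
    have hnb : n • b ∈ Cfsg.zspan X := (Submodule.span ℤ X).smul_mem n hb
    have h' := hτ₂.1 _ ((Submodule.span ℤ X).sub_mem hma hnb) _ hnb
    rw [sub_add_cancel, hτ₂.2.1 a ha, hτ₂.2.1 b hb] at h'
    rw [h']
    abel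
  have hsigned : ∀ χ ∈ X, SignedIrr (τ₂ χ) := fun χ hχ =>
    Exceptional.IsGen.norm_one' (hτ₂.2.2.2 χ (Exceptional.mem_zspan_self hχ)) (by
      rw [hτ₂.2.2.1 χ (Exceptional.mem_zspan_self hχ) χ (Exceptional.mem_zspan_self hχ),
        Exceptional.classInner_self_of_irr (hirr χ hχ)])
  -- `τ` of a degree zero combination of two members
  have hcomb : ∀ η η' : D.IK, ¬ D.KerZ Z η → ¬ D.KerZ Z η' → ∀ m n : ℤ,
      m * D.dZ (η : D.KT → ℂ) = n * D.dZ (η' : D.KT → ℂ) → ∀ φ ∈ D.Mem,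
      Cfsg.classInner (m • τ₂ (Cfsg.indFun D.KT (η : D.KT → ℂ)) - n • τ₂ (Cfsg.indFun D.KT (η' : D.KT → ℂ))) (ξ φ) =
        ((m * D.mZ (ξ φ) (η : D.KT → ℂ) - n * D.mZ (ξ φ) (η' : D.KT → ℂ) : ℤ) : ℂ) := by
    intro η η' hη hη' m n hmn φ hφ
    have ha := Exceptional.mem_zspan_self (hmem η hη)
    have hb := Exceptional.mem_zspan_self (hmem η' hη')
    set f : D.KT → ℂ := (m : ℂ) • (η : D.KT → ℂ) - (n : ℂ) • (η' : D.KT → ℂ) with hf
    have hf1 : f 1 = 0 := by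
      rw [hf, Pi.sub_apply, Pi.smul_apply, Pi.smul_apply, smul_eq_mul, smul_eq_mul, ← D.coe_dZ (D.isGen_irr η),
        ← D.coe_dZ (D.isGen_irr η'), ← Int.cast_mul, ← Int.cast_mul, hmn, sub_self]
    have hind : m • Cfsg.indFun D.KT (η : D.KT → ℂ) - n • Cfsg.indFun D.KT (η' : D.KT → ℂ) = Cfsg.indFun D.KT f := by
      rw [hf, indFun_sub, indFun_smul, indFun_smul, Int.cast_smul_eq_zsmul ℂ, Int.cast_smul_eq_zsmul ℂ]
    have hin : Cfsg.indFun D.KT f ∈ Cfsg.zspanOn X ({1}ᶜ : Set D.T) := by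
      refine ⟨hind ▸ (Submodule.span ℤ X).sub_mem ((Submodule.span ℤ X).smul_mem m ha)
        ((Submodule.span ℤ X).smul_mem n hb), fun x hx => ?_⟩
      rw [Set.mem_compl_iff, not_not, Set.mem_singleton_iff] at hx
      rw [hx, indFun_apply_one, hf1, mul_zero]
    have hfgen : Cfsg.IsGeneralizedCharacter D.KT f :=
      Exceptional.IsGen.sub (Exceptional.IsGen.intCast_smul m (D.isGen_irr η))
        (Exceptional.IsGen.intCast_smul n (D.isGen_irr η'))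
    rw [← hlinmap _ _ ha hb, hind, hext _ hin]
    refine (D.inner_ind_eq (hξ.gen hφ) hfgen).trans ?_
    push_cast
    rw [D.coe_mZ (hξ.gen hφ) hfgen, D.coe_mZ (hξ.gen hφ) (D.isGen_irr η), D.coe_mZ (hξ.gen hφ) (D.isGen_irr η'),
      mult, hf, classInner_sub_left, classInner_smul_left, classInner_smul_left]
    rfl
  obtain ⟨c, hc⟩ := D.exists_lin
  have hφ := D.mem_of_lin hc
  set f := ξ (Cfsg.indFun D.KT (c : D.KT → ℂ))
  have hm : ∀ η : D.IK, ¬ D.KerZ Z η →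
      D.mZ f (η : D.KT → ℂ) = D.xval ξ η + D.dZ (η : D.KT → ℂ) * (D.mZ f (c : D.KT → ℂ) - 1) := fun η hη => by
    have h1 := hξ.mult_dd (h.free_out hη).2.1 hc hφ
    rw [if_pos rfl, D.mZ_dd (hξ.gen hφ)] at h1
    linear_combination h1
  have horth : ∀ η : D.IK, ¬ D.KerZ Z η → Cfsg.classInner (τ₂ (Cfsg.indFun D.KT (η : D.KT → ℂ))) f = 0 := by
    intro η hη
    have hη' : ¬ D.KerZ Z (conjIrr η) := fun hk => hη (D.kerZ_conj.mp hk)
    have hne : Cfsg.indFun D.KT (η : D.KT → ℂ) ≠ Cfsg.indFun D.KT (conjIrr η : D.KT → ℂ) := fun e => by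
      have h1 := D.inner_indT_conj (h.free_out hη).2.2
      rw [← e, D.norm_indT_free (h.free_out hη).1] at h1
      exact one_ne_zero h1
    refine orth_of_sub (y := τ₂ (Cfsg.indFun D.KT (conjIrr η : D.KT → ℂ))) (hsigned _ (hmem η hη))
      (hξ.signed _ hφ) ?_ ?_
    · rw [hτ₂.2.2.1 _ (Exceptional.mem_zspan_self (hmem η hη)) _ (Exceptional.mem_zspan_self (hmem _ hη'))]
      exact Exceptional.classInner_eq_zero_of_irr (hirr _ (hmem η hη)) (hirr _ (hmem _ hη')) hne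
    · have h1 := hcomb η (conjIrr η) hη hη' 1 1 (by rw [D.dZ_conj]) _ hφ
      rw [one_zsmul, one_zsmul, hm η hη, hm _ hη', hξ.xval_conj (h.free_out hη).2.1, D.dZ_conj, sub_self,
        Int.cast_zero] at h1
      exact h1
  have h1 := hcomb θ θ' hθ hθ' (D.dZ (θ' : D.KT → ℂ)) (D.dZ (θ : D.KT → ℂ)) (mul_comm _ _) _ hφ
  rw [classInner_sub_left, ← Int.cast_smul_eq_zsmul ℂ, ← Int.cast_smul_eq_zsmul ℂ, classInner_smul_left,
    classInner_smul_left, horth θ hθ, horth θ' hθ', mul_zero, mul_zero, sub_self, hm θ hθ, hm θ' hθ'] at h1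
  have h2 := Int.cast_injective (α := ℂ) (h1.symm.trans Int.cast_zero.symm)
  linear_combination h2

/-- After a possible flip the coefficient vanishes outside the kernel of `Z`. -/
theorem FreeCase.exists_zero : ∃ ξ, D.IsFam ξ ∧ ∀ θ : D.IK, ¬ D.KerZ Z θ → D.xval ξ θ = 0 := by
  have := h.normal
  obtain ⟨ξ, hξ⟩ := D.exists_fam
  obtain ⟨θ₀, hθ₀, k₀, hd₀⟩ := h.exists_rdeg
  set d₀ := D.dZ (θ₀ : D.KT → ℂ) with hd₀'
  set x₀ := D.xval ξ θ₀ with hx₀'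
  have hd₀pos : 1 ≤ d₀ := dZ_pos θ₀
  obtain ⟨c, hc⟩ := D.exists_lin
  have hφ := D.mem_of_lin hc
  set f := ξ (Cfsg.indFun D.KT (c : D.KT → ℂ))
  set K₀ := D.mZ f (c : D.KT → ℂ) - 1
  have hgen : Cfsg.IsGeneralizedCharacter G f := hξ.gen hφ
  have hm : ∀ η : D.IK, ¬ D.KerZ Z η →
      D.mZ f (η : D.KT → ℂ) = D.xval ξ η + D.dZ (η : D.KT → ℂ) * K₀ := fun η hη => by
    have h1 := hξ.mult_dd (h.free_out hη).2.1 hc hφ
    rw [if_pos rfl, D.mZ_dd hgen] at h1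
    linear_combination h1
  have hdef : ∀ z : D.KT, (z : D.T) ∈ Z → z ≠ 1 → (d₀ : ℂ) * (f 1 - f ((z : D.T) : G)) =
      ((x₀ + d₀ * K₀ : ℤ) : ℂ) * (Nat.card D.KT : ℂ) := fun z hz hz1 => by
    rw [D.deficit_out hgen hz, ← D.sum_deficit hz hz1, Finset.mul_sum, Finset.mul_sum]
    refine Finset.sum_congr rfl fun φ hφ' => ?_
    have hφo := (D.mem_out).mp hφ'
    rw [← D.coe_dZ (D.isGen_irr φ), hm φ hφo]
    have hp := congrArg (Int.cast (R := ℂ)) (h.proportional hξ hθ₀ hφo)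
    push_cast at hp ⊢
    linear_combination (-((D.dZ (φ : D.KT → ℂ) : ℂ) - (φ : D.KT → ℂ) z)) * hp
  obtain ⟨z, hz, hz1⟩ := (bot_or_exists_ne_one Z).resolve_left h.ne_bot
  have hrK : r₀ ∣ Nat.card D.K := by
    rw [← D.card_KT]
    refine dvd_trans ?_ (card_dvd_of_le h.le_KT)
    obtain ⟨i, hi⟩ := IsPGroup.iff_card.mp h.pgroup
    rw [hi]
    refine dvd_pow_self r₀ ?_
    rintro rfl
    exact h.ne_bot (card_eq_one.mp (by rw [hi, pow_zero]))
  obtain ⟨P, hP⟩ := D.exists_kerSylow r₀ hrK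
  have hd₀C : (d₀ : ℂ) ≠ 0 := Int.cast_ne_zero.mpr (by omega)
  obtain ⟨n, hn⟩ := D.sylow_congr hP (hP.mem _ (by rintro _ ⟨w, hw, rfl⟩; exact h.le_KT hw) (h.pgroup.map _))
    h.ne_bot h.central
    (fun u hu v hv hu1 hv1 => by
      ext g
      simp only [mem_inf, mem_centralizer_singleton_iff]
      refine and_congr_right fun hg => ⟨fun e => ?_, fun e => ?_⟩
      · exact congrArg Subtype.val (h.central v hv ⟨⟨g, hg⟩, h.mem_KT_of_comm hu hu1 (Subtype.ext e)⟩).symm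
      · exact congrArg Subtype.val (h.central u hu ⟨⟨g, hg⟩, h.mem_KT_of_comm hv hv1 (Subtype.ext e)⟩).symm)
    (hξ.signed _ hφ) (fun u hu v hv hu1 hv1 => by
      have h1 := hdef ⟨u, h.le_KT hu⟩ hu fun e => hu1 (congrArg Subtype.val e)
      have h2 := hdef ⟨v, h.le_KT hv⟩ hv fun e => hv1 (congrArg Subtype.val e)
      have h3 := mul_left_cancel₀ hd₀C (h1.trans h2.symm)
      exact sub_right_injective h3) hz hz1
  have h1 := hdef ⟨z, h.le_KT hz⟩ hz fun e => hz1 (congrArg Subtype.val e)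
  rw [hn] at h1
  have h1' : d₀ * ((Nat.card (P : Subgroup G) : ℤ) * n) = (x₀ + d₀ * K₀) * (Nat.card D.KT : ℤ) := by
    exact_mod_cast h1
  obtain ⟨m, hm'⟩ : Nat.card (P : Subgroup G) ∣ Nat.card D.K := card_dvd_of_le hP.le
  rw [D.card_KT, hm', Nat.cast_mul] at h1'
  have h2 : d₀ * n = (x₀ + d₀ * K₀) * (m : ℤ) :=
    mul_left_cancel₀ (Nat.cast_ne_zero.mpr (Nat.card_pos (α := (P : Subgroup G))).ne') (by linear_combination h1')
  have hcop : IsCoprime d₀ (m : ℤ) := by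
    rw [hd₀, Nat.isCoprime_iff_coprime]
    exact (hP.coprime m hm').pow_left _
  obtain ⟨j, hj⟩ : d₀ ∣ x₀ :=
    hcop.dvd_of_dvd_mul_right ⟨n - K₀ * m, by linear_combination -h2⟩
  have hxj : ∀ η : D.IK, ¬ D.KerZ Z η → D.xval ξ η = D.dZ (η : D.KT → ℂ) * j := fun η hη => by
    have hp := h.proportional hξ hθ₀ hη
    rw [← hd₀', ← hx₀', hj] at hp
    exact mul_left_cancel₀ (show d₀ ≠ 0 by omega) (by linear_combination -hp)
  have hb := hξ.free_bound (h.free_out hθ₀).1 (h.free_out hθ₀).2.1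
  rw [← hd₀', ← hx₀', hj] at hb
  have hR : (2 : ℤ) ≤ D.R := by exact_mod_cast D.two_le_R
  have hjR : (D.R : ℤ) * j ^ 2 - 2 * j ≤ 0 := by
    by_contra hcon
    push Not at hcon
    have : 0 < d₀ ^ 2 * ((D.R : ℤ) * j ^ 2 - 2 * j) := mul_pos (by positivity) hcon
    nlinarith
  by_cases hj0 : j = 0
  · exact ⟨ξ, hξ, fun η hη => by rw [hxj η hη, hj0, mul_zero]⟩
  have hj1 : j = 1 := by
    have hsq : 0 ≤ (D.R : ℤ) * j ^ 2 := by positivity
    have h1 : 1 ≤ j := by omega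
    have h2 : (D.R : ℤ) * j ≤ 2 := le_of_mul_le_mul_right (by linarith) (show (0 : ℤ) < j by omega)
    nlinarith
  have hR2 : D.R = 2 := by subst hj1; omega
  exact ⟨_, D.isFam_flip hR2 hξ, fun η hη => by
    rw [hξ.xval_flip hR2 (h.free_out hη).2.1, hxj η hη, hj1, mul_one, sub_self]⟩

theorem FreeCase.good : ∃ ξ, D.Good ξ Z := by
  have := h.normal
  obtain ⟨ξ, hξ, hzero⟩ := h.exists_zero
  obtain ⟨μ, hμ, hμ1⟩ := D.exists_fixed_ne
  obtain ⟨c, hc⟩ := D.exists_lin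
  have hidx : 2 * (D.p : ℤ) * (Z.relIndex D.KT : ℤ) ≤ (Nat.card D.KT : ℤ) - (Z.relIndex D.KT : ℤ) := by
    have h1 : (2 * (D.p : ℤ) + 1) ≤ (Nat.card Z : ℤ) := by exact_mod_cast h.index_bound
    rw [h.card_eq, Nat.cast_mul]
    nlinarith
  refine ⟨ξ, hξ, h.le, ⟨μ, hμ, hμ1, ?_⟩, hzero, ?_⟩
  swap
  · have h1 : (D.q : ℤ) ≤ (Z.relIndex D.KT : ℤ) := by exact_mod_cast h.q_le
    have hp : (0 : ℤ) ≤ D.p := Int.natCast_nonneg _
    have h2 : (0 : ℤ) ≤ (D.p : ℤ) * D.R := by positivity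
    nlinarith
  -- an orthonormal family from the members outside the kernel of `Z`
  set A := Cfsg.inducedIrrAbove D.KT ⊥ \ Cfsg.inducedIrrAbove D.KT Z with hA
  have hAfin : A.Finite := (Exceptional.sys_finite D.system).subset Set.sdiff_subset
  have : Fintype A := hAfin.fintype
  have hrep : ∀ χ : A, ∃ η : D.IK, ¬ D.KerZ Z η ∧ (χ : D.T → ℂ) = Cfsg.indFun D.KT (η : D.KT → ℂ) := fun χ => by
    obtain ⟨η, hne, e⟩ := D.exists_of_mem_S₀ χ.2.1
    exact ⟨η, fun hk => χ.2.2 ⟨η, η.2, fun e => hne (Subtype.ext e), hk, e⟩, e⟩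
  choose ρ hρ hρe using hrep
  set u : A → G → ℂ := fun χ =>
    D.ind (D.dd (ρ χ) c) + (D.dZ (ρ χ : D.KT → ℂ) : ℂ) • ξ (Cfsg.indFun D.KT (c : D.KT → ℂ))
  have hux : ∀ χ : A, ∀ φ ∈ D.Mem, Cfsg.classInner (u χ) (ξ φ) = 0 := fun χ φ hφ => by
    simp only [u]
    rw [classInner_add_left, classInner_smul_left, D.inner_ind_eq (hξ.gen hφ) (D.dd_gen _ c),
      hξ.mult_dd (h.free_out (hρ χ)).2.1 hc hφ, hzero _ (hρ χ), hξ.inner (D.mem_of_lin hc) hφ]
    push_cast [apply_ite (Int.cast (R := ℂ))]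
    ring
  have hdd : ∀ χ χ' : A, Cfsg.classInner (D.ind (D.dd (ρ χ) c)) (D.ind (D.dd (ρ χ') c)) =
      (if χ = χ' then 1 else 0) + (D.dZ (ρ χ : D.KT → ℂ) : ℂ) * D.dZ (ρ χ' : D.KT → ℂ) := fun χ χ' => by
    have h1 := D.inner_indT_lin (h.free_out (hρ χ)).2.1 hc
    have h2 : Cfsg.classInner (Cfsg.indFun D.KT (c : D.KT → ℂ)) (Cfsg.indFun D.KT (ρ χ' : D.KT → ℂ)) = 0 := by
      rw [← classInner_conj_symm, D.inner_indT_lin (h.free_out (hρ χ')).2.1 hc, map_zero]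
    rw [D.inner_ind_ind (D.dd_zero _ hc) (D.dd_zero _ hc), D.indT_dd, D.indT_dd, classInner_sub_left,
      classInner_sub_right, classInner_sub_right, classInner_smul_left, classInner_smul_left,
      classInner_smul_right, classInner_smul_right, D.norm_indT_free (D.not_fixed_lin hc), h1, h2, map_intCast]
    have h3 : Cfsg.classInner (Cfsg.indFun D.KT (ρ χ : D.KT → ℂ)) (Cfsg.indFun D.KT (ρ χ' : D.KT → ℂ)) =
        if χ = χ' then 1 else 0 := by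
      rw [Exceptional.classInner_of_irr (D.isIrr_ind_of_moved (ρ χ).2 (h.free_out (hρ χ)).1)
        (D.isIrr_ind_of_moved (ρ χ').2 (h.free_out (hρ χ')).1), ← hρe, ← hρe]
      by_cases e : χ = χ'
      · rw [if_pos e, if_pos (by rw [e])]
      · rw [if_neg e, if_neg fun e' => e (Subtype.ext e')]
    rw [h3]
    ring
  have hu : ∀ χ χ' : A, Cfsg.classInner (u χ) (u χ') = if χ = χ' then 1 else 0 := fun χ χ' => by
    have hm := D.mem_of_lin hc
    have e1 : ∀ χ : A, Cfsg.classInner (D.ind (D.dd (ρ χ) c)) (ξ (Cfsg.indFun D.KT (c : D.KT → ℂ))) =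
        -(D.dZ (ρ χ : D.KT → ℂ) : ℂ) := fun χ => by
      rw [D.inner_ind_eq (hξ.gen hm) (D.dd_gen _ c), hξ.mult_dd (h.free_out (hρ χ)).2.1 hc hm, hzero _ (hρ χ),
        if_pos rfl]
      push_cast; ring
    have e2 : Cfsg.classInner (ξ (Cfsg.indFun D.KT (c : D.KT → ℂ))) (D.ind (D.dd (ρ χ') c)) =
        -(D.dZ (ρ χ' : D.KT → ℂ) : ℂ) := by
      rw [← classInner_conj_symm, e1, map_neg, map_intCast]
    simp only [u]
    rw [classInner_add_left, classInner_add_right, classInner_add_right, classInner_smul_left, classInner_smul_left,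
      classInner_smul_right, classInner_smul_right, hdd, e1, e2, signed_self (hξ.signed _ hm), map_intCast]
    ring
  have hue : ∀ χ : A, ∀ l k, Cfsg.classInner (u χ) (D.eta l k) = 0 := fun χ l k => by
    simp only [u]
    rw [classInner_add_left, classInner_smul_left, hξ.eta (D.mem_of_lin hc), mul_zero, add_zero,
      D.inner_eta (D.dd_gen _ c)]
    have hb := (hξ.bessel' (h.free_out (hρ χ)).2.1 hc (N := 1)
      (by rw [D.norm_indT_free (h.free_out (hρ χ)).1, Int.cast_one])).1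
    rw [hzero _ (hρ χ)] at hb
    have h00 : D.coef (D.dd (ρ χ) c) 1 1 = 0 := by
      rw [coef, D.mZ_dd (D.eta_isGen 1 1), D.coef_one, D.coef_one, if_neg (h.free_out (hρ χ)).2.2,
        if_neg hc.2]
      ring
    rw [additive_eq_zero 1 1 (D.card_L₁.symm ▸ D.three_le_q) (D.card_L₂.symm ▸ D.three_le_p)
      (D.coef (D.dd (ρ χ) c)) (fun l k => by
        have h' := D.coef_add (D.dd_gen (ρ χ) c) (D.dd_zero _ hc) l k
        omega) (by linarith) l k, Int.cast_zero]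
  have hb : ∀ χ : A, Cfsg.classInner (D.ind (D.dd μ c)) (u χ) =
      ((D.dZ (ρ χ : D.KT → ℂ) * D.xval ξ μ : ℤ) : ℂ) := fun χ => by
    have hnl := D.notLin_of_fixed hμ
    have h1 : Cfsg.classInner (Cfsg.indFun D.KT (μ : D.KT → ℂ)) (Cfsg.indFun D.KT (ρ χ : D.KT → ℂ)) = 0 :=
      D.inner_indT_fixed hμ fun e => (h.free_out (hρ χ)).1 (e ▸ hμ)
    have h2 : Cfsg.classInner (Cfsg.indFun D.KT (c : D.KT → ℂ)) (Cfsg.indFun D.KT (ρ χ : D.KT → ℂ)) = 0 := by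
      rw [← classInner_conj_symm, D.inner_indT_lin (h.free_out (hρ χ)).2.1 hc, map_zero]
    simp only [u]
    rw [classInner_add_right, classInner_smul_right, D.inner_ind_eq (hξ.gen (D.mem_of_lin hc)) (D.dd_gen μ c),
      hξ.mult_dd hnl hc (D.mem_of_lin hc), if_pos rfl, D.inner_ind_ind (D.dd_zero _ hc) (D.dd_zero _ hc),
      D.indT_dd, D.indT_dd, classInner_sub_left, classInner_sub_right, classInner_sub_right, classInner_smul_left,
      classInner_smul_left, classInner_smul_right, classInner_smul_right, D.norm_indT_free (D.not_fixed_lin hc),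
      h1, h2, D.inner_indT_lin hnl hc, map_intCast]
    push_cast
    ring
  have hbes := (hξ.bessel (D.notLin_of_fixed hμ) hc u _
    (fun i j => by
      rw [hu i j]
      by_cases e : i = j
      · rw [if_pos e, if_pos e]
      · rw [if_neg e, if_neg e]) hue hux hb (N := (D.p : ℤ))
    (by rw [D.norm_indT_fixed hμ, Int.cast_natCast])).1
  have hfix : (D.p : ℤ) ≤ ∑ l, ∑ k, D.coef (D.dd μ c) l k ^ 2 := (D.fixed_part hc hμ hμ1).1
  set x := D.xval ξ μ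
  set d := D.dZ (μ : D.KT → ℂ)
  set W : ℤ := ∑ χ : A, D.dZ (ρ χ : D.KT → ℂ) ^ 2 with hW
  have hWsum : ∑ χ : A, (D.dZ (ρ χ : D.KT → ℂ) * x) ^ 2 = W * x ^ 2 := by
    rw [hW, Finset.sum_mul]
    exact Finset.sum_congr rfl fun χ _ => mul_pow _ _ 2
  rw [hWsum] at hbes
  have hpW : (D.p : ℤ) * W = (Nat.card D.KT : ℤ) - (Z.relIndex D.KT : ℤ) := by
    have f1 : (Cfsg.inducedIrrAbove D.KT (⊥ : Subgroup D.T)).Finite := Exceptional.sys_finite D.system
    have : Fintype (Cfsg.inducedIrrAbove D.KT (⊥ : Subgroup D.T)) := f1.fintype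
    have : Fintype (Cfsg.inducedIrrAbove D.KT Z) :=
      (f1.subset (Coh.inducedIrrAbove_subset Z)).fintype
    have w1 := Coh.sum_wt (K := D.KT) (⊥ : Subgroup D.T)
    have w2 := Coh.sum_wt (K := D.KT) Z
    rw [relIndex_bot_left, D.index_KT] at w1
    rw [D.index_KT] at w2
    rw [← Finset.sum_subtype (Cfsg.inducedIrrAbove D.KT (⊥ : Subgroup D.T)).toFinset (fun x => Set.mem_toFinset)
      Coh.wt] at w1
    rw [← Finset.sum_subtype (Cfsg.inducedIrrAbove D.KT Z).toFinset (fun x => Set.mem_toFinset) Coh.wt] at w2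
    have hsub : (Cfsg.inducedIrrAbove D.KT Z).toFinset ⊆
        (Cfsg.inducedIrrAbove D.KT (⊥ : Subgroup D.T)).toFinset :=
      Set.toFinset_subset_toFinset.mpr (Coh.inducedIrrAbove_subset Z)
    rw [← Finset.sum_sdiff hsub, w2, show (Cfsg.inducedIrrAbove D.KT (⊥ : Subgroup D.T)).toFinset \
        (Cfsg.inducedIrrAbove D.KT Z).toFinset = A.toFinset by ext y; simp [A],
      Finset.sum_subtype A.toFinset (fun x => Set.mem_toFinset) Coh.wt] at w1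
    rw [Finset.sum_congr rfl (g := fun χ : A => (D.p : ℝ) ^ 2 * ((D.dZ (ρ χ : D.KT → ℂ) ^ 2 : ℤ) : ℝ))
      fun χ _ => by
        rw [Coh.wt, hρe, D.norm_indT_free (h.free_out (hρ χ)).1, Complex.one_re, div_one, indFun_apply_one,
          D.index_KT, ← D.coe_dZ (D.isGen_irr (ρ χ)), ← Complex.ofReal_intCast, ← Complex.ofReal_natCast,
          ← Complex.ofReal_mul, Complex.ofReal_re]
        push_cast; ring, ← Finset.mul_sum, ← Int.cast_sum, ← hW] at w1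
    have hp : (D.p : ℝ) ≠ 0 := Nat.cast_ne_zero.mpr Nat.card_pos.ne'
    have : (((D.p : ℤ) * W : ℤ) : ℝ) = (((Nat.card D.KT : ℤ) - (Z.relIndex D.KT : ℤ) : ℤ) : ℝ) := by
      push_cast
      exact mul_left_cancel₀ hp (by linear_combination w1)
    exact_mod_cast this
  have hd2 : d ^ 2 ≤ (Z.relIndex D.KT : ℤ) := by
    have hsq := Coh.sq_charDegree_le_index μ ⊥ (Z.subgroupOf D.KT) (fun g hg => by rw [mem_bot.mp hg]) bot_le
      fun a ha g => by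
        have := h.central _ ha g
        rw [mem_bot, mul_inv_eq_one, mul_inv_eq_iff_eq_mul]
        exact Subtype.ext this
    obtain ⟨n, -, hn⟩ := IsIrr.exists_degree μ.2
    rw [CharDegree.charDegree_eq_of_apply_one hn] at hsq
    have hdn : d = (n : ℤ) := by
      show round ((μ : D.KT → ℂ) 1).re = _
      rw [hn, Complex.natCast_re, round_natCast]
    rw [hdn]
    exact_mod_cast hsq
  have hWd : 2 * d ^ 2 ≤ W := by
    have hp : (0 : ℤ) < D.p := by exact_mod_cast (Nat.card_pos (α := D.W₂))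
    refine le_of_mul_le_mul_left ?_ hp
    rw [hpW]
    nlinarith
  have hd1 : 1 ≤ d := dZ_pos μ
  have hR : (2 : ℤ) ≤ D.R := by exact_mod_cast D.two_le_R
  have hx0 : (2 + 2 * d ^ 2) * x ^ 2 - 2 * d * x ≤ 0 := by nlinarith [sq_nonneg x]
  by_contra hx
  have hpos : 0 ≤ (2 + 2 * d ^ 2) * x ^ 2 := by positivity
  have hx' : 0 ≤ x := by
    by_contra hn
    have : 0 < d * (-x) := mul_pos (by omega) (by omega)
    linarith
  have hxp : (1 : ℤ) ≤ x := by omega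
  have hle : (2 + 2 * d ^ 2) * x ≤ 2 * d :=
    le_of_mul_le_mul_right (by linarith) (show (0 : ℤ) < x by omega)
  have hmono : (2 + 2 * d ^ 2) * 1 ≤ (2 + 2 * d ^ 2) * x := mul_le_mul_of_nonneg_left hxp (by positivity)
  nlinarith [sq_nonneg (2 * d - 1)]

end TV

end CfsgLib.OddLocal.TypeFive
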