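import Cfsg.Agent.Lib.OddLocal.Final.TypeV.Family
import Cfsg.Agent.Lib.Char.Coherence.Dichotomy
import Cfsg.Agent.Lib.Char.Coherence.Sibley
import Cfsg.Agent.Lib.Char.DegreeCenter
import Cfsg.Agent.Lib.CharDegree.Basic
import Cfsg.Agent.S1523
import Cfsg.Prelude.Def_OddOrderLocal

/-!
Owner: helper1. Facts on a central subgroup of the kernel: scalars, sums of squared degrees, the Sylow
subgroups of the kernel as TI Sylow subgroups of `G`, and the congruence at a central subgroup.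
-/

set_option autoImplicit false
set_option linter.unusedSectionVars false

open scoped Classical

namespace CfsgLib.OddLocal.TypeFive

open CfsgLib.Char CfsgLib.CyclicTI Subgroup
open scoped ComplexConjugate

namespace TV

variable {G : Type*} [Group G] [Fintype G] (D : TV G)

/-- `Z` lies in the kernel of the character. -/
def KerZ (Z : Subgroup D.T) (θ : D.IK) : Prop :=
  ∀ a : D.KT, (a : D.T) ∈ Z → (θ : D.KT → ℂ) a = (θ : D.KT → ℂ) 1

theorem kerZ_lin {Z : Subgroup D.T} (hZ : Z ≤ D.DK) {c : D.IK} (hc : D.IsLin c) : D.KerZ Z c :=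
  fun _ ha => D.lin_ker hc (hZ ha)

theorem kerZ_triv (Z : Subgroup D.T) : D.KerZ Z D.triv := fun _ _ => rfl

theorem notLin_of_not_kerZ {Z : Subgroup D.T} (hZ : Z ≤ D.DK) {θ : D.IK} (h : ¬ D.KerZ Z θ) :
    D.NotLin θ ∧ θ ≠ D.triv :=
  ⟨fun hl => h (D.kerZ_lin hZ hl), fun e => h (e ▸ D.kerZ_triv Z)⟩

theorem kerZ_conj {Z : Subgroup D.T} {θ : D.IK} : D.KerZ Z (conjIrr θ) ↔ D.KerZ Z θ := by
  have key : ∀ θ : D.IK, D.KerZ Z θ → D.KerZ Z (conjIrr θ) := fun θ h a ha => by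
    rw [conjIrr_apply, conjIrr_apply, h a ha]
  exact ⟨fun h => conjIrr_conjIrr θ ▸ key _ h, key θ⟩

/-- Central elements of the kernel act as scalars. -/
theorem central_mul (θ : D.IK) {z : D.KT} (hz : ∀ k : D.KT, z * k = k * z) (a : D.KT) :
    (θ : D.KT → ℂ) 1 * (θ : D.KT → ℂ) (z * a) = (θ : D.KT → ℂ) z * (θ : D.KT → ℂ) a := by
  obtain ⟨n, ρ, hρ, e⟩ := θ.2
  have := hρ
  obtain ⟨c, hc⟩ := CharIntegral.exists_scalar_of_mem_center ρ (z := z) (Subgroup.mem_center_iff.mpr fun g => (hz g).symm)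
  have h1 := CharIntegral.character_smul_of_scalar ρ hc a
  have h2 := CharIntegral.character_smul_of_scalar ρ hc 1
  rw [mul_one] at h2
  rw [← e, h1, h2]
  ring

theorem apply_eq_sum {f : G → ℂ} (hf : Cfsg.IsGeneralizedCharacter G f) (k : D.KT) :
    f ((k : D.T) : G) = ∑ φ : D.IK, (D.mZ f (φ : D.KT → ℂ) : ℂ) * (φ : D.KT → ℂ) k := by
  have h := classFunction_apply_eq_sum (Exceptional.IsGen.isClassFunction (D.res_isGen hf)) k
  refine Eq.trans (show f ((k : D.T) : G) = D.res f k from rfl) (h.trans (Finset.sum_congr rfl fun φ _ => ?_))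
  rw [← classInner_conj_symm, show Cfsg.classInner (φ : D.KT → ℂ) (D.res f) = D.mult f (φ : D.KT → ℂ) from rfl,
    ← D.coe_mZ hf (D.isGen_irr φ), map_intCast]

theorem deficit_eq {f : G → ℂ} (hf : Cfsg.IsGeneralizedCharacter G f) (k : D.KT) :
    f 1 - f ((k : D.T) : G) =
      ∑ φ : D.IK, (D.mZ f (φ : D.KT → ℂ) : ℂ) * ((φ : D.KT → ℂ) 1 - (φ : D.KT → ℂ) k) := by
  have h1 := D.apply_eq_sum hf 1
  rw [OneMemClass.coe_one, OneMemClass.coe_one] at h1
  rw [h1, D.apply_eq_sum hf k, ← Finset.sum_sub_distrib]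
  exact Finset.sum_congr rfl fun φ _ => by ring

/-- The characters outside the kernel of `Z`. -/
noncomputable def out (Z : Subgroup D.T) : Finset D.IK := Finset.univ.filter fun θ => ¬ D.KerZ Z θ

theorem mem_out {Z : Subgroup D.T} {θ : D.IK} : θ ∈ D.out Z ↔ ¬ D.KerZ Z θ := by simp [out]

theorem deficit_out {Z : Subgroup D.T} {f : G → ℂ} (hf : Cfsg.IsGeneralizedCharacter G f) {k : D.KT}
    (hk : (k : D.T) ∈ Z) :
    f 1 - f ((k : D.T) : G) =
      ∑ φ ∈ D.out Z, (D.mZ f (φ : D.KT → ℂ) : ℂ) * ((φ : D.KT → ℂ) 1 - (φ : D.KT → ℂ) k) := by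
  rw [D.deficit_eq hf k]
  refine (Finset.sum_subset (Finset.subset_univ _) fun φ _ hφ => ?_).symm
  rw [mem_out, not_not] at hφ
  rw [hφ k hk, sub_self, mul_zero]

theorem sum_deficit {Z : Subgroup D.T} {k : D.KT} (hk : (k : D.T) ∈ Z) (hk1 : k ≠ 1) :
    ∑ φ ∈ D.out Z, (φ : D.KT → ℂ) 1 * ((φ : D.KT → ℂ) 1 - (φ : D.KT → ℂ) k) = (Nat.card D.KT : ℂ) := by
  have h := Coh.sum_degree_mul_sub (L := D.KT) hk1
  refine Eq.trans ?_ (neg_eq_iff_eq_neg.mpr h)
  rw [← Finset.sum_neg_distrib]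
  refine (Finset.sum_subset (Finset.subset_univ _) fun φ _ hφ => ?_).trans
    (Finset.sum_congr rfl fun φ _ => by ring)
  rw [mem_out, not_not] at hφ
  rw [hφ k hk, sub_self, mul_zero]

theorem sum_sq_out (Z : Subgroup D.T) [Z.Normal] :
    ∑ φ ∈ D.out Z, D.dZ (φ : D.KT → ℂ) ^ 2 = (Nat.card D.KT : ℤ) - (Z.relIndex D.KT : ℤ) := by
  apply Int.cast_injective (α := ℂ)
  have h2 := CharDegree.sum_sq_degree_of_le_ker (Z.subgroupOf D.KT)
  rw [Int.cast_sum, Int.cast_sub, Int.cast_natCast, Int.cast_natCast, ← sum_sq_degree (G := D.KT),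
    Subgroup.relIndex, ← h2, ← Finset.sum_sub_distrib, out, Finset.sum_filter]
  refine Finset.sum_congr rfl fun φ _ => ?_
  by_cases h : D.KerZ Z φ
  · rw [if_neg (not_not.mpr h),
      if_pos (show ∀ g ∈ Z.subgroupOf D.KT, (φ : D.KT → ℂ) g = (φ : D.KT → ℂ) 1 from h), sub_self]
  · rw [if_pos h, if_neg (show ¬ ∀ g ∈ Z.subgroupOf D.KT, (φ : D.KT → ℂ) g = (φ : D.KT → ℂ) 1 from h), sub_zero,
      Int.cast_pow, D.coe_dZ (D.isGen_irr φ)]

/-! ### Sylow subgroups of the kernel -/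

/-- A Sylow subgroup of `G` inside the kernel, as needed for the congruence. -/
structure KerSylow (r₀ : ℕ) (P : Sylow r₀ G) : Prop where
  le : (P : Subgroup G) ≤ D.K
  norm : normalizer ((P : Subgroup G) : Set G) = D.T
  ti : Cfsg.IsTISubset ((P : Subgroup G) : Set G)
  mem : ∀ H : Subgroup G, H ≤ D.K → IsPGroup r₀ H → H ≤ (P : Subgroup G)
  coprime : ∀ m, Nat.card D.K = Nat.card (P : Subgroup G) * m → Nat.Coprime r₀ m

theorem exists_kerSylow (r₀ : ℕ) [hr : Fact r₀.Prime] (h : r₀ ∣ Nat.card D.K) :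
    ∃ P : Sylow r₀ G, D.KerSylow r₀ P := by
  have := D.nilpotent
  obtain ⟨P₀⟩ := (inferInstance : Nonempty (Sylow r₀ D.K))
  have hN₀ : (P₀ : Subgroup D.K).Normal :=
    P₀.normal_of_normalizerCondition Group.normalizerCondition_of_isNilpotent
  set H := (P₀ : Subgroup D.K).map D.K.subtype with hH
  have hle : H ≤ D.K := map_subtype_le _
  have hcard : Nat.card H = r₀ ^ (Nat.card D.K).factorization r₀ := by
    rw [hH, card_map_of_injective D.K.subtype_injective, P₀.card_eq_multiplicity]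
  have hfac : (Nat.card G).factorization r₀ = (Nat.card D.K).factorization r₀ := by
    rw [← card_mul_index D.K, Nat.factorization_mul Nat.card_pos.ne' index_ne_zero_of_finite, Finsupp.add_apply,
      add_eq_left]
    refine Nat.factorization_eq_zero_of_not_dvd fun hd => hr.out.ne_one ?_
    exact Nat.eq_one_of_dvd_coprimes D.hall h hd
  have hmem : ∀ X : Subgroup G, X ≤ D.K → IsPGroup r₀ X → X ≤ H := by
    intro X hX hXp
    have h1 : IsPGroup r₀ (X.subgroupOf D.K) := hXp.of_equiv (subgroupOfEquivOfLe hX).symm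
    obtain ⟨Q, hQ⟩ := h1.exists_le_sylow
    obtain rfl : Q = P₀ := by
      have := Sylow.unique_of_normal P₀ hN₀
      exact (this.uniq Q).trans (this.uniq P₀).symm
    intro x hx
    exact ⟨⟨x, hX hx⟩, hQ hx, rfl⟩
  have hT : D.T ≤ normalizer (H : Set G) := by
    intro t ht
    have hmap : H.map (MulAut.conj t).toMonoidHom ≤ H := by
      refine hmem _ ?_ ((P₀.isPGroup'.map _).map _)
      rintro _ ⟨x, hx, rfl⟩
      exact ((mem_set_normalizer_iff.mp (D.normal ht)) x).mp (hle hx)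
    have heq : H.map (MulAut.conj t).toMonoidHom = H :=
      eq_of_le_of_card_ge hmap (card_map_of_injective (MulAut.conj t).injective).ge
    rw [mem_set_normalizer_iff]
    intro x
    constructor
    · exact fun hx => hmap ⟨x, hx, rfl⟩
    · intro hx
      have hx' : t * x * t⁻¹ ∈ H.map (MulAut.conj t).toMonoidHom := heq.symm ▸ hx
      obtain ⟨y, hy, e⟩ := hx'
      rwa [← (MulAut.conj t).injective (show (MulAut.conj t) y = MulAut.conj t x from e)]
  obtain ⟨x, hx, hx1⟩ : ∃ x ∈ H, x ≠ 1 := by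
    refine (bot_or_exists_ne_one H).resolve_left fun hb => ?_
    rw [hb, card_bot] at hcard
    exact hr.out.ne_one ((Nat.pow_eq_one.mp hcard.symm).resolve_right
      (Nat.pos_iff_ne_zero.mp (hr.out.factorization_pos_of_dvd Nat.card_pos.ne' h)))
  have hN : normalizer (H : Set G) = D.T := by
    refine le_antisymm (fun g hg => ?_) hT
    by_contra hgT
    exact D.ti g hgT x (hle hx) hx1 (hle ((mem_set_normalizer_iff.mp hg x).mp hx))
  refine ⟨Sylow.ofCard H (hfac.symm ▸ hcard), ?_, ?_, ?_, ?_, ?_⟩ <;>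
    simp only [Sylow.coe_ofCard]
  · exact hle
  · exact hN
  · intro g hg y hy hgy
    by_contra hy1
    exact D.ti g (hN ▸ hg) y (hle hy) hy1 (hle hgy)
  · exact hmem
  · intro m hm
    rw [hr.out.coprime_iff_not_dvd]
    intro hd
    refine Nat.pow_succ_factorization_not_dvd (n := Nat.card D.K) Nat.card_pos.ne' hr.out ?_
    obtain ⟨j, rfl⟩ := hd
    refine ⟨j, ?_⟩
    rw [pow_succ, ← hcard]
    calc Nat.card D.K = Nat.card H * (r₀ * j) := hm
      _ = _ := by ring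

/-- The congruence of S1523 for a signed irreducible constant on `Z#`. -/
theorem sylow_congr {r₀ : ℕ} [Fact r₀.Prime] {P : Sylow r₀ G} (hP : D.KerSylow r₀ P) {Z : Subgroup D.T}
    [hZn : Z.Normal] (hZP : Z.map D.T.subtype ≤ (P : Subgroup G)) (hZ1 : Z ≠ ⊥)
    (hcent : ∀ z ∈ Z, ∀ k : D.KT, z * k = k * z)
    (hC : ∀ z ∈ Z, ∀ z' ∈ Z, z ≠ 1 → z' ≠ 1 →
      D.T ⊓ centralizer ({(z : G)} : Set G) = D.T ⊓ centralizer ({(z' : G)} : Set G))
    {ψ : G → ℂ} (hψ : SignedIrr ψ) (hconst : ∀ z ∈ Z, ∀ z' ∈ Z, z ≠ 1 → z' ≠ 1 → ψ (z : G) = ψ (z' : G))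
    {z : D.T} (hz : z ∈ Z) (hz1 : z ≠ 1) :
    ∃ n : ℤ, ψ 1 - ψ (z : G) = ((Nat.card (P : Subgroup G) : ℤ) * n : ℤ) := by
  have hodd : Odd (Nat.card (normalizer ((P : Subgroup G) : Set G))) :=
    D.odd.of_dvd_nat (card_subgroup_dvd_card _)
  have hZ1' : Z.map D.T.subtype ≠ ⊥ := fun e => hZ1 (by
    rwa [map_eq_bot_iff_of_injective _ D.T.subtype_injective] at e)
  have key : ∀ ψ : G → ℂ, Cfsg.IsIrrCharacter G ψ →
      (∀ z ∈ Z, ∀ z' ∈ Z, z ≠ 1 → z' ≠ 1 → ψ (z : G) = ψ (z' : G)) →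
      ∃ n : ℤ, ψ 1 - ψ (z : G) = ((Nat.card (P : Subgroup G) : ℤ) * n : ℤ) := by
    intro ψ hψ hconst
    obtain ⟨n, d, hn, hd, k, hk⟩ := Cfsg.Agent.S1523.result r₀ P hP.ti hodd (Z.map D.T.subtype) hZ1' hZP
      (fun g hg x hx => by
        obtain ⟨w, hw, rfl⟩ := hx
        have hgT : g ∈ D.T := hP.norm ▸ hg
        exact ⟨_, hZn.conj_mem w hw ⟨g, hgT⟩, rfl⟩)
      (fun x hx y hy => by
        obtain ⟨w, hw, rfl⟩ := hx
        exact congrArg Subtype.val (hcent w hw ⟨⟨y, D.K_le (hP.le hy)⟩, hP.le hy⟩))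
      (fun a ha b hb ha1 hb1 => by
        obtain ⟨u, hu, rfl⟩ := ha
        obtain ⟨v, hv, rfl⟩ := hb
        rw [hP.norm]
        exact congrArg (fun X : Subgroup G => Nat.card X)
          (hC u hu v hv (fun e => ha1 (by rw [e]; rfl)) (fun e => hb1 (by rw [e]; rfl))))
      ψ hψ (fun a ha b hb ha1 hb1 => by
        obtain ⟨u, hu, rfl⟩ := ha
        obtain ⟨v, hv, rfl⟩ := hb
        exact hconst u hu v hv (fun e => ha1 (by rw [e]; rfl)) (fun e => hb1 (by rw [e]; rfl)))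
      (z : G) ⟨z, hz, rfl⟩ (fun e => hz1 (Subtype.ext e))
    exact ⟨k, by rw [hd, hn, ← hk, Int.cast_sub]⟩
  rcases hψ with h | h
  · exact key ψ h hconst
  · obtain ⟨n, hn⟩ := key (-ψ) h fun a ha b hb ha1 hb1 => by
      simp only [Pi.neg_apply, hconst a ha b hb ha1 hb1]
    refine ⟨-n, ?_⟩
    simp only [Pi.neg_apply] at hn
    push_cast at hn ⊢
    linear_combination -hn

/-- The complement fixes no point of the abelianised kernel. -/
theorem frob_quot : ∀ k ∈ D.KT, k ∉ D.DK → ∀ x : D.T, x * k * x⁻¹ * k⁻¹ ∈ D.DK → x ∈ D.KT := by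
  intro k hk hkD x hx
  have hx' : x ∈ ((D.KT ⊔ D.P : Subgroup D.T) : Set D.T) := by rw [D.sup_top]; trivial
  rw [normal_mul] at hx'
  obtain ⟨a, ha, b, hb, rfl⟩ := hx'
  by_cases hb1 : b = 1
  · simpa [hb1] using ha
  exfalso
  have hbk : b * k * b⁻¹ * k⁻¹ ∈ D.DK := by
    have hbK : b * k * b⁻¹ ∈ D.KT := (inferInstance : D.KT.Normal).conj_mem k hk b
    have hc : a * (b * k * b⁻¹) * a⁻¹ * (b * k * b⁻¹)⁻¹ ∈ D.DK := commutator_mem_commutator ha hbK
    have h2 := mul_mem (inv_mem hc) hx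
    rwa [show (a * (b * k * b⁻¹) * a⁻¹ * (b * k * b⁻¹)⁻¹)⁻¹ * (a * b * k * (a * b)⁻¹ * k⁻¹) =
      b * k * b⁻¹ * k⁻¹ by group] at h2
  set S : Set D.T := {s | k⁻¹ * s ∈ D.DK}
  have hSK : S ⊆ (D.KT : Set D.T) := fun s hs => by
    simpa using mul_mem hk (commutator_le_self D.KT hs)
  have hdn : (D.DK).Normal := inferInstance
  have hk' : k⁻¹ * (b * k * b⁻¹) ∈ D.DK := by
    have h := hdn.conj_mem _ hbk k⁻¹
    rwa [show k⁻¹ * (b * k * b⁻¹ * k⁻¹) * k⁻¹⁻¹ = k⁻¹ * (b * k * b⁻¹) by group] at h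
  have hS : ∀ s, b * s * b⁻¹ ∈ S ↔ s ∈ S := fun s => by
    show k⁻¹ * (b * s * b⁻¹) ∈ D.DK ↔ k⁻¹ * s ∈ D.DK
    rw [show k⁻¹ * (b * s * b⁻¹) = (k⁻¹ * (b * k * b⁻¹)) * (b * (k⁻¹ * s) * b⁻¹) by group,
      mul_mem_cancel_left hk']
    refine ⟨fun h => ?_, fun h => hdn.conj_mem _ h b⟩
    have h2 := hdn.conj_mem _ h b⁻¹
    rwa [show b⁻¹ * (b * (k⁻¹ * s) * b⁻¹) * b⁻¹⁻¹ = k⁻¹ * s by group] at h2
  have hcard : Nat.card S ∣ Nat.card D.KT := by
    rw [Nat.card_congr (⟨fun s => ⟨k⁻¹ * s.1, s.2⟩, fun u => ⟨k * u.1, by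
      show k⁻¹ * (k * u.1) ∈ D.DK; simp⟩, fun s => Subtype.ext (by simp), fun u => Subtype.ext (by simp)⟩ :
      S ≃ D.DK)]
    exact card_dvd_of_le (commutator_le_self D.KT)
  obtain ⟨s, hs, hsQ⟩ := exists_mem_centralizer (K := D.KT) (W₂ := D.Q₁) hb1
    ((Nat.Coprime.coprime_dvd_left (orderOf_dvd_natCard D.P hb) (D.card_P.symm ▸ D.card_KT.symm ▸ D.cop)))
    (fun y hy hy1 => D.centP y ((zpowers_le.mpr hb) hy) hy1) hSK hS hcard
  have hsD : s ∈ D.DK := by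
    have hw : (s : G) ∈ (D.DK).map D.T.subtype := by
      rw [map_commutator, subgroupOf_map_subtype, inf_eq_left.mpr D.K_le]
      exact D.W₁_le hsQ
    obtain ⟨u, hu, e⟩ := hw
    exact (Subtype.ext e : u = s) ▸ hu
  exact hkD (inv_mem_iff.mp ((mul_mem_cancel_right hsD).mp hs))

theorem Q₁_le_DK : D.Q₁ ≤ D.DK := fun s hs => by
  have hw : (s : G) ∈ (D.DK).map D.T.subtype := by
    rw [map_commutator, subgroupOf_map_subtype, inf_eq_left.mpr D.K_le]
    exact D.W₁_le hs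
  obtain ⟨u, hu, e⟩ := hw
  exact (Subtype.ext e : u = s) ▸ hu

theorem DK_lt : D.DK < D.KT := Coh.commutator_lt_self D.nilpotent_KT D.KT_ne_bot

theorem KT_lt_top : D.KT < ⊤ := lt_top_iff_ne_top.mpr fun h => by
  have h1 := D.index_KT
  rw [h, index_top] at h1
  have := D.three_le_p
  omega

/-- The projection of the kernel onto a Sylow subgroup of it. -/
theorem exists_proj {r₀ : ℕ} [hr : Fact r₀.Prime] (hd : r₀ ∣ Nat.card D.KT) (P₀ : Sylow r₀ D.KT) :
    ∃ π : D.KT →* (P₀ : Subgroup D.KT), Function.Surjective π ∧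
      ∀ a : D.KT, (∃ j, a ^ r₀ ^ j = 1) → π a = 1 → a = 1 := by
  have := D.nilpotent_KT
  have hn : ∀ {p : ℕ} [Fact p.Prime] (P : Sylow p D.KT), (P : Subgroup D.KT).Normal :=
    fun {p} _ P => P.normal_of_normalizerCondition Group.normalizerCondition_of_isNilpotent
  set e := (Sylow.directProductOfNormal hn).symm
  have hmem : r₀ ∈ (Nat.card D.KT).primeFactors := Nat.mem_primeFactors.mpr ⟨hr.out, hd, Nat.card_pos.ne'⟩
  let π : D.KT →* (P₀ : Subgroup D.KT) :=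
    { toFun := fun g => e g ⟨r₀, hmem⟩ P₀
      map_one' := by rw [map_one]; rfl
      map_mul' := fun x y => by rw [map_mul]; rfl }
  refine ⟨π, fun y => ?_, fun a ⟨j, haj⟩ h1 => e.injective ?_⟩
  · obtain ⟨g, hg⟩ := e.surjective (Function.update (1 : ∀ p : (Nat.card D.KT).primeFactors,
      ∀ P : Sylow p D.KT, P) ⟨r₀, hmem⟩ (Function.update (1 : ∀ P : Sylow r₀ D.KT, P) P₀ y))
    exact ⟨g, by show e g ⟨r₀, hmem⟩ P₀ = y; rw [hg, Function.update_self, Function.update_self]⟩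
  rw [map_one]
  funext p P
  obtain ⟨p, hp⟩ := p
  have hpp := Nat.prime_of_mem_primeFactors hp
  have : Fact p.Prime := ⟨hpp⟩
  by_cases hpr : p = r₀
  · subst hpr
    have := Sylow.unique_of_normal P₀ (hn P₀)
    have hP : P = P₀ := (this.uniq P).trans (this.uniq P₀).symm
    subst hP
    exact h1
  · have hpow : (e a ⟨p, hp⟩ P) ^ r₀ ^ j = 1 := by
      have := congrArg (fun f => f ⟨p, hp⟩ P) (congrArg e haj)
      simpa using this
    obtain ⟨i, hi⟩ := P.isPGroup' (e a ⟨p, hp⟩ P)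
    exact orderOf_eq_one_iff.mp (Nat.eq_one_of_dvd_coprimes
      (((Nat.coprime_primes hpp hr.out).mpr hpr).pow i j) (orderOf_dvd_of_pow_eq_one hi)
      (orderOf_dvd_of_pow_eq_one hpow))

/-- The data delivered by the case analysis. -/
def Good (ξ : (D.T → ℂ) → G → ℂ) (Z : Subgroup D.T) : Prop :=
  D.IsFam ξ ∧ Z ≤ D.DK ∧ (∃ θ : D.IK, D.IsFixed (θ : D.KT → ℂ) ∧ θ ≠ D.triv ∧ D.xval ξ θ = 0) ∧
    (∀ θ : D.IK, ¬ D.KerZ Z θ → D.xval ξ θ = 0) ∧
    2 * (D.p : ℤ) * D.q ≤ (D.p : ℤ) * D.R + ((Nat.card D.KT : ℤ) - (Z.relIndex D.KT : ℤ))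

theorem exists_fixed_ne : ∃ θ : D.IK, D.IsFixed (θ : D.KT → ℂ) ∧ θ ≠ D.triv := by
  by_contra hcon
  push Not at hcon
  have h := D.card_fixed
  have : Subsingleton {θ : D.IK // D.IsFixed (θ : D.KT → ℂ)} :=
    ⟨fun a b => Subtype.ext ((hcon a.1 a.2).trans (hcon b.1 b.2).symm)⟩
  have h1 : Nat.card {θ : D.IK // D.IsFixed (θ : D.KT → ℂ)} ≤ 1 := Finite.card_le_one_iff_subsingleton.mpr this
  have := D.three_le_q
  omega

end TV

end CfsgLib.OddLocal.TypeFive
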