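import Cfsg.Agent.Lib.OddLocal.Final.TypeV.Basic
import Cfsg.Agent.Lib.Char.CyclicTI.SemidirectInertia
import Cfsg.Agent.Lib.Char.CyclicTI.SemidirectChars
import Cfsg.Agent.Lib.Char.Exceptional.TISet

/-!
Owner: helper1. The data of a maximal subgroup `T` of Type V: a nilpotent TI kernel `K` with cyclic
complement `W₂` centralizing exactly `W₁ ≤ K'` in `K`, together with a cyclic TI family.
-/

set_option autoImplicit false
set_option linter.unusedSectionVars false

open scoped Classical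

namespace CfsgLib.OddLocal.TypeFive

open CfsgLib.Char CfsgLib.CyclicTI Subgroup

/-- The generic data of a subgroup of Type V. -/
structure TV (G : Type*) [Group G] [Fintype G] where
  T : Subgroup G
  W₁ : Subgroup G
  W₂ : Subgroup G
  K : Subgroup G
  χ : (↥(W₁ ⊔ W₂) →* ℂˣ) → G → ℂ
  family : Cfsg.IsCyclicTIFamily W₁ W₂ χ
  selfNorm : Cfsg.IsSelfNormalizingCyclic W₁ W₂
  odd : Odd (Nat.card G)
  q_prime : (Nat.card W₁).Prime
  K_le : K ≤ T
  W₂_le : W₂ ≤ T
  normal : T ≤ normalizer (K : Set G)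
  inf_eq : K ⊓ W₂ = ⊥
  sup_eq : K ⊔ W₂ = T
  nilpotent : Group.IsNilpotent K
  cop : Nat.Coprime (Nat.card W₂) (Nat.card K)
  hall : Nat.Coprime (Nat.card K) K.index
  W₁_le : W₁ ≤ ⁅K, K⁆
  cent : ∀ x ∈ W₂, x ≠ 1 → K ⊓ centralizer ({x} : Set G) = W₁
  ti : ∀ g ∉ T, ∀ k ∈ K, k ≠ 1 → g * k * g⁻¹ ∉ K

namespace TV

variable {G : Type*} [Group G] [Fintype G] (D : TV G)

/-- `q = |W₁|`. -/
noncomputable abbrev q : ℕ := Nat.card D.W₁

/-- `p = |W₂|`. -/
noncomputable abbrev p : ℕ := Nat.card D.W₂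

/-- The kernel as a subgroup of `T`. -/
abbrev KT : Subgroup D.T := D.K.subgroupOf D.T

/-- The complement as a subgroup of `T`. -/
abbrev P : Subgroup D.T := D.W₂.subgroupOf D.T

/-- `W₁` as a subgroup of `T`. -/
abbrev Q₁ : Subgroup D.T := D.W₁.subgroupOf D.T

theorem W₁_le_K : D.W₁ ≤ D.K := D.W₁_le.trans (commutator_le_self D.K)

theorem W₁_le_T : D.W₁ ≤ D.T := D.W₁_le_K.trans D.K_le

instance : D.KT.Normal := (normal_subgroupOf_iff_le_normalizer D.K_le).mpr D.normal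

theorem inf_bot : D.KT ⊓ D.P = ⊥ :=
  eq_bot_iff.mpr fun x hx => Subtype.ext (mem_bot.mp (D.inf_eq ▸ (show (x : G) ∈ D.K ⊓ D.W₂ from hx)))

theorem sup_top : D.KT ⊔ D.P = ⊤ := by
  rw [← subgroupOf_sup D.K_le D.W₂_le, D.sup_eq, subgroupOf_self]

theorem card_KT : Nat.card D.KT = Nat.card D.K := Nat.card_congr (subgroupOfEquivOfLe D.K_le).toEquiv

theorem card_P : Nat.card D.P = D.p := Nat.card_congr (subgroupOfEquivOfLe D.W₂_le).toEquiv

theorem card_Q₁ : Nat.card D.Q₁ = D.q := Nat.card_congr (subgroupOfEquivOfLe D.W₁_le_T).toEquiv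

theorem isComplement : D.KT.IsComplement' D.P :=
  isComplement'_of_disjoint_and_mul_eq_univ (disjoint_iff.mpr D.inf_bot)
    (by rw [← normal_mul, D.sup_top, coe_top])

theorem index_KT : D.KT.index = D.p := D.isComplement.symm.index_eq_card.trans D.card_P

theorem card_T : Nat.card D.T = Nat.card D.K * D.p := by
  rw [← D.card_KT, ← D.index_KT, card_mul_index]

theorem hallP : Nat.Coprime (Nat.card D.P) D.P.index := by
  rw [D.isComplement.index_eq_card, D.card_P, D.card_KT]; exact D.cop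

theorem cyclic_W₁ : IsCyclic D.W₁ := by
  have := D.selfNorm.2.2.2.2.1
  exact isCyclic_of_injective _ (inclusion_injective (le_sup_left : D.W₁ ≤ D.W₁ ⊔ D.W₂))

theorem cyclic_W₂ : IsCyclic D.W₂ := by
  have := D.selfNorm.2.2.2.2.1
  exact isCyclic_of_injective _ (inclusion_injective (le_sup_right : D.W₂ ≤ D.W₁ ⊔ D.W₂))

theorem cyclic_P : IsCyclic D.P := by
  have := D.cyclic_W₂
  exact isCyclic_of_injective (subgroupOfEquivOfLe D.W₂_le).toMonoidHom (MulEquiv.injective _)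

theorem cyclic_Q₁ : IsCyclic D.Q₁ := by
  have := D.cyclic_W₁
  exact isCyclic_of_injective (subgroupOfEquivOfLe D.W₁_le_T).toMonoidHom (MulEquiv.injective _)

theorem Q₁_le : D.Q₁ ≤ D.KT := fun _ hx => D.W₁_le_K hx

theorem P_ne_bot : D.P ≠ ⊥ := fun h => D.selfNorm.2.1 <| card_eq_one.mp (by
  rw [← show Nat.card D.P = Nat.card D.W₂ from D.card_P, h, card_bot])

theorem Q₁_ne_bot : D.Q₁ ≠ ⊥ := fun h => D.selfNorm.1 <| card_eq_one.mp (by
  rw [← show Nat.card D.Q₁ = Nat.card D.W₁ from D.card_Q₁, h, card_bot])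

theorem centP : ∀ x ∈ D.P, x ≠ 1 → D.KT ⊓ centralizer ({x} : Set D.T) = D.Q₁ := by
  intro x hx hx1
  have hc := D.cent x hx (fun e => hx1 (Subtype.ext e))
  ext y
  constructor
  · intro hy
    have : (y : G) ∈ D.K ⊓ centralizer ({(x : G)} : Set G) :=
      ⟨hy.1, mem_centralizer_singleton_iff.mpr (congrArg Subtype.val (mem_centralizer_singleton_iff.mp hy.2))⟩
    rwa [hc] at this
  · intro hy
    have : (y : G) ∈ D.K ⊓ centralizer ({(x : G)} : Set G) := by rw [hc]; exact hy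
    exact ⟨this.1, mem_centralizer_singleton_iff.mpr (Subtype.ext (mem_centralizer_singleton_iff.mp this.2))⟩

theorem selfNormT : Cfsg.IsSelfNormalizingCyclic D.P D.Q₁ :=
  isSelfNormalizingCyclic_of_semidirect D.inf_bot D.sup_top D.cyclic_P D.hallP D.cyclic_Q₁ D.Q₁_le D.centP
    D.P_ne_bot D.Q₁_ne_bot

theorem odd_p : Odd D.p := D.odd.of_dvd_nat (card_subgroup_dvd_card _)

theorem odd_q : Odd D.q := D.odd.of_dvd_nat (card_subgroup_dvd_card _)

theorem odd_T : Odd (Nat.card D.T) := D.odd.of_dvd_nat (card_subgroup_dvd_card _)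

theorem three_le_p : 3 ≤ D.p := by
  have h1 : D.p ≠ 1 := fun h => D.selfNorm.2.1 (card_eq_one.mp h)
  obtain ⟨k, hk⟩ := D.odd_p
  omega

theorem three_le_q : 3 ≤ D.q := by
  have h1 := D.q_prime.two_le
  obtain ⟨k, hk⟩ := D.odd_q
  change 2 ≤ D.q at h1
  omega

/-- The smallest prime divisor of `p`. -/
noncomputable abbrev r : ℕ := D.p.minFac

theorem r_prime : D.r.Prime := Nat.minFac_prime (by have := D.three_le_p; omega)

instance : Fact D.r.Prime := ⟨D.r_prime⟩

theorem r_dvd : D.r ∣ D.p := Nat.minFac_dvd _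

theorem three_le_r : 3 ≤ D.r := by
  have h1 := D.r_prime.two_le
  have h2 : Odd D.r := D.odd_p.of_dvd_nat D.r_dvd
  obtain ⟨k, hk⟩ := h2
  omega

theorem exists_order_r : ∃ x : D.T, x ∈ D.P ∧ orderOf x = D.r := by
  obtain ⟨x, hx⟩ := exists_prime_orderOf_dvd_card' D.r (G := D.P) (D.card_P.symm ▸ D.r_dvd)
  exact ⟨x, x.2, (orderOf_coe x).trans hx⟩

/-- A chosen element of order `r` in the complement. -/
noncomputable def x₀ : D.T := D.exists_order_r.choose

theorem x₀_mem : D.x₀ ∈ D.P := D.exists_order_r.choose_spec.1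

theorem orderOf_x₀ : orderOf D.x₀ = D.r := D.exists_order_r.choose_spec.2

theorem x₀_ne_one : D.x₀ ≠ 1 := fun h => by
  have := D.orderOf_x₀
  rw [h, orderOf_one] at this
  exact D.r_prime.one_lt.ne this

/-- The irreducible characters of the kernel. -/
abbrev IK := Cfsg.IrrCharacter D.KT

noncomputable instance : Fintype D.IK := Fintype.ofFinite _

/-- The character of the kernel fixed by the complement. -/
def IsFixed (θ : D.KT → ℂ) : Prop := ∀ y ∈ D.P, Clifford.conjFn inferInstance θ y = θ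

theorem isFixed_of_x₀ {θ : D.KT → ℂ} (hθ : Cfsg.IsIrrCharacter D.KT θ)
    (h : Clifford.conjFn inferInstance θ D.x₀ = θ) : D.IsFixed θ :=
  fixed_all_of_fixed D.inf_bot D.sup_top D.cyclic_P D.hallP D.cyclic_Q₁ D.Q₁_le D.centP ⟨θ, hθ⟩
    D.x₀_mem D.x₀_ne_one h

theorem card_fixed : Nat.card {θ : D.IK // D.IsFixed (θ : D.KT → ℂ)} = D.q :=
  (card_fixed_all D.inf_bot D.sup_top D.cyclic_P D.hallP D.cyclic_Q₁ D.Q₁_le D.centP D.P_ne_bot).trans D.card_Q₁

theorem isIrr_ind_of_moved {θ : D.KT → ℂ} (hθ : Cfsg.IsIrrCharacter D.KT θ) (h : ¬ D.IsFixed θ) :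
    Cfsg.IsIrrCharacter D.T (Cfsg.indFun D.KT θ) :=
  isIrr_indFun_of_moved D.inf_bot D.sup_top D.cyclic_P D.hallP D.cyclic_Q₁ D.Q₁_le D.centP hθ D.x₀_mem
    fun e => h (D.isFixed_of_x₀ hθ e)

/-! ### Functions on `G`, `T` and the kernel -/

/-- The restriction to the kernel. -/
def res (f : G → ℂ) : D.KT → ℂ := fun k => f ((k : D.T) : G)

/-- Induction from `T` to `G`. -/
noncomputable def tau (f : D.T → ℂ) : G → ℂ := Cfsg.indFun D.T f

/-- Induction from the kernel to `G`, through `T`. -/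
noncomputable def ind (a : D.KT → ℂ) : G → ℂ := D.tau (Cfsg.indFun D.KT a)

/-- The multiplicity of a class function of `G` at a function on the kernel. -/
noncomputable def mult (f : G → ℂ) (a : D.KT → ℂ) : ℂ := Cfsg.classInner a (D.res f)

theorem res_isGen {f : G → ℂ} (hf : Cfsg.IsGeneralizedCharacter G f) :
    Cfsg.IsGeneralizedCharacter D.KT (D.res f) :=
  IsGen.comp (D.T.subtype.comp D.KT.subtype) hf

theorem inner_ind (a : D.KT → ℂ) {f : G → ℂ} (hf : Cfsg.IsClassFunction G f) :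
    Cfsg.classInner (D.ind a) f = D.mult f a := by
  rw [ind, tau, frobenius_reciprocity _ _ hf, mult]
  exact frobenius_reciprocity D.KT a (χ := fun t : D.T => f t) fun g h => hf (g : G) (h : G)

/-- The integral multiplicity. -/
noncomputable def mZ (f : G → ℂ) (a : D.KT → ℂ) : ℤ := round (D.mult f a).re

theorem coe_mZ {f : G → ℂ} (hf : Cfsg.IsGeneralizedCharacter G f) {a : D.KT → ℂ}
    (ha : Cfsg.IsGeneralizedCharacter D.KT a) : (D.mZ f a : ℂ) = D.mult f a := by
  obtain ⟨n, hn⟩ := Exceptional.IsGen.classInner_eq_int ha (D.res_isGen hf)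
  rw [mZ, mult, hn, Complex.intCast_re, round_intCast]

theorem inner_ind_eq {f : G → ℂ} (hf : Cfsg.IsGeneralizedCharacter G f) {a : D.KT → ℂ}
    (ha : Cfsg.IsGeneralizedCharacter D.KT a) : Cfsg.classInner (D.ind a) f = (D.mZ f a : ℂ) := by
  rw [D.coe_mZ hf ha, D.inner_ind a (Exceptional.IsGen.isClassFunction hf)]

theorem ind_isGen {a : D.KT → ℂ} (ha : Cfsg.IsGeneralizedCharacter D.KT a) :
    Cfsg.IsGeneralizedCharacter G (D.ind a) :=
  Exceptional.IsGen.indFun _ (Exceptional.IsGen.indFun _ ha)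

theorem indT_support {a : D.KT → ℂ} (ha : a 1 = 0) (t : D.T) (ht : (t : G) ∉ (D.K : Set G) \ {1}) :
    Cfsg.indFun D.KT a t = 0 := by
  by_cases hk : (t : G) ∈ D.K
  · have h1 : t = 1 := Subtype.ext (by_contra fun h => ht ⟨hk, h⟩)
    rw [h1, indFun_apply_one, ha, mul_zero]
  · exact Clifford.indFun_eq_zero_off_normal inferInstance a hk

theorem ti_set : ∀ g : G, g ∉ D.T → ∀ s ∈ (D.K : Set G) \ {1}, g * s * g⁻¹ ∉ (D.K : Set G) \ {1} :=
  fun g hg s hs h => D.ti g hg s hs.1 hs.2 h.1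

/-- The TI isometry. -/
theorem inner_ind_ind {a b : D.KT → ℂ} (ha : a 1 = 0) (hb : b 1 = 0) :
    Cfsg.classInner (D.ind a) (D.ind b) = Cfsg.classInner (Cfsg.indFun D.KT a) (Cfsg.indFun D.KT b) :=
  Exceptional.ti_indFun_inner D.ti_set (D.indT_support ha) (isClassFunction_indFun _ b) (D.indT_support hb)

theorem ind_one {a : D.KT → ℂ} (ha : a 1 = 0) : D.ind a 1 = 0 := by
  rw [ind, tau, indFun_apply_one, indFun_apply_one, ha, mul_zero, mul_zero]

/-- An induced function of degree zero vanishes on the regular elements of `W`. -/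
theorem ind_zero_What {a : D.KT → ℂ} (ha : a 1 = 0) (w : ↥(D.W₁ ⊔ D.W₂)) (_hw₁ : (w : G) ∉ D.W₁)
    (_hw₂ : (w : G) ∉ D.W₂) : D.ind a (w : G) = 0 := by
  refine Exceptional.indFun_eq_zero_of_support (D.indT_support ha) fun y hy => ?_
  obtain ⟨u, hu, v, hv, he⟩ := exists_mul D.selfNorm w
  have hcomm : Commute u v := D.selfNorm.2.2.2.1 u hu v hv
  have hv1 : v ≠ 1 := fun e => _hw₁ (by rw [← he, e, mul_one]; exact hu)
  have hwK : (w : G) ^ Nat.card D.K = 1 := by
    have h1 : (y⁻¹ * (w : G) * y) ^ Nat.card D.K = 1 :=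
      orderOf_dvd_iff_pow_eq_one.mp (orderOf_dvd_natCard D.K hy.1)
    have e : (w : G) = y * (y⁻¹ * (w : G) * y) * y⁻¹ := by group
    rw [e, conj_pow, h1, mul_one, mul_inv_cancel]
  rw [← he, hcomm.mul_pow, pow_eq_one_iff_modEq.mpr ((Nat.modEq_zero_iff_dvd.mpr
    ((orderOf_dvd_natCard D.K (D.W₁_le_K hu))))), one_mul] at hwK
  refine hv1 (orderOf_eq_one_iff.mp (Nat.eq_one_of_dvd_coprimes D.cop ?_ ?_))
  · exact orderOf_dvd_natCard D.W₂ hv
  · exact orderOf_dvd_of_pow_eq_one hwK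

end TV

end CfsgLib.OddLocal.TypeFive
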