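import Cfsg.Agent.Lib.OddLocal.Final.TypeV.Fixed
import Cfsg.Agent.Lib.Char.Real
import Cfsg.Agent.Lib.OddLocal.Final.Setup

/-!
Owner: helper1. The coefficients on the cyclic TI family of the functions induced from the kernel: the two
possible shapes of `τ(1 - c)` for a linear `c`, and the lower bounds coming from the fixed characters.
-/

set_option autoImplicit false
set_option linter.unusedSectionVars false

open scoped Classical

namespace CfsgLib.OddLocal.TypeFive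

open CfsgLib.Char CfsgLib.CyclicTI Subgroup
open scoped ComplexConjugate

namespace TV

variable {G : Type*} [Group G] [Fintype G] (D : TV G)

/-- The linear characters of `W₁`. -/
abbrev L₁ := D.W₁ →* ℂˣ

/-- The linear characters of `W₂`. -/
abbrev L₂ := D.W₂ →* ℂˣ

noncomputable instance : Fintype D.L₁ := have := finite_hom D.W₁; Fintype.ofFinite _

noncomputable instance : Fintype D.L₂ := have := finite_hom D.W₂; Fintype.ofFinite _

theorem card_L₁ : Fintype.card D.L₁ = D.q := by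
  have := D.cyclic_W₁
  let _ := IsCyclic.commGroup (α := D.W₁)
  rw [← Nat.card_eq_fintype_card]
  exact card_hom mul_comm

theorem card_L₂ : Fintype.card D.L₂ = D.p := by
  have := D.cyclic_W₂
  let _ := IsCyclic.commGroup (α := D.W₂)
  rw [← Nat.card_eq_fintype_card]
  exact card_hom mul_comm

/-- The member of the family attached to a pair of linear characters. -/
noncomputable def eta (l : D.L₁) (k : D.L₂) : G → ℂ := D.χ (inl D.selfNorm l * inr D.selfNorm k)

theorem eta_signed (l : D.L₁) (k : D.L₂) : SignedIrr (D.eta l k) := D.family.irr_or_neg _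

theorem eta_isGen (l : D.L₁) (k : D.L₂) : Cfsg.IsGeneralizedCharacter G (D.eta l k) := by
  rcases D.eta_signed l k with h | h
  · exact IsGen.of_irr h
  · exact neg_neg (D.eta l k) ▸ Exceptional.IsGen.neg (IsGen.of_irr h)

theorem eta_one : D.eta 1 1 = fun _ => 1 := by
  rw [eta, inl_one, inr_one, ← D.family.map_one]
  exact congrArg D.χ (hom_mul_one _)

theorem eta_inner (x y : D.L₁ × D.L₂) :
    Cfsg.classInner (D.eta x.1 x.2) (D.eta y.1 y.2) = if x = y then 1 else 0 := by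
  rw [eta, eta, D.family.orthonormal]
  by_cases h : x = y
  · rw [if_pos h, if_pos (by rw [h])]
  · rw [if_neg h, if_neg fun e => h (Prod.ext_iff.mpr (mul_inj D.selfNorm e))]

theorem eta_agree (l : D.L₁) (k : D.L₂) (w : ↥(D.W₁ ⊔ D.W₂)) (h₁ : (w : G) ∉ D.W₁) (h₂ : (w : G) ∉ D.W₂) :
    D.eta l k w = ((inl D.selfNorm l * inr D.selfNorm k) w : ℂ) := D.family.eq_on _ w h₁ h₂

theorem comp_inclusion (l : D.L₁) (k : D.L₂) :
    (inl D.selfNorm l * inr D.selfNorm k).comp (inclusion le_sup_left) = l := MonoidHom.ext fun a => by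
  rw [MonoidHom.comp_apply, MonoidHom.mul_apply, inl_inclusion, inr_apply_W₁ D.selfNorm k _ a.2, mul_one]

/-- The coefficient of the induced function on the family. -/
noncomputable def coef (a : D.KT → ℂ) (l : D.L₁) (k : D.L₂) : ℤ := D.mZ (D.eta l k) a

theorem inner_eta {a : D.KT → ℂ} (ha : Cfsg.IsGeneralizedCharacter D.KT a) (l : D.L₁) (k : D.L₂) :
    Cfsg.classInner (D.ind a) (D.eta l k) = (D.coef a l k : ℂ) := D.inner_ind_eq (D.eta_isGen l k) ha

theorem coef_add {a : D.KT → ℂ} (ha : Cfsg.IsGeneralizedCharacter D.KT a) (ha1 : a 1 = 0) (l : D.L₁) (k : D.L₂) :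
    D.coef a l k = D.coef a l 1 + D.coef a 1 k - D.coef a 1 1 := by
  have h := inner_relation D.selfNorm D.family (θ := D.ind a)
    (Exceptional.IsGen.isClassFunction (D.ind_isGen ha)) (D.ind_zero_What ha1)
    (inl_apply_W₂ D.selfNorm l) (inr_apply_W₁ D.selfNorm k)
  have e1 : D.χ (inl D.selfNorm l) = D.eta l 1 := by rw [eta, inr_one]; exact (congrArg D.χ (hom_mul_one _)).symm
  have e2 : D.χ (inr D.selfNorm k) = D.eta 1 k := by rw [eta, inl_one]; exact (congrArg D.χ (hom_one_mul _)).symm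
  have e3 : D.χ 1 = D.eta 1 1 := by rw [D.family.map_one, D.eta_one]
  change Cfsg.classInner (D.ind a) (D.eta l k) = _ at h
  rw [e1, e2, e3, D.inner_eta ha, D.inner_eta ha, D.inner_eta ha, D.inner_eta ha] at h
  exact_mod_cast h

theorem coef_one (θ : D.IK) :
    D.mZ (D.eta 1 1) (θ : D.KT → ℂ) = if θ = D.triv then 1 else 0 := by
  apply Int.cast_injective (α := ℂ)
  rw [D.coe_mZ (D.eta_isGen 1 1) (D.isGen_irr θ), mult, D.eta_one,
    show D.res (fun _ => (1 : ℂ)) = (D.triv : D.KT → ℂ) from rfl, classInner_irr]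
  split_ifs <;> simp

theorem mult_sub {f : G → ℂ} (a b : D.KT → ℂ) : D.mult f (a - b) = D.mult f a - D.mult f b := classInner_sub_left _ _ _

theorem mZ_sub_smul {f : G → ℂ} (hf : Cfsg.IsGeneralizedCharacter G f) {a b : D.KT → ℂ}
    (ha : Cfsg.IsGeneralizedCharacter D.KT a) (hb : Cfsg.IsGeneralizedCharacter D.KT b) (n : ℤ) :
    D.mZ f (a - (n : ℂ) • b) = D.mZ f a - n * D.mZ f b := by
  apply Int.cast_injective (α := ℂ)
  rw [D.coe_mZ hf (Exceptional.IsGen.sub ha (Exceptional.IsGen.intCast_smul n hb)), mult, classInner_sub_left,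
    classInner_smul_left, Int.cast_sub, Int.cast_mul, D.coe_mZ hf ha, D.coe_mZ hf hb]
  rfl

theorem mZ_sub {f : G → ℂ} (hf : Cfsg.IsGeneralizedCharacter G f) {a b : D.KT → ℂ}
    (ha : Cfsg.IsGeneralizedCharacter D.KT a) (hb : Cfsg.IsGeneralizedCharacter D.KT b) :
    D.mZ f (a - b) = D.mZ f a - D.mZ f b := by
  have h := D.mZ_sub_smul hf ha hb 1
  rwa [Int.cast_one, one_smul, one_mul] at h

/-! ### Norms in `T` -/

theorem inner_indT {θ φ : D.IK} (h : ∀ t, Clifford.conjFn inferInstance (φ : D.KT → ℂ) t ≠ (θ : D.KT → ℂ)) :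
    Cfsg.classInner (Cfsg.indFun D.KT (θ : D.KT → ℂ)) (Cfsg.indFun D.KT (φ : D.KT → ℂ)) = 0 := by
  have hne : (Nat.card D.KT : ℂ) ≠ 0 := Nat.cast_ne_zero.mpr Nat.card_pos.ne'
  refine (mul_eq_zero.mp ?_).resolve_left hne
  rw [Clifford.classInner_indFun_indFun inferInstance]
  exact Finset.sum_eq_zero fun t _ => by
    rw [Clifford.classInner_irr_conjFn inferInstance θ.2 φ.2, if_neg fun e => h t e.symm]

theorem conjFn_of_fixed {θ : D.IK} (hθ : D.IsFixed (θ : D.KT → ℂ)) (t : D.T) :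
    Clifford.conjFn inferInstance (θ : D.KT → ℂ) t = θ := by
  have ht : t ∈ ((D.KT ⊔ D.P : Subgroup D.T) : Set D.T) := by rw [D.sup_top]; trivial
  rw [normal_mul] at ht
  obtain ⟨a, ha, b, hb, rfl⟩ := ht
  rw [Clifford.conjFn_mul, Clifford.mem_inertia.mp
    (Clifford.le_inertia inferInstance (IsIrr.isClassFunction θ.2) ha), hθ b hb]

theorem norm_indT_fixed {θ : D.IK} (hθ : D.IsFixed (θ : D.KT → ℂ)) :
    Cfsg.classInner (Cfsg.indFun D.KT (θ : D.KT → ℂ)) (Cfsg.indFun D.KT (θ : D.KT → ℂ)) = D.p := by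
  have h := Clifford.card_mul_classInner_indFun (inferInstance : D.KT.Normal) θ.2
  rw [Nat.card_congr (Equiv.subtypeUnivEquiv fun t => D.conjFn_of_fixed hθ t), D.card_KT, D.card_T,
    Nat.cast_mul] at h
  exact mul_left_cancel₀ (Nat.cast_ne_zero.mpr Nat.card_pos.ne') h

theorem inner_indT_fixed {θ φ : D.IK} (hθ : D.IsFixed (θ : D.KT → ℂ)) (hne : θ ≠ φ) :
    Cfsg.classInner (Cfsg.indFun D.KT (θ : D.KT → ℂ)) (Cfsg.indFun D.KT (φ : D.KT → ℂ)) = 0 := by
  refine D.inner_indT fun t e => hne (Subtype.ext ?_)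
  have h := congrArg (fun f => Clifford.conjFn inferInstance f t⁻¹) e
  simp only [← Clifford.conjFn_mul, mul_inv_cancel, Clifford.conjFn_one, D.conjFn_of_fixed hθ] at h
  exact h.symm

theorem norm_indT_free {θ : D.IK} (hθ : ¬ D.IsFixed (θ : D.KT → ℂ)) :
    Cfsg.classInner (Cfsg.indFun D.KT (θ : D.KT → ℂ)) (Cfsg.indFun D.KT (θ : D.KT → ℂ)) = 1 :=
  Exceptional.classInner_self_of_irr (D.isIrr_ind_of_moved θ.2 hθ)

theorem isFixed_conj {θ : D.IK} : D.IsFixed (conjIrr θ : D.KT → ℂ) ↔ D.IsFixed (θ : D.KT → ℂ) := by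
  have key : ∀ θ : D.IK, D.IsFixed (θ : D.KT → ℂ) → D.IsFixed (conjIrr θ : D.KT → ℂ) := fun θ h y hy => by
    show Clifford.conjFn inferInstance (fun n => conj ((θ : D.KT → ℂ) n)) y = _
    rw [Clifford.conjFn_conj, h y hy]
    rfl
  exact ⟨fun h => conjIrr_conjIrr θ ▸ key _ h, key θ⟩

theorem dZ_conj (θ : D.IK) : D.dZ (conjIrr θ : D.KT → ℂ) = D.dZ (θ : D.KT → ℂ) := by
  rw [dZ, dZ, conjIrr_apply, Complex.conj_re]

theorem conjIrr_ne {θ : D.IK} (hθ : θ ≠ D.triv) : conjIrr θ ≠ θ := fun e => hθ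
  (real_irr_eq_one_of_odd (D.odd.of_dvd_nat ((D.card_KT).symm ▸ card_subgroup_dvd_card D.K)) θ
    ((conjIrr_eq_iff θ).mp e))

theorem inner_indT_conj {θ : D.IK} (hθ : θ ≠ D.triv) :
    Cfsg.classInner (Cfsg.indFun D.KT (conjIrr θ : D.KT → ℂ)) (Cfsg.indFun D.KT (θ : D.KT → ℂ)) = 0 := by
  have e : Cfsg.indFun D.KT (conjIrr θ : D.KT → ℂ) = fun g => conj (Cfsg.indFun D.KT (θ : D.KT → ℂ) g) :=
    (Coh.conjFun_indFun (K := D.KT) (θ : D.KT → ℂ)).symm
  rw [e]
  exact Clifford.classInner_conj_indFun_eq_zero inferInstance D.odd_T θ.2 fun h => hθ (Subtype.ext h)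

/-! ### Small functions are orthogonal to the family -/

theorem bessel_eta {a : D.KT → ℂ} (ha : Cfsg.IsGeneralizedCharacter D.KT a) {N : ℤ}
    (hN : Cfsg.classInner (D.ind a) (D.ind a) = N) :
    ∑ l, ∑ k, D.coef a l k ^ 2 ≤ N ∧
      (∑ l, ∑ k, D.coef a l k ^ 2 = N →
        D.ind a = ∑ x : D.L₁ × D.L₂, (D.coef a x.1 x.2 : ℂ) • D.eta x.1 x.2) := by
  have h := bessel_int Finset.univ (fun x : D.L₁ × D.L₂ => D.eta x.1 x.2) (D.ind a)
    (fun x => D.coef a x.1 x.2) (fun x _ => by rw [D.eta_inner, if_pos rfl])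
    (fun x _ y _ hne => by rw [D.eta_inner, if_neg hne]) (fun x _ => D.inner_eta ha x.1 x.2) hN
  rwa [Fintype.sum_prod_type] at h

theorem coef_eq_zero_of_norm {a : D.KT → ℂ} (ha : Cfsg.IsGeneralizedCharacter D.KT a) (ha1 : a 1 = 0)
    (hN : Cfsg.classInner (D.ind a) (D.ind a) = 2) (h0 : D.coef a 1 1 = 0) (l : D.L₁) (k : D.L₂) :
    D.coef a l k = 0 := by
  refine additive_eq_zero 1 1 (D.card_L₁.symm ▸ D.three_le_q) (D.card_L₂.symm ▸ D.three_le_p) (D.coef a)
    (fun l k => ?_) ?_ l k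
  · have h := D.coef_add ha ha1 l k
    omega
  · exact (D.bessel_eta ha (N := 2) (by rw [hN]; norm_num)).1

theorem pair_gen (θ : D.IK) :
    Cfsg.IsGeneralizedCharacter D.KT ((θ : D.KT → ℂ) - (conjIrr θ : D.KT → ℂ)) :=
  Exceptional.IsGen.sub (D.isGen_irr _) (D.isGen_irr _)

theorem pair_zero (θ : D.IK) : ((θ : D.KT → ℂ) - (conjIrr θ : D.KT → ℂ)) 1 = 0 := by
  rw [Pi.sub_apply, ← D.coe_dZ (D.isGen_irr θ), ← D.coe_dZ (D.isGen_irr (conjIrr θ)), D.dZ_conj, sub_self]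

theorem free_pair_norm {θ : D.IK} (hθ : ¬ D.IsFixed (θ : D.KT → ℂ)) :
    Cfsg.classInner (D.ind ((θ : D.KT → ℂ) - (conjIrr θ : D.KT → ℂ)))
      (D.ind ((θ : D.KT → ℂ) - (conjIrr θ : D.KT → ℂ))) = 2 := by
  have h1 : θ ≠ D.triv := fun e => hθ (e ▸ D.isFixed_triv)
  rw [D.inner_ind_ind (D.pair_zero θ) (D.pair_zero θ), indFun_sub, classInner_sub_left,
    classInner_sub_right, classInner_sub_right, D.norm_indT_free hθ, D.inner_indT_conj h1,
    D.norm_indT_free (fun h => hθ (D.isFixed_conj.mp h)), ← classInner_conj_symm, D.inner_indT_conj h1, map_zero]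
  norm_num

theorem free_pair_coef {θ : D.IK} (hθ : ¬ D.IsFixed (θ : D.KT → ℂ)) (l : D.L₁) (k : D.L₂) :
    D.coef ((θ : D.KT → ℂ) - (conjIrr θ : D.KT → ℂ)) l k = 0 := by
  refine D.coef_eq_zero_of_norm (D.pair_gen θ) (D.pair_zero θ) (D.free_pair_norm hθ) ?_ l k
  have h1 : θ ≠ D.triv := fun e => hθ (e ▸ D.isFixed_triv)
  have h2 : conjIrr θ ≠ D.triv := fun e => hθ (D.isFixed_conj.mp (e ▸ D.isFixed_triv))
  rw [coef, D.mZ_sub (D.eta_isGen 1 1) (D.isGen_irr _) (D.isGen_irr _), D.coef_one, D.coef_one,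
    if_neg h1, if_neg h2, sub_zero]

/-! ### Linear characters -/

/-- A nonprincipal linear character of the kernel. -/
def IsLin (c : D.IK) : Prop := (c : D.KT → ℂ) 1 = 1 ∧ c ≠ D.triv

theorem dZ_lin {c : D.IK} (hc : D.IsLin c) : D.dZ (c : D.KT → ℂ) = 1 := by
  apply Int.cast_injective (α := ℂ)
  rw [D.coe_dZ (D.isGen_irr c), hc.1, Int.cast_one]

theorem not_fixed_lin {c : D.IK} (hc : D.IsLin c) : ¬ D.IsFixed (c : D.KT → ℂ) := by
  intro hf
  obtain ⟨l, hl⟩ := exists_linear_of_degree_one (IsIrr.isCharacter c.2) hc.1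
  have hres : D.resW (c : D.KT → ℂ) = fun w => ((1 : D.L₁) w : ℂ) := by
    funext w
    have hker : ⁅D.KT, D.KT⁆ ≤ (l.ker).map D.KT.subtype := by
      rw [show ⁅D.KT, D.KT⁆ = (⁅(⊤ : Subgroup D.KT), (⊤ : Subgroup D.KT)⁆ : Subgroup D.KT).map D.KT.subtype by
        rw [map_commutator, ← MonoidHom.range_eq_map, range_subtype]]
      exact map_mono (commutator_le.mpr fun x _ y _ => by
        rw [MonoidHom.mem_ker, map_commutatorElement, commutatorElement_eq_one_iff_commute]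
        exact Commute.all _ _)
    have hm : ((D.homK w : D.KT) : D.T) ∈ ⁅D.KT, D.KT⁆ := by
      have hw : (w : G) ∈ (⁅D.KT, D.KT⁆ : Subgroup D.T).map D.T.subtype := by
        rw [map_commutator, subgroupOf_map_subtype, inf_eq_left.mpr D.K_le]
        exact D.W₁_le w.2
      obtain ⟨u, hu, e⟩ := hw
      have e' : u = ((D.homK w : D.KT) : D.T) := Subtype.ext e
      exact e' ▸ hu
    obtain ⟨u, hu, e⟩ := hker hm
    have e' : u = D.homK w := Subtype.ext e
    subst e'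
    rw [resW, hl]
    show ((l (D.homK w) : ℂˣ) : ℂ) = _
    rw [show l (D.homK w) = 1 from MonoidHom.mem_ker.mp hu, MonoidHom.one_apply]
  refine hc.2 (D.lab_inj hf D.isFixed_triv ?_)
  rw [D.lab_triv.1]
  by_contra hne
  have h := D.nW_mod hf 1
  rw [if_neg (Ne.symm hne), show D.nW (c : D.KT → ℂ) 1 = 1 from Int.cast_injective (α := ℂ) (by
    rw [D.coe_nW (D.isGen_irr c), hres, inner_linear, if_pos rfl, Int.cast_one]), Int.cast_one] at h
  exact one_ne_zero h

/-- The difference `1 - c`. -/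
noncomputable def diff1 (c : D.IK) : D.KT → ℂ := (D.triv : D.KT → ℂ) - (c : D.KT → ℂ)

theorem diff1_gen (c : D.IK) : Cfsg.IsGeneralizedCharacter D.KT (D.diff1 c) :=
  Exceptional.IsGen.sub (D.isGen_irr _) (D.isGen_irr _)

theorem diff1_zero {c : D.IK} (hc : D.IsLin c) : D.diff1 c 1 = 0 := by
  rw [diff1, Pi.sub_apply, hc.1, trivChar_apply, sub_self]

theorem coef_diff1_one {c : D.IK} (hc : D.IsLin c) : D.coef (D.diff1 c) 1 1 = 1 := by
  rw [coef, diff1, D.mZ_sub (D.eta_isGen 1 1) (D.isGen_irr _) (D.isGen_irr _), D.coef_one, D.coef_one,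
    if_pos rfl, if_neg hc.2, sub_zero]

theorem diff1_norm {c : D.IK} (hc : D.IsLin c) :
    Cfsg.classInner (D.ind (D.diff1 c)) (D.ind (D.diff1 c)) = (((D.p : ℤ) + 1 : ℤ) : ℂ) := by
  have h0 := D.inner_indT_fixed D.isFixed_triv (φ := c) (Ne.symm hc.2)
  rw [D.inner_ind_ind (D.diff1_zero hc) (D.diff1_zero hc), diff1, indFun_sub, classInner_sub_left,
    classInner_sub_right, classInner_sub_right, D.norm_indT_free (D.not_fixed_lin hc),
    D.norm_indT_fixed D.isFixed_triv, h0, ← classInner_conj_symm, h0, map_zero]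
  push_cast; ring

/-- `τ(1 - c)` is not in the span of the family. -/
theorem diff1_sum_le {c : D.IK} (hc : D.IsLin c) : ∑ l, ∑ k, D.coef (D.diff1 c) l k ^ 2 ≤ (D.p : ℤ) := by
  obtain ⟨h1, h2⟩ := D.bessel_eta (D.diff1_gen c) (D.diff1_norm hc)
  by_contra hcon
  have he := h2 (by omega)
  have hf := D.not_fixed_lin hc
  have hz : Cfsg.classInner (D.ind (D.diff1 c))
      (D.ind ((c : D.KT → ℂ) - (conjIrr c : D.KT → ℂ))) = 0 := by
    rw [he, classInner_sum_left, Finset.sum_eq_zero]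
    intro x _
    rw [classInner_smul_left, ← classInner_conj_symm, D.inner_eta (D.pair_gen c), D.free_pair_coef hf]
    simp
  have h3 := D.inner_indT_fixed D.isFixed_triv (φ := c) (Ne.symm hc.2)
  have h4 := D.inner_indT_fixed D.isFixed_triv (φ := conjIrr c)
    (fun e => hf (D.isFixed_conj.mp (e ▸ D.isFixed_triv)))
  rw [D.inner_ind_ind (D.diff1_zero hc) (D.pair_zero c), diff1, indFun_sub, indFun_sub, classInner_sub_left,
    classInner_sub_right, classInner_sub_right, h3, h4, D.norm_indT_free hf] at hz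
  rw [← classInner_conj_symm (φ := Cfsg.indFun D.KT (conjIrr c : D.KT → ℂ)), D.inner_indT_conj hc.2,
    map_zero] at hz
  norm_num at hz

/-- The dichotomy for `τ(1 - c)`. -/
theorem dichotomy {c : D.IK} (hc : D.IsLin c) :
    ((∀ l, l ≠ 1 → D.coef (D.diff1 c) l 1 = 0) ∧ (∀ k, k ≠ 1 → D.coef (D.diff1 c) 1 k = 1)) ∨
      (∀ l, l ≠ 1 → D.coef (D.diff1 c) l 1 = 1) := by
  set C := D.coef (D.diff1 c) with hC
  have hadd : ∀ l k, C l k = C l 1 + C 1 k - 1 := fun l k => by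
    simp only [hC]
    rw [D.coef_add (D.diff1_gen c) (D.diff1_zero hc) l k, D.coef_diff1_one hc]
  have h11 : C 1 1 = 1 := D.coef_diff1_one hc
  have hcard : (((Finset.univ.erase (1 : D.L₂)).card : ℕ) : ℤ) = (D.p : ℤ) - 1 := by
    rw [Finset.card_erase_of_mem (Finset.mem_univ _), Finset.card_univ, D.card_L₂]
    have := D.three_le_p
    omega
  have hle := D.diff1_sum_le hc
  rw [← hC, ← Finset.add_sum_erase _ _ (Finset.mem_univ (1 : D.L₁)),
    ← Finset.add_sum_erase _ _ (Finset.mem_univ (1 : D.L₂)), h11] at hle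
  have hrw : ∀ l ∈ Finset.univ.erase (1 : D.L₁), ∑ k, C l k ^ 2 =
      C l 1 ^ 2 + ∑ k ∈ Finset.univ.erase (1 : D.L₂), (C l 1 + C 1 k - 1) ^ 2 := fun l _ => by
    rw [← Finset.add_sum_erase _ _ (Finset.mem_univ (1 : D.L₂))]
    exact congrArg _ (Finset.sum_congr rfl fun k _ => by rw [hadd l k])
  rw [Finset.sum_congr rfl hrw, Finset.sum_add_distrib, Finset.sum_comm] at hle
  rcases additive_cases 1 1 (fun l => C l 1) (fun k => C 1 k) (by
    rw [Finset.sum_add_distrib, hcard]; linarith) with ⟨h1, h2⟩ | h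
  · refine Or.inl ⟨h1, fun k hk => ?_⟩
    have h3 := h2 k hk
    rw [Finset.sum_const, Finset.card_erase_of_mem (Finset.mem_univ _), Finset.card_univ, D.card_L₁,
      nsmul_eq_mul] at h3
    have hq : (2 : ℤ) ≤ ((D.q - 1 : ℕ) : ℤ) := by have := D.three_le_q; omega
    by_contra hB
    change C 1 k ≠ 1 at hB
    have hsq : 0 < (C 1 k - 1) ^ 2 := by
      have : C 1 k - 1 ≠ 0 := sub_ne_zero.mpr hB
      positivity
    nlinarith [sq_nonneg (C 1 k)]
  · exact Or.inr h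

/-- The entries of `τ(θ - d·c)` modulo `r`. -/
theorem coef_fixed_mod {c θ : D.IK} (hθ : D.IsFixed (θ : D.KT → ℂ)) (l : D.L₁) (k : D.L₂) :
    (D.sgn θ : ZMod D.r) *
        (D.coef ((θ : D.KT → ℂ) - (D.dZ (θ : D.KT → ℂ) : ℂ) • (c : D.KT → ℂ)) l k : ZMod D.r) =
      (if D.lab θ = l then 1 else 0) - (if l = 1 then 1 else 0) + (D.coef (D.diff1 c) l k : ZMod D.r) := by
  rw [coef, coef, diff1, D.mZ_sub_smul (D.eta_isGen l k) (D.isGen_irr _) (D.isGen_irr _),
    D.mZ_sub (D.eta_isGen l k) (D.isGen_irr _) (D.isGen_irr _),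
    D.entry_mod (D.eta_isGen l k) _ (D.eta_agree l k) hθ, D.comp_inclusion]

theorem lab_ne_one {θ : D.IK} (hθ : D.IsFixed (θ : D.KT → ℂ)) (hne : θ ≠ D.triv) : D.lab θ ≠ 1 := fun e =>
  hne (D.lab_inj hθ D.isFixed_triv (e.trans D.lab_triv.1.symm))

theorem one_le_sq_of_cast_ne {n : ℤ} (h : (n : ZMod D.r) ≠ 0) : 1 ≤ n ^ 2 := by
  have h0 : n ≠ 0 := fun e => h (by rw [e, Int.cast_zero])
  have : 0 < n ^ 2 := by positivity
  omega

/-- The part of `τ(θ - d·c)` on the family. -/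
theorem fixed_part {c θ : D.IK} (hc : D.IsLin c) (hθ : D.IsFixed (θ : D.KT → ℂ)) (hne : θ ≠ D.triv) :
    (D.p : ℤ) ≤ ∑ l, ∑ k, D.coef ((θ : D.KT → ℂ) - (D.dZ (θ : D.KT → ℂ) : ℂ) • (c : D.KT → ℂ)) l k ^ 2 ∧
      ((∀ l, l ≠ 1 → D.coef (D.diff1 c) l 1 = 1) →
        (D.p : ℤ) + 1 ≤
          ∑ l, ∑ k, D.coef ((θ : D.KT → ℂ) - (D.dZ (θ : D.KT → ℂ) : ℂ) • (c : D.KT → ℂ)) l k ^ 2) := by
  set C := D.coef (D.diff1 c) with hC
  set E := D.coef ((θ : D.KT → ℂ) - (D.dZ (θ : D.KT → ℂ) : ℂ) • (c : D.KT → ℂ)) with hE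
  set l₁ := D.lab θ with hl₁
  have hl : l₁ ≠ 1 := D.lab_ne_one hθ hne
  have hC1 : C 1 1 = 1 := D.coef_diff1_one hc
  have hadd : ∀ l k, C l k = C l 1 + C 1 k - 1 := fun l k => by
    simp only [hC]
    rw [D.coef_add (D.diff1_gen c) (D.diff1_zero hc) l k, D.coef_diff1_one hc]
  have hne0 : ∀ l k, ((if l₁ = l then 1 else 0) - (if l = 1 then 1 else 0) + (C l k : ZMod D.r)) ≠ 0 →
      1 ≤ E l k ^ 2 := fun l k h => D.one_le_sq_of_cast_ne fun h0 => h (by
    rw [← D.coef_fixed_mod hθ l k]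
    exact mul_eq_zero_of_right _ h0)
  have hA1 : (∀ l, l ≠ 1 → C l 1 = 1) → (D.p : ℤ) + 1 ≤ ∑ l, ∑ k, E l k ^ 2 := by
    intro hA
    rw [Finset.sum_comm, ← Finset.add_sum_erase _ _ (Finset.mem_univ (1 : D.L₂))]
    have h1 : ∀ k ∈ Finset.univ.erase (1 : D.L₂), (1 : ℤ) ≤ ∑ l, E l k ^ 2 := fun k _ => by
      by_cases hB : ((C 1 k : ℤ) : ZMod D.r) - 1 = 0
      · refine (hne0 l₁ k ?_).trans
          (Finset.single_le_sum (f := fun l => E l k ^ 2) (fun _ _ => sq_nonneg _) (Finset.mem_univ _))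
        rw [if_pos rfl, if_neg hl, hadd, hA l₁ hl, add_sub_cancel_left]
        intro h0
        exact D.two_ne_zero_r (by linear_combination h0 - hB)
      · refine (hne0 1 k ?_).trans
          (Finset.single_le_sum (f := fun l => E l k ^ 2) (fun _ _ => sq_nonneg _) (Finset.mem_univ _))
        rw [if_neg hl, if_pos rfl]
        intro h0
        exact hB (by linear_combination h0)
    have h2 : ∀ l ∈ Finset.univ.erase (1 : D.L₁), (1 : ℤ) ≤ E l 1 ^ 2 := fun l hl' => by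
      refine hne0 l 1 ?_
      rw [if_neg (Finset.mem_erase.mp hl').1, hA l (Finset.mem_erase.mp hl').1, Int.cast_one]
      split_ifs
      · rw [sub_zero, one_add_one_eq_two]; exact D.two_ne_zero_r
      · simp
    have h3 := Finset.sum_le_sum h1
    have h4 := (Finset.sum_le_sum h2).trans (Finset.sum_le_sum_of_subset_of_nonneg
      (Finset.erase_subset (1 : D.L₁) Finset.univ) fun l _ _ => sq_nonneg (E l 1))
    rw [Finset.sum_const, Finset.card_erase_of_mem (Finset.mem_univ _), Finset.card_univ, nsmul_one] at h3 h4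
    rw [D.card_L₂] at h3
    rw [D.card_L₁] at h4
    have := D.three_le_q
    have := D.three_le_p
    omega
  refine ⟨?_, hA1⟩
  rcases D.dichotomy hc with ⟨hA, hB⟩ | hA
  · refine le_trans ?_ (Finset.single_le_sum (f := fun l => ∑ k, E l k ^ 2)
      (fun _ _ => Finset.sum_nonneg fun _ _ => sq_nonneg _) (Finset.mem_univ l₁))
    have h1 : ∀ k ∈ (Finset.univ : Finset D.L₂), (1 : ℤ) ≤ E l₁ k ^ 2 := fun k _ => by
      refine hne0 l₁ k ?_
      rw [if_pos rfl, if_neg hl]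
      have hz : C l₁ k = 0 := by
        by_cases hk : k = 1
        · rw [hk]; exact hA l₁ hl
        · rw [hadd, show C l₁ 1 = 0 from hA l₁ hl, show C 1 k = 1 from hB k hk]; ring
      rw [hz]; simp
    have h2 := Finset.sum_le_sum h1
    rw [Finset.sum_const, Finset.card_univ, D.card_L₂, nsmul_one] at h2
    exact h2
  · exact (le_add_of_nonneg_right zero_le_one).trans (hA1 hA)

/-- Two fixed characters of equal degree: `τ` of the difference is a signed sum of `2p` members. -/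
theorem fixed_pair {θ θ' : D.IK} (hθ : D.IsFixed (θ : D.KT → ℂ)) (hθ' : D.IsFixed (θ' : D.KT → ℂ))
    (hne : θ ≠ θ') (hd : D.dZ (θ : D.KT → ℂ) = D.dZ (θ' : D.KT → ℂ)) :
    (∀ l k, D.coef ((θ : D.KT → ℂ) - (θ' : D.KT → ℂ)) l k ^ 2 =
      if l = D.lab θ ∨ l = D.lab θ' then 1 else 0) ∧
    D.ind ((θ : D.KT → ℂ) - (θ' : D.KT → ℂ)) =
      ∑ x : D.L₁ × D.L₂, (D.coef ((θ : D.KT → ℂ) - (θ' : D.KT → ℂ)) x.1 x.2 : ℂ) • D.eta x.1 x.2 := by
  set a := (θ : D.KT → ℂ) - (θ' : D.KT → ℂ) with hadef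
  have ha : Cfsg.IsGeneralizedCharacter D.KT a := Exceptional.IsGen.sub (D.isGen_irr _) (D.isGen_irr _)
  have ha1 : a 1 = 0 := by
    rw [hadef, Pi.sub_apply, ← D.coe_dZ (D.isGen_irr θ), ← D.coe_dZ (D.isGen_irr θ'), hd, sub_self]
  have hs : (D.sgn θ : ZMod D.r) = D.sgn θ' := by rw [← D.dZ_mod hθ, ← D.dZ_mod hθ', hd]
  have hmod : ∀ l k, (D.sgn θ : ZMod D.r) * (D.coef a l k : ZMod D.r) =
      (if D.lab θ = l then 1 else 0) - (if D.lab θ' = l then 1 else 0) := fun l k => by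
    obtain ⟨c, hc⟩ := D.mult_mod (D.eta_isGen l k) _ (D.eta_agree l k)
    have h1 := hc θ hθ
    have h2 := hc θ' hθ'
    rw [D.comp_inclusion, ← hs] at h2
    rw [D.comp_inclusion] at h1
    rw [coef, D.mZ_sub (D.eta_isGen l k) (D.isGen_irr _) (D.isGen_irr _), Int.cast_sub]
    linear_combination h1 - h2
  have hlab : D.lab θ ≠ D.lab θ' := fun e => hne (D.lab_inj hθ hθ' e)
  have hN : Cfsg.classInner (D.ind a) (D.ind a) = ((2 * D.p : ℤ) : ℂ) := by
    rw [D.inner_ind_ind ha1 ha1, hadef, indFun_sub, classInner_sub_left, classInner_sub_right,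
      classInner_sub_right, D.norm_indT_fixed hθ, D.norm_indT_fixed hθ', D.inner_indT_fixed hθ hne,
      D.inner_indT_fixed hθ' (Ne.symm hne)]
    push_cast; ring
  obtain ⟨hb, heq⟩ := D.bessel_eta ha hN
  have hpt : ∀ l k, (if l = D.lab θ ∨ l = D.lab θ' then (1 : ℤ) else 0) ≤ D.coef a l k ^ 2 := fun l k => by
    split_ifs with h
    · refine D.one_le_sq_of_cast_ne fun h0 => ?_
      have h1 := hmod l k
      rw [h0, mul_zero] at h1
      rcases h with rfl | rfl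
      · rw [if_pos rfl, if_neg (Ne.symm hlab), sub_zero] at h1; exact zero_ne_one h1
      · rw [if_pos rfl, if_neg hlab, zero_sub] at h1; exact neg_ne_zero.mpr one_ne_zero h1.symm
    · exact sq_nonneg _
  have htot : ∑ l, ∑ k : D.L₂, (if l = D.lab θ ∨ l = D.lab θ' then (1 : ℤ) else 0) = 2 * (D.p : ℤ) := by
    rw [Finset.sum_comm, Finset.sum_congr rfl fun k _ => show (∑ l : D.L₁,
        (if l = D.lab θ ∨ l = D.lab θ' then (1 : ℤ) else 0)) = 2 by
      rw [Finset.sum_boole, show (Finset.univ.filter fun l : D.L₁ => l = D.lab θ ∨ l = D.lab θ') =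
        {D.lab θ, D.lab θ'} by ext l; simp, Finset.card_pair hlab]
      rfl]
    rw [Finset.sum_const, Finset.card_univ, D.card_L₂, nsmul_eq_mul, mul_comm]
  have hle := Finset.sum_le_sum fun l (_ : l ∈ Finset.univ) => Finset.sum_le_sum
    fun k (_ : k ∈ (Finset.univ : Finset D.L₂)) => hpt l k
  refine ⟨fun l k => ?_, heq (le_antisymm hb (by linarith))⟩
  have e : ∑ l, ∑ k : D.L₂, (if l = D.lab θ ∨ l = D.lab θ' then (1 : ℤ) else 0) =
      ∑ l, ∑ k, D.coef a l k ^ 2 := le_antisymm hle (by linarith)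
  have e1 := (Finset.sum_eq_sum_iff_of_le fun l _ => Finset.sum_le_sum fun k _ => hpt l k).mp e l
    (Finset.mem_univ _)
  exact ((Finset.sum_eq_sum_iff_of_le fun k _ => hpt l k).mp e1 k (Finset.mem_univ _)).symm

end TV

end CfsgLib.OddLocal.TypeFive
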