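import Cfsg.Agent.Lib.OddLocal.Final.TypeV.System

/-!
Owner: helper1. The coherent images `ξ` of the characters induced from the nonprincipal linear characters
of the kernel, and the coefficient `x θ` of `τ(θ - d·c)` on them.
-/

set_option autoImplicit false
set_option linter.unusedSectionVars false

open scoped Classical

namespace CfsgLib.OddLocal.TypeFive

open CfsgLib.Char CfsgLib.CyclicTI Subgroup
open scoped ComplexConjugate

/-- If the difference of two orthogonal signed irreducibles is orthogonal to a signed irreducible, so are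
both. -/
theorem orth_of_sub {X : Type*} [Group X] [Fintype X] {x y e : X → ℂ} (hx : SignedIrr x) (he : SignedIrr e)
    (hxy : Cfsg.classInner x y = 0) (h : Cfsg.classInner (x - y) e = 0) : Cfsg.classInner x e = 0 := by
  rw [classInner_sub_left, sub_eq_zero] at h
  have hyx : Cfsg.classInner y x = 0 := by rw [← classInner_conj_symm, hxy, map_zero]
  rcases hx.trichotomy he with h0 | ⟨h0, -⟩ | ⟨h0, -⟩
  · exact h0
  · exact h.trans (h0 ▸ hyx)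
  · refine h.trans ?_
    rw [h0, CfsgLib.CyclicTI.inner_neg_right, neg_eq_zero] at hyx
    exact hyx

theorem signed_self {X : Type*} [Group X] [Fintype X] {x : X → ℂ} (hx : SignedIrr x) :
    Cfsg.classInner x x = 1 := by
  obtain ⟨s, a, hs, rfl⟩ := hx.exists_sign
  rw [classInner_smul_left, classInner_smul_right, classInner_irr_self, map_intCast]
  rcases hs with rfl | rfl <;> simp

theorem signed_isGen {X : Type*} [Group X] {x : X → ℂ} (hx : SignedIrr x) :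
    Cfsg.IsGeneralizedCharacter X x := by
  rcases hx with h | h
  · exact IsGen.of_irr h
  · exact neg_neg x ▸ Exceptional.IsGen.neg (IsGen.of_irr h)

theorem classInner_conjFun {X : Type*} [Group X] [Fintype X] (f g : X → ℂ) :
    Cfsg.classInner (Cfsg.conjFun f) (Cfsg.conjFun g) = conj (Cfsg.classInner f g) := by
  simp [Cfsg.classInner, Cfsg.conjFun, map_sum]

namespace TV

variable {G : Type*} [Group G] [Fintype G] (D : TV G)

/-- The derived subgroup of the kernel. -/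
abbrev DK : Subgroup D.T := ⁅D.KT, D.KT⁆

/-- The characters induced from nonprincipal linear characters of the kernel. -/
abbrev Mem : Set (D.T → ℂ) := Cfsg.inducedIrrAbove D.KT D.DK

theorem lin_ker {c : D.IK} (hc : D.IsLin c) {a : D.KT} (ha : (a : D.T) ∈ D.DK) :
    (c : D.KT → ℂ) a = (c : D.KT → ℂ) 1 := by
  obtain ⟨l, hl⟩ := exists_linear_of_degree_one (IsIrr.isCharacter c.2) hc.1
  have hker : ⁅D.KT, D.KT⁆ ≤ (l.ker).map D.KT.subtype := by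
    rw [show ⁅D.KT, D.KT⁆ = (⁅(⊤ : Subgroup D.KT), (⊤ : Subgroup D.KT)⁆ : Subgroup D.KT).map D.KT.subtype by
      rw [map_commutator, ← MonoidHom.range_eq_map, range_subtype]]
    exact map_mono (commutator_le.mpr fun x _ y _ => by
      rw [MonoidHom.mem_ker, map_commutatorElement, commutatorElement_eq_one_iff_commute]
      exact Commute.all _ _)
  obtain ⟨u, hu, e⟩ := hker ha
  obtain rfl : u = a := Subtype.ext e
  rw [hl]
  show ((l u : ℂˣ) : ℂ) = ((l 1 : ℂˣ) : ℂ)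
  rw [show l u = 1 from MonoidHom.mem_ker.mp hu, map_one]

theorem mem_of_lin {c : D.IK} (hc : D.IsLin c) : Cfsg.indFun D.KT (c : D.KT → ℂ) ∈ D.Mem :=
  ⟨c, c.2, fun e => hc.2 (Subtype.ext e), fun _ ha => D.lin_ker hc ha, rfl⟩

theorem exists_lin_of_mem {φ : D.T → ℂ} (h : φ ∈ D.Mem) :
    ∃ c : D.IK, D.IsLin c ∧ φ = Cfsg.indFun D.KT (c : D.KT → ℂ) := by
  obtain ⟨θ, hθ, h1, hker, rfl⟩ := h
  exact ⟨⟨θ, hθ⟩, ⟨Coh.apply_one_of_commutator_le (K := D.KT) le_rfl hθ hker,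
    fun e => h1 (congrArg Subtype.val e)⟩, rfl⟩

theorem mem_S₀_of_mem {φ : D.T → ℂ} (h : φ ∈ D.Mem) : φ ∈ D.S₀ := Coh.inducedIrrAbove_subset _ h

theorem irr_of_mem {φ : D.T → ℂ} (h : φ ∈ D.Mem) : Cfsg.IsIrrCharacter D.T φ := by
  obtain ⟨c, hc, rfl⟩ := D.exists_lin_of_mem h
  exact D.isIrr_ind_of_moved c.2 (D.not_fixed_lin hc)

theorem mem_one {φ : D.T → ℂ} (h : φ ∈ D.Mem) : φ 1 = (D.p : ℂ) := by
  obtain ⟨c, hc, rfl⟩ := D.exists_lin_of_mem h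
  rw [indFun_apply_one, hc.1, D.index_KT, mul_one]

theorem conj_mem_Mem {φ : D.T → ℂ} (h : φ ∈ D.Mem) : Cfsg.conjFun φ ∈ D.Mem ∧ Cfsg.conjFun φ ≠ φ :=
  ⟨Coh.closed_conj _ φ h, (D.conj_mem_S₀ (D.mem_S₀_of_mem h)).2⟩

theorem conjFun_indT (θ : D.IK) :
    Cfsg.conjFun (Cfsg.indFun D.KT (θ : D.KT → ℂ)) = Cfsg.indFun D.KT (conjIrr θ : D.KT → ℂ) :=
  Coh.conjFun_indFun (K := D.KT) (θ : D.KT → ℂ)

noncomputable instance : Fintype D.Mem :=
  (Exceptional.finite_of_irr fun _ h => D.irr_of_mem h).fintype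

/-- The number of members. -/
noncomputable abbrev R : ℕ := Fintype.card D.Mem

theorem R_eq : D.p * D.R + 1 = D.DK.relIndex D.KT := by
  have : D.DK.Normal := inferInstance
  have h := Coh.sum_wt (K := D.KT) D.DK
  rw [Finset.sum_congr rfl (g := fun _ => (D.p : ℝ) ^ 2) fun φ _ => by
      rw [Coh.wt, D.mem_one φ.2, Exceptional.classInner_self_of_irr (D.irr_of_mem φ.2), Complex.natCast_re,
        Complex.one_re, div_one],
    Finset.sum_const, Finset.card_univ, nsmul_eq_mul, D.index_KT] at h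
  have hp : (D.p : ℝ) ≠ 0 := Nat.cast_ne_zero.mpr Nat.card_pos.ne'
  have h' : ((D.p * D.R + 1 : ℕ) : ℝ) = (D.DK.relIndex D.KT : ℝ) := by
    push_cast
    have := mul_left_cancel₀ hp (show (D.p : ℝ) * (D.p * D.R) = D.p * ((D.DK.relIndex D.KT : ℝ) - 1) by
      linear_combination h)
    linarith
  exact_mod_cast h'

theorem two_le_R : 2 ≤ D.R := by
  obtain ⟨c, hc⟩ := D.exists_lin
  refine Fintype.one_lt_card_iff.mpr ⟨⟨_, D.mem_of_lin hc⟩, ⟨_, (D.conj_mem_Mem (D.mem_of_lin hc)).1⟩, fun e => ?_⟩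
  exact (D.conj_mem_Mem (D.mem_of_lin hc)).2 (congrArg Subtype.val e).symm

/-- A family of coherent images of the members. -/
structure IsFam (ξ : (D.T → ℂ) → G → ℂ) : Prop where
  signed : ∀ φ ∈ D.Mem, SignedIrr (ξ φ)
  orth : ∀ φ ∈ D.Mem, ∀ ψ ∈ D.Mem, φ ≠ ψ → Cfsg.classInner (ξ φ) (ξ ψ) = 0
  diff : ∀ φ ∈ D.Mem, ∀ ψ ∈ D.Mem, D.tau (φ - ψ) = ξ φ - ξ ψ

theorem sub_mem_span {φ ψ : D.T → ℂ} (hφ : φ ∈ D.Mem) (hψ : ψ ∈ D.Mem) :
    φ - ψ ∈ Cfsg.zspanOn D.S₀ ({1}ᶜ : Set D.T) :=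
  Exceptional.sub_mem_zspanOn_one (D.mem_S₀_of_mem hφ) (D.mem_S₀_of_mem hψ)
    (by rw [D.mem_one hφ, D.mem_one hψ])

theorem exists_fam : ∃ ξ, D.IsFam ξ := by
  obtain ⟨c, hc⟩ := D.exists_lin
  obtain ⟨ε, f, hε, hirr, hinj, hd⟩ := Exceptional.const_degree_family (S := D.Mem) (τ := D.tau)
    (fun φ h => D.irr_of_mem h) (fun φ h ψ h' => by rw [D.mem_one h, D.mem_one h'])
    ⟨_, (D.conj_mem_Mem (D.mem_of_lin hc)).1, _, D.mem_of_lin hc, (D.conj_mem_Mem (D.mem_of_lin hc)).2⟩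
    (Exceptional.IsLinearIsometryOn.mono D.tau_isometry (Exceptional.zspanOn_subset _ fun _ h => D.mem_S₀_of_mem h))
    (fun α hα => D.tau_map_one (Exceptional.zspanOn_subset _ (fun _ h => D.mem_S₀_of_mem h) hα))
  refine ⟨fun φ => ε • f φ, fun φ h => ?_, fun φ h ψ h' hne => ?_, fun φ h ψ h' => ?_⟩
  · rcases hε with rfl | rfl
    · exact Or.inl (by simpa using hirr φ h)
    · exact Or.inr (by simpa using hirr φ h)
  · rw [classInner_smul_left, classInner_smul_right,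
      Exceptional.classInner_eq_zero_of_irr (hirr φ h) (hirr ψ h') fun e => hne (hinj φ h ψ h' e),
      mul_zero, mul_zero]
  · rw [hd φ h ψ h', smul_sub]

theorem ind_sub (a b : D.KT → ℂ) : D.ind (a - b) = D.tau (Cfsg.indFun D.KT a - Cfsg.indFun D.KT b) := by
  rw [ind, indFun_sub]

/-- The principal and the nonlinear characters. -/
def NotLin (θ : D.IK) : Prop := ¬ D.IsLin θ

theorem notLin_triv : D.NotLin D.triv := fun h => h.2 rfl

theorem notLin_of_fixed {θ : D.IK} (h : D.IsFixed (θ : D.KT → ℂ)) : D.NotLin θ := fun hl => D.not_fixed_lin hl h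

theorem inner_indT_lin {θ c : D.IK} (hθ : D.NotLin θ) (hc : D.IsLin c) :
    Cfsg.classInner (Cfsg.indFun D.KT (θ : D.KT → ℂ)) (Cfsg.indFun D.KT (c : D.KT → ℂ)) = 0 := by
  refine D.inner_indT fun t e => ?_
  have h1 : (θ : D.KT → ℂ) 1 = 1 := by
    rw [← e, Clifford.conjFn_apply]
    refine Eq.trans (congrArg _ (Subtype.ext ?_)) hc.1
    simp
  refine hθ ⟨h1, fun et => hc.2 (Subtype.ext ?_)⟩
  have h2 := congrArg (fun f => Clifford.conjFn inferInstance f t⁻¹) e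
  simp only [← Clifford.conjFn_mul, mul_inv_cancel, Clifford.conjFn_one] at h2
  rw [h2, et]
  rfl

/-- `θ - d·c`. -/
noncomputable def dd (θ c : D.IK) : D.KT → ℂ := (θ : D.KT → ℂ) - (D.dZ (θ : D.KT → ℂ) : ℂ) • (c : D.KT → ℂ)

theorem dd_gen (θ c : D.IK) : Cfsg.IsGeneralizedCharacter D.KT (D.dd θ c) :=
  Exceptional.IsGen.sub (D.isGen_irr _) (Exceptional.IsGen.intCast_smul _ (D.isGen_irr _))

theorem dd_zero (θ : D.IK) {c : D.IK} (hc : D.IsLin c) : D.dd θ c 1 = 0 := by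
  rw [dd, Pi.sub_apply, Pi.smul_apply, smul_eq_mul, hc.1, mul_one, D.coe_dZ (D.isGen_irr θ), sub_self]

theorem dd_triv (c : D.IK) : D.dd D.triv c = D.diff1 c := by
  rw [dd, diff1, D.dZ_triv, Int.cast_one, one_smul]

theorem indT_dd (θ c : D.IK) : Cfsg.indFun D.KT (D.dd θ c) =
    Cfsg.indFun D.KT (θ : D.KT → ℂ) - (D.dZ (θ : D.KT → ℂ) : ℂ) • Cfsg.indFun D.KT (c : D.KT → ℂ) := by
  rw [dd, indFun_sub, indFun_smul]

theorem mZ_dd {f : G → ℂ} (hf : Cfsg.IsGeneralizedCharacter G f) (θ c : D.IK) :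
    D.mZ f (D.dd θ c) = D.mZ f (θ : D.KT → ℂ) - D.dZ (θ : D.KT → ℂ) * D.mZ f (c : D.KT → ℂ) :=
  D.mZ_sub_smul hf (D.isGen_irr _) (D.isGen_irr _) _

theorem norm_dd {θ c : D.IK} (hθ : D.NotLin θ) (hc : D.IsLin c) :
    Cfsg.classInner (D.ind (D.dd θ c)) (D.ind (D.dd θ c)) =
      Cfsg.classInner (Cfsg.indFun D.KT (θ : D.KT → ℂ)) (Cfsg.indFun D.KT (θ : D.KT → ℂ)) +
        (D.dZ (θ : D.KT → ℂ) : ℂ) ^ 2 := by
  have h0 := D.inner_indT_lin hθ hc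
  have h0' : Cfsg.classInner (Cfsg.indFun D.KT (c : D.KT → ℂ)) (Cfsg.indFun D.KT (θ : D.KT → ℂ)) = 0 := by
    rw [← classInner_conj_symm, h0, map_zero]
  rw [D.inner_ind_ind (D.dd_zero θ hc) (D.dd_zero θ hc), D.indT_dd, classInner_sub_left, classInner_sub_right,
    classInner_sub_right, classInner_smul_left, classInner_smul_left, classInner_smul_right, classInner_smul_right,
    D.norm_indT_free (D.not_fixed_lin hc), h0, h0', map_intCast]
  ring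

/-- The coefficient `x θ`. -/
noncomputable def xval (ξ : (D.T → ℂ) → G → ℂ) (θ : D.IK) : ℤ :=
  D.mZ (ξ (Cfsg.indFun D.KT (D.exists_lin.choose : D.KT → ℂ))) (D.dd θ D.exists_lin.choose) +
    D.dZ (θ : D.KT → ℂ)

variable {D}
variable {ξ : (D.T → ℂ) → G → ℂ}

theorem IsFam.gen (hξ : D.IsFam ξ) {φ : D.T → ℂ} (hφ : φ ∈ D.Mem) : Cfsg.IsGeneralizedCharacter G (ξ φ) :=
  signed_isGen (hξ.signed φ hφ)

theorem IsFam.inner (hξ : D.IsFam ξ) {φ ψ : D.T → ℂ} (hφ : φ ∈ D.Mem) (hψ : ψ ∈ D.Mem) :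
    Cfsg.classInner (ξ φ) (ξ ψ) = if φ = ψ then 1 else 0 := by
  split_ifs with h
  · subst h; exact signed_self (hξ.signed φ hφ)
  · exact hξ.orth φ hφ ψ hψ h

theorem IsFam.mult_lin (hξ : D.IsFam ξ) {φ : D.T → ℂ} (hφ : φ ∈ D.Mem) {b b' : D.IK} (hb : D.IsLin b)
    (hb' : D.IsLin b') :
    D.mZ (ξ φ) (b : D.KT → ℂ) - (if Cfsg.indFun D.KT (b : D.KT → ℂ) = φ then 1 else 0) =
      D.mZ (ξ φ) (b' : D.KT → ℂ) - (if Cfsg.indFun D.KT (b' : D.KT → ℂ) = φ then 1 else 0) := by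
  apply Int.cast_injective (α := ℂ)
  have h := D.inner_ind_eq (hξ.gen hφ) (Exceptional.IsGen.sub (D.isGen_irr b) (D.isGen_irr b'))
  rw [D.ind_sub, hξ.diff _ (D.mem_of_lin hb) _ (D.mem_of_lin hb'), classInner_sub_left,
    hξ.inner (D.mem_of_lin hb) hφ, hξ.inner (D.mem_of_lin hb') hφ,
    D.mZ_sub (hξ.gen hφ) (D.isGen_irr b) (D.isGen_irr b'), Int.cast_sub] at h
  push_cast [apply_ite (Int.cast (R := ℂ))]
  linear_combination -h

/-- The coefficients of `τ(θ - d·b)` on the family. -/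
theorem IsFam.mult_dd (hξ : D.IsFam ξ) {θ b : D.IK} (hθ : D.NotLin θ) (hb : D.IsLin b) {φ : D.T → ℂ}
    (hφ : φ ∈ D.Mem) :
    D.mZ (ξ φ) (D.dd θ b) =
      D.xval ξ θ - D.dZ (θ : D.KT → ℂ) * (if Cfsg.indFun D.KT (b : D.KT → ℂ) = φ then 1 else 0) := by
  set c₀ := D.exists_lin.choose
  have hc₀ : D.IsLin c₀ := D.exists_lin.choose_spec
  have hm₀ := D.mem_of_lin hc₀
  obtain ⟨a, ha, rfl⟩ := D.exists_lin_of_mem hφ
  have hab : (a : D.KT → ℂ) 1 - (c₀ : D.KT → ℂ) 1 = 0 := by rw [ha.1, hc₀.1, sub_self]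
  have key : Cfsg.classInner (D.ind (D.dd θ c₀)) (ξ (Cfsg.indFun D.KT (a : D.KT → ℂ))) -
      Cfsg.classInner (D.ind (D.dd θ c₀)) (ξ (Cfsg.indFun D.KT (c₀ : D.KT → ℂ))) =
      -(D.dZ (θ : D.KT → ℂ) : ℂ) *
        ((if Cfsg.indFun D.KT (c₀ : D.KT → ℂ) = Cfsg.indFun D.KT (a : D.KT → ℂ) then 1 else 0) - 1) := by
    rw [← classInner_sub_right, ← hξ.diff _ hφ _ hm₀, ← D.ind_sub,
      D.inner_ind_ind (D.dd_zero θ hc₀) (by rw [Pi.sub_apply]; exact hab), D.indT_dd, indFun_sub,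
      classInner_sub_left, classInner_sub_right, classInner_sub_right, classInner_smul_left, classInner_smul_left,
      D.inner_indT_lin hθ ha, D.inner_indT_lin hθ hc₀,
      Exceptional.classInner_self_of_irr (D.irr_of_mem hm₀),
      Exceptional.classInner_of_irr (D.irr_of_mem hm₀) (D.irr_of_mem hφ)]
    ring
  rw [D.inner_ind_eq (hξ.gen hφ) (D.dd_gen θ c₀), D.inner_ind_eq (hξ.gen hm₀) (D.dd_gen θ c₀)] at key
  have key' : D.mZ (ξ (Cfsg.indFun D.KT (a : D.KT → ℂ))) (D.dd θ c₀) -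
      D.mZ (ξ (Cfsg.indFun D.KT (c₀ : D.KT → ℂ))) (D.dd θ c₀) = -D.dZ (θ : D.KT → ℂ) *
        ((if Cfsg.indFun D.KT (c₀ : D.KT → ℂ) = Cfsg.indFun D.KT (a : D.KT → ℂ) then 1 else 0) - 1) := by
    apply Int.cast_injective (α := ℂ)
    push_cast [apply_ite (Int.cast (R := ℂ))]
    exact key
  have hl := hξ.mult_lin hφ hb hc₀
  rw [D.mZ_dd (hξ.gen hφ)] at key' ⊢
  rw [xval]
  linear_combination key' - D.dZ (θ : D.KT → ℂ) * hl

theorem IsFam.eta (hξ : D.IsFam ξ) {φ : D.T → ℂ} (hφ : φ ∈ D.Mem) (l : D.L₁) (k : D.L₂) :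
    Cfsg.classInner (ξ φ) (D.eta l k) = 0 := by
  obtain ⟨c, hc, rfl⟩ := D.exists_lin_of_mem hφ
  obtain ⟨hφc, hne⟩ := D.conj_mem_Mem hφ
  refine orth_of_sub (hξ.signed _ hφ) (D.eta_signed l k) (hξ.orth _ hφ _ hφc (Ne.symm hne)) ?_
  rw [← hξ.diff _ hφ _ hφc, D.conjFun_indT, ← D.ind_sub, D.inner_eta (D.pair_gen c),
    D.free_pair_coef (D.not_fixed_lin hc), Int.cast_zero]

theorem IsFam.conj (hξ : D.IsFam ξ) {φ : D.T → ℂ} (hφ : φ ∈ D.Mem) :
    ξ (Cfsg.conjFun φ) = Cfsg.conjFun (ξ φ) := by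
  obtain ⟨hφc, hne⟩ := D.conj_mem_Mem hφ
  have hs : ∀ ψ ∈ D.Mem, SignedIrr (Cfsg.conjFun (ξ ψ)) := fun ψ hψ => by
    rcases hξ.signed ψ hψ with h | h
    · exact Or.inl (Exceptional.IsIrr.conjFun h)
    · refine Or.inr ?_
      have e : -Cfsg.conjFun (ξ ψ) = Cfsg.conjFun (-ξ ψ) := funext fun g => by simp [Cfsg.conjFun]
      exact e ▸ Exceptional.IsIrr.conjFun h
  have hd := hξ.diff _ hφ _ hφc
  have h1 : ∀ a b : G → ℂ, Cfsg.conjFun (a - b) = Cfsg.conjFun a - Cfsg.conjFun b := fun a b =>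
    funext fun g => by simp [Cfsg.conjFun]
  have hconj : Cfsg.conjFun (D.tau (φ - Cfsg.conjFun φ)) = D.tau (Cfsg.conjFun φ - φ) := by
    rw [tau, tau, Coh.conjFun_indFun]
    congr 1
    funext t
    simp [Cfsg.conjFun]
  have hd' := hξ.diff _ hφc _ hφ
  rw [hd, h1, hd'] at hconj
  have hdeg : ξ φ 1 = ξ (Cfsg.conjFun φ) 1 := by
    have h := congrFun hd 1
    rw [D.tau_map_one (D.sub_mem_span hφ hφc), Pi.sub_apply] at h
    exact sub_eq_zero.mp h.symm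
  have hre : ∀ ψ ∈ D.Mem, Cfsg.conjFun (ξ ψ) 1 = ξ ψ 1 := fun ψ hψ => by
    obtain ⟨n, hn⟩ := Exceptional.IsGen.exists_apply_one (hξ.gen hψ)
    simp [Cfsg.conjFun, hn]
  symm
  refine pair_unique (hs φ hφ) (hs _ hφc) (hξ.signed _ hφc) (hξ.signed φ hφ) ?_ hconj ?_ ?_ ?_
  · rw [classInner_conjFun, hξ.orth _ hφ _ hφc (Ne.symm hne), map_zero]
  · rw [hre φ hφ, hre _ hφc, hdeg]
  · rw [hre φ hφ, hdeg]
  · rw [hre φ hφ]
    rcases hξ.signed φ hφ with h | h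
    · exact IsIrr.apply_one_ne_zero h
    · exact fun e => IsIrr.apply_one_ne_zero h (by simp [e])

theorem IsFam.xval_conj (hξ : D.IsFam ξ) {θ : D.IK} (hθ : D.NotLin θ) : D.xval ξ (conjIrr θ) = D.xval ξ θ := by
  obtain ⟨c, hc⟩ := D.exists_lin
  have hm := D.mem_of_lin hc
  have hcl : D.IsLin (conjIrr c) := ⟨by rw [conjIrr_apply, hc.1, map_one], fun e =>
    hc.2 (by rw [← conjIrr_conjIrr c, e]; exact irr_ext fun g => by simp)⟩
  have hθ' : D.NotLin (conjIrr θ) := fun h => hθ ⟨by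
    have h1 := h.1; rw [conjIrr_apply] at h1; simpa using congrArg (starRingEnd ℂ) h1, fun e =>
    h.2 (by rw [e]; exact irr_ext fun g => by simp)⟩
  have h1 := hξ.mult_dd hθ hc hm
  have h2 := hξ.mult_dd hθ' hcl (D.conj_mem_Mem hm).1
  rw [if_pos rfl, D.conjFun_indT] at *
  rw [if_pos rfl, D.dZ_conj] at h2
  have e : D.mZ (ξ (Cfsg.indFun D.KT (conjIrr c : D.KT → ℂ))) (D.dd (conjIrr θ) (conjIrr c)) =
      D.mZ (ξ (Cfsg.indFun D.KT (c : D.KT → ℂ))) (D.dd θ c) := by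
    rw [← D.conjFun_indT, hξ.conj hm, mZ, mZ]
    refine congrArg round ?_
    rw [mult, mult]
    have hd : D.dd (conjIrr θ) (conjIrr c) = Cfsg.conjFun (D.dd θ c) := by
      funext k
      simp [dd, D.dZ_conj, Cfsg.conjFun]
    rw [hd, show D.res (Cfsg.conjFun (ξ (Cfsg.indFun D.KT (c : D.KT → ℂ)))) =
      Cfsg.conjFun (D.res (ξ (Cfsg.indFun D.KT (c : D.KT → ℂ)))) from rfl, classInner_conjFun, Complex.conj_re]
  rw [e, h1] at h2
  linarith

theorem isFam_flip (hR : D.R = 2) (hξ : D.IsFam ξ) : D.IsFam fun φ => -ξ (Cfsg.conjFun φ) := by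
  have hcc : ∀ φ : D.T → ℂ, Cfsg.conjFun (Cfsg.conjFun φ) = φ := Exceptional.sys_conj_conj
  have htwo : ∀ φ ∈ D.Mem, ∀ ψ ∈ D.Mem, φ ≠ ψ → ψ = Cfsg.conjFun φ := by
    intro φ hφ ψ hψ hne
    by_contra hc
    obtain ⟨hφc, hφne⟩ := D.conj_mem_Mem hφ
    have h3 : ({⟨φ, hφ⟩, ⟨ψ, hψ⟩, ⟨_, hφc⟩} : Finset D.Mem).card = 3 := by
      rw [Finset.card_insert_of_notMem (by simp [Ne.symm hφne, hne]), Finset.card_pair (by simp [hc])]
    have := Finset.card_le_univ ({⟨φ, hφ⟩, ⟨ψ, hψ⟩, ⟨_, hφc⟩} : Finset D.Mem)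
    change _ ≤ D.R at this
    omega
  refine ⟨fun φ hφ => ?_, fun φ hφ ψ hψ hne => ?_, fun φ hφ ψ hψ => ?_⟩
  · exact (hξ.signed _ (D.conj_mem_Mem hφ).1).elim (fun h => Or.inr (by simpa using h)) fun h => Or.inl h
  · rw [classInner_neg_left, CfsgLib.CyclicTI.inner_neg_right, neg_neg,
      hξ.orth _ (D.conj_mem_Mem hφ).1 _ (D.conj_mem_Mem hψ).1 fun e => hne (by rw [← hcc φ, e, hcc])]
  · by_cases h : φ = ψ
    · rw [h, sub_self, sub_self, tau, indFun_zero]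
    · obtain rfl := htwo φ hφ ψ hψ h
      rw [hξ.diff φ hφ _ hψ, hcc]
      abel

theorem IsFam.xval_flip (hR : D.R = 2) (hξ : D.IsFam ξ) {θ : D.IK} (hθ : D.NotLin θ) :
    D.xval (fun φ => -ξ (Cfsg.conjFun φ)) θ = D.dZ (θ : D.KT → ℂ) - D.xval ξ θ := by
  have hm := D.mem_of_lin D.exists_lin.choose_spec
  have h := hξ.mult_dd hθ D.exists_lin.choose_spec (D.conj_mem_Mem hm).1
  rw [if_neg fun e => (D.conj_mem_Mem hm).2 e.symm, mul_zero, sub_zero] at h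
  have e : ∀ a, D.mZ (-ξ (Cfsg.conjFun (Cfsg.indFun D.KT (D.exists_lin.choose : D.KT → ℂ)))) a =
      round (-(D.mult (ξ (Cfsg.conjFun (Cfsg.indFun D.KT (D.exists_lin.choose : D.KT → ℂ)))) a)).re := fun a => by
    rw [mZ, mult, mult, show D.res (-ξ (Cfsg.conjFun (Cfsg.indFun D.KT (D.exists_lin.choose : D.KT → ℂ)))) =
      -D.res (ξ (Cfsg.conjFun (Cfsg.indFun D.KT (D.exists_lin.choose : D.KT → ℂ)))) from rfl,
      CfsgLib.CyclicTI.inner_neg_right]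
  conv_lhs => rw [xval]
  rw [e, ← D.coe_mZ (hξ.gen (D.conj_mem_Mem hm).1) (D.dd_gen θ _), h, ← Int.cast_neg, Complex.intCast_re,
    round_intCast]
  ring

/-- Bessel's inequality against the family `η`, the images `ξ` and a further orthonormal family. -/
theorem IsFam.bessel (hξ : D.IsFam ξ) {θ c : D.IK} (hθ : D.NotLin θ) (hc : D.IsLin c) {ι : Type*} [Fintype ι]
    (u : ι → G → ℂ) (b : ι → ℤ) (hu : ∀ i j, Cfsg.classInner (u i) (u j) = if i = j then 1 else 0)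
    (hue : ∀ i l k, Cfsg.classInner (u i) (D.eta l k) = 0)
    (hux : ∀ i, ∀ φ ∈ D.Mem, Cfsg.classInner (u i) (ξ φ) = 0)
    (hb : ∀ i, Cfsg.classInner (D.ind (D.dd θ c)) (u i) = b i) {N : ℤ}
    (hN : Cfsg.classInner (Cfsg.indFun D.KT (θ : D.KT → ℂ)) (Cfsg.indFun D.KT (θ : D.KT → ℂ)) = N) :
    ∑ l, ∑ k, D.coef (D.dd θ c) l k ^ 2 +
        ((D.R : ℤ) * D.xval ξ θ ^ 2 - 2 * D.dZ (θ : D.KT → ℂ) * D.xval ξ θ) + ∑ i, b i ^ 2 ≤ N ∧
      (∑ l, ∑ k, D.coef (D.dd θ c) l k ^ 2 +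
        ((D.R : ℤ) * D.xval ξ θ ^ 2 - 2 * D.dZ (θ : D.KT → ℂ) * D.xval ξ θ) + ∑ i, b i ^ 2 = N →
        D.ind (D.dd θ c) = ∑ x : D.L₁ × D.L₂, (D.coef (D.dd θ c) x.1 x.2 : ℂ) • D.eta x.1 x.2 +
          ∑ φ : D.Mem, (D.mZ (ξ φ) (D.dd θ c) : ℂ) • ξ φ + ∑ i, (b i : ℂ) • u i) := by
  set d := D.dZ (θ : D.KT → ℂ)
  set x := D.xval ξ θ
  set U : (D.L₁ × D.L₂) ⊕ D.Mem ⊕ ι → G → ℂ :=
    Sum.elim (fun y => D.eta y.1 y.2) (Sum.elim (fun φ => ξ φ) u)
  set A : (D.L₁ × D.L₂) ⊕ D.Mem ⊕ ι → ℤ :=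
    Sum.elim (fun y => D.coef (D.dd θ c) y.1 y.2) (Sum.elim (fun φ => D.mZ (ξ φ) (D.dd θ c)) b)
  have hsum : ∑ φ : D.Mem, D.mZ (ξ φ) (D.dd θ c) ^ 2 = (D.R : ℤ) * x ^ 2 - 2 * d * x + d ^ 2 := by
    rw [← Finset.add_sum_erase _ _ (Finset.mem_univ (⟨_, D.mem_of_lin hc⟩ : D.Mem)),
      hξ.mult_dd hθ hc (D.mem_of_lin hc), if_pos rfl,
      Finset.sum_congr rfl fun (φ : D.Mem) hφ => show D.mZ (ξ (φ : D.T → ℂ)) (D.dd θ c) ^ 2 = x ^ 2 by
        rw [hξ.mult_dd hθ hc φ.2, if_neg fun e => (Finset.mem_erase.mp hφ).1 (Subtype.ext e.symm), mul_zero,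
          sub_zero],
      Finset.sum_const, Finset.card_erase_of_mem (Finset.mem_univ _), Finset.card_univ, nsmul_eq_mul,
      Nat.cast_sub (le_trans one_le_two D.two_le_R)]
    push_cast
    ring
  have hN' : Cfsg.classInner (D.ind (D.dd θ c)) (D.ind (D.dd θ c)) = ((N + d ^ 2 : ℤ) : ℂ) := by
    rw [D.norm_dd hθ hc, hN, Int.cast_add, Int.cast_pow]
  have hself : ∀ i, Cfsg.classInner (U i) (U i) = 1 := by
    rintro (y | φ | i)
    · exact (D.eta_inner y y).trans (if_pos rfl)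
    · exact (hξ.inner φ.2 φ.2).trans (if_pos rfl)
    · exact (hu i i).trans (if_pos rfl)
  have hsymm : ∀ f g : G → ℂ, Cfsg.classInner f g = 0 → Cfsg.classInner g f = 0 := fun f g h => by
    rw [← classInner_conj_symm, h, map_zero]
  have horth : ∀ i j, i ≠ j → Cfsg.classInner (U i) (U j) = 0 := by
    rintro (y | φ | i) (z | ψ | j) hne
    · exact (D.eta_inner y z).trans (if_neg fun e => hne (by rw [e]))
    · exact hsymm _ _ (hξ.eta ψ.2 _ _)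
    · exact hsymm _ _ (hue j _ _)
    · exact hξ.eta φ.2 _ _
    · exact hξ.orth _ φ.2 _ ψ.2 fun e => hne (by rw [Subtype.ext e])
    · exact hsymm _ _ (hux j _ φ.2)
    · exact hue i _ _
    · exact hux i _ ψ.2
    · exact (hu i j).trans (if_neg fun e => hne (by rw [e]))
  have hcoef : ∀ i, Cfsg.classInner (D.ind (D.dd θ c)) (U i) = A i := by
    rintro (y | φ | i)
    · exact D.inner_eta (D.dd_gen θ c) y.1 y.2
    · exact D.inner_ind_eq (hξ.gen φ.2) (D.dd_gen θ c)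
    · exact hb i
  obtain ⟨h1, h2⟩ := bessel_int Finset.univ U (D.ind (D.dd θ c)) A (fun i _ => hself i)
    (fun i _ j _ h => horth i j h) (fun i _ => hcoef i) hN'
  simp only [Fintype.sum_sum_type, A, U, Sum.elim_inl, Sum.elim_inr, hsum] at h1 h2
  rw [Fintype.sum_prod_type (f := fun y : D.L₁ × D.L₂ => D.coef (D.dd θ c) y.1 y.2 ^ 2)] at h1 h2
  refine ⟨by linarith, fun e => ?_⟩
  rw [h2 (by linarith), add_assoc]

/-- Bessel's inequality against `η` and `ξ` alone. -/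
theorem IsFam.bessel' (hξ : D.IsFam ξ) {θ c : D.IK} (hθ : D.NotLin θ) (hc : D.IsLin c) {N : ℤ}
    (hN : Cfsg.classInner (Cfsg.indFun D.KT (θ : D.KT → ℂ)) (Cfsg.indFun D.KT (θ : D.KT → ℂ)) = N) :
    ∑ l, ∑ k, D.coef (D.dd θ c) l k ^ 2 +
        ((D.R : ℤ) * D.xval ξ θ ^ 2 - 2 * D.dZ (θ : D.KT → ℂ) * D.xval ξ θ) ≤ N ∧
      (∑ l, ∑ k, D.coef (D.dd θ c) l k ^ 2 +
        ((D.R : ℤ) * D.xval ξ θ ^ 2 - 2 * D.dZ (θ : D.KT → ℂ) * D.xval ξ θ) = N →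
        D.ind (D.dd θ c) = ∑ x : D.L₁ × D.L₂, (D.coef (D.dd θ c) x.1 x.2 : ℂ) • D.eta x.1 x.2 +
          ∑ φ : D.Mem, (D.mZ (ξ φ) (D.dd θ c) : ℂ) • ξ φ) := by
  obtain ⟨h1, h2⟩ := hξ.bessel hθ hc (ι := Empty) (fun e => e.elim) (fun e => e.elim) (fun e => e.elim)
    (fun e => e.elim) (fun e => e.elim) (fun e => e.elim) hN
  simp only [Finset.univ_eq_empty, Finset.sum_empty, add_zero] at h1 h2
  exact ⟨h1, h2⟩

/-- For a fixed character the coefficient is small. -/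
theorem IsFam.fixed_bound (hξ : D.IsFam ξ) {θ c : D.IK} (hc : D.IsLin c) (hf : D.IsFixed (θ : D.KT → ℂ))
    (hne : θ ≠ D.triv) :
    (D.R : ℤ) * D.xval ξ θ ^ 2 - 2 * D.dZ (θ : D.KT → ℂ) * D.xval ξ θ ≤ 0 ∧
      ((∀ l, l ≠ 1 → D.coef (D.diff1 c) l 1 = 1) →
        (D.R : ℤ) * D.xval ξ θ ^ 2 - 2 * D.dZ (θ : D.KT → ℂ) * D.xval ξ θ ≤ -1) := by
  have h := (hξ.bessel' (D.notLin_of_fixed hf) hc (N := (D.p : ℤ))
    (by rw [D.norm_indT_fixed hf, Int.cast_natCast])).1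
  have h2 := D.fixed_part hc hf hne
  simp only [dd] at h
  exact ⟨by linarith [h2.1], fun hA => by linarith [h2.2 hA]⟩

theorem dZ_pos (θ : D.IK) : 1 ≤ D.dZ (θ : D.KT → ℂ) := by
  obtain ⟨n, hn, e⟩ := IsIrr.exists_degree θ.2
  rw [dZ, e, Complex.natCast_re, round_natCast]
  exact_mod_cast hn

/-- For a free nonlinear character the coefficient is small. -/
theorem IsFam.free_bound (hξ : D.IsFam ξ) {θ : D.IK} (hf : ¬ D.IsFixed (θ : D.KT → ℂ)) (hθ : D.NotLin θ) :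
    (D.R : ℤ) * D.xval ξ θ ^ 2 - 2 * D.dZ (θ : D.KT → ℂ) * D.xval ξ θ ≤ 0 := by
  obtain ⟨c, hc⟩ := D.exists_lin
  have hne : θ ≠ D.triv := fun e => hf (e ▸ D.isFixed_triv)
  obtain ⟨h1, h2⟩ := hξ.bessel' hθ hc (N := 1) (by rw [D.norm_indT_free hf, Int.cast_one])
  have hη : (0 : ℤ) ≤ ∑ l, ∑ k, D.coef (D.dd θ c) l k ^ 2 :=
    Finset.sum_nonneg fun _ _ => Finset.sum_nonneg fun _ _ => sq_nonneg _
  by_contra hcon
  have hx : ∀ φ ∈ D.Mem, Cfsg.classInner (ξ φ) (D.ind ((θ : D.KT → ℂ) - (conjIrr θ : D.KT → ℂ))) = 0 := by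
    intro φ hφ
    have hθ' : D.NotLin (conjIrr θ) := fun h => hθ ⟨by
      have h1 := h.1; rw [conjIrr_apply] at h1; simpa using congrArg (starRingEnd ℂ) h1, hne⟩
    have a1 := hξ.mult_dd hθ hc hφ
    have a2 := hξ.mult_dd hθ' hc hφ
    rw [D.mZ_dd (hξ.gen hφ)] at a1 a2
    rw [hξ.xval_conj hθ, D.dZ_conj] at a2
    rw [← classInner_conj_symm, D.inner_ind_eq (hξ.gen hφ) (D.pair_gen θ), map_intCast,
      D.mZ_sub (hξ.gen hφ) (D.isGen_irr _) (D.isGen_irr _)]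
    exact_mod_cast (show D.mZ (ξ φ) (θ : D.KT → ℂ) - D.mZ (ξ φ) (conjIrr θ : D.KT → ℂ) = 0 by linarith)
  have hz : Cfsg.classInner (D.ind (D.dd θ c)) (D.ind ((θ : D.KT → ℂ) - (conjIrr θ : D.KT → ℂ))) = 0 := by
    rw [h2 (by omega), classInner_add_left, classInner_sum_left, classInner_sum_left,
      Finset.sum_eq_zero fun y _ => ?_, Finset.sum_eq_zero fun φ _ => ?_, add_zero]
    · rw [classInner_smul_left, hx φ φ.2, mul_zero]
    · rw [classInner_smul_left, ← classInner_conj_symm, D.inner_eta (D.pair_gen θ), D.free_pair_coef hf,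
        Int.cast_zero, map_zero, mul_zero]
  have hθ' : D.NotLin (conjIrr θ) := fun h => hθ ⟨by
    have h1 := h.1; rw [conjIrr_apply] at h1; simpa using congrArg (starRingEnd ℂ) h1, hne⟩
  have e1 : Cfsg.classInner (Cfsg.indFun D.KT (θ : D.KT → ℂ)) (Cfsg.indFun D.KT (conjIrr θ : D.KT → ℂ)) = 0 := by
    rw [← classInner_conj_symm, D.inner_indT_conj hne, map_zero]
  have e2 : Cfsg.classInner (Cfsg.indFun D.KT (c : D.KT → ℂ)) (Cfsg.indFun D.KT (θ : D.KT → ℂ)) = 0 := by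
    rw [← classInner_conj_symm, D.inner_indT_lin hθ hc, map_zero]
  have e3 : Cfsg.classInner (Cfsg.indFun D.KT (c : D.KT → ℂ)) (Cfsg.indFun D.KT (conjIrr θ : D.KT → ℂ)) = 0 := by
    rw [← classInner_conj_symm, D.inner_indT_lin hθ' hc, map_zero]
  rw [D.inner_ind_ind (D.dd_zero θ hc) (D.pair_zero θ), D.indT_dd, indFun_sub, classInner_sub_left,
    classInner_sub_right, classInner_sub_right, classInner_smul_left, classInner_smul_left,
    D.norm_indT_free hf, e1, e2, e3] at hz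
  norm_num at hz

end TV

end CfsgLib.OddLocal.TypeFive
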