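import Cfsg.Agent.Lib.OddLocal.Final.TypeV.Data
import Cfsg.Agent.Lib.Char.Exceptional.DegreeLtPrime
import Cfsg.Agent.Lib.Char.Complete

/-!
Owner: helper1. The characters of the kernel fixed by the complement: each is labelled by a linear
character of `W₁` modulo `p`, and the multiplicities of the restriction of a generalized character of `G`
are determined by the labels up to one additive constant modulo a prime divisor of `p`.
-/

set_option autoImplicit false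
set_option linter.unusedSectionVars false

open scoped Classical

namespace CfsgLib.OddLocal.TypeFive

open CfsgLib.Char CfsgLib.CyclicTI Subgroup
open scoped ComplexConjugate

section Generic

variable {G : Type*} [Group G] [Fintype G] {W₁ W₂ : Subgroup G} (hW : Cfsg.IsSelfNormalizingCyclic W₁ W₂)

theorem inl_inclusion (l : W₁ →* ℂˣ) (a : W₁) :
    inl hW l (inclusion (le_sup_left : W₁ ≤ W₁ ⊔ W₂) a) = l a := by
  have e : prodEquiv hW (a, 1) = inclusion le_sup_left a := Subtype.ext (by simp [coe_prodEquiv])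
  rw [inl, MonoidHom.comp_apply, ← e, (proj_prodEquiv hW (a, 1)).1]

include hW in
theorem card_sup : Nat.card ↥(W₁ ⊔ W₂) = Nat.card W₁ * Nat.card W₂ := by
  rw [← Nat.card_congr (prodEquiv hW).toEquiv, Nat.card_prod]

/-- A function on `W` supported on `W₁`, against a character of `W₁`. -/
theorem inner_restrict_W₁ {h : ↥(W₁ ⊔ W₂) → ℂ} (hh : ∀ w : ↥(W₁ ⊔ W₂), (w : G) ∉ W₁ → h w = 0)
    (l : W₁ →* ℂˣ) :
    Cfsg.classInner (fun a : W₁ => h (inclusion le_sup_left a)) (fun a => (l a : ℂ)) =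
      (Nat.card W₂ : ℂ) * Cfsg.classInner h (fun w => (inl hW l w : ℂ)) := by
  have hs : ∑ w : ↥(W₁ ⊔ W₂), h w * conj (inl hW l w : ℂ) =
      ∑ a : W₁, h (inclusion le_sup_left a) * conj (l a : ℂ) := by
    refine (Fintype.sum_of_injective (inclusion (le_sup_left : W₁ ≤ W₁ ⊔ W₂)) (inclusion_injective _) _ _
      (fun w hw => ?_) fun a => by rw [inl_inclusion]).symm
    rw [hh w fun h1 => hw ⟨⟨w, h1⟩, rfl⟩, zero_mul]
  simp only [Cfsg.classInner]
  rw [hs, card_sup hW, Nat.cast_mul, mul_inv, ← mul_assoc]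
  congr 1
  have := Nat.cast_ne_zero (R := ℂ).mpr (Nat.card_pos (α := W₂)).ne'
  field_simp

/-- A function on `W` vanishing on the regular elements, against two characters of `W₁`. -/
theorem inner_restrict_sub {h : ↥(W₁ ⊔ W₂) → ℂ}
    (hh : ∀ w : ↥(W₁ ⊔ W₂), (w : G) ∉ W₁ → (w : G) ∉ W₂ → h w = 0) (l l' : W₁ →* ℂˣ) :
    Cfsg.classInner (fun a : W₁ => h (inclusion le_sup_left a)) (fun a => (l a : ℂ)) -
        Cfsg.classInner (fun a : W₁ => h (inclusion le_sup_left a)) (fun a => (l' a : ℂ)) =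
      (Nat.card W₂ : ℂ) * (Cfsg.classInner h (fun w => (inl hW l w : ℂ)) -
        Cfsg.classInner h (fun w => (inl hW l' w : ℂ))) := by
  set h' : ↥(W₁ ⊔ W₂) → ℂ := fun w => if (w : G) ∈ W₁ then h w else 0
  have he : (fun a : W₁ => h (inclusion le_sup_left a)) = fun a => h' (inclusion le_sup_left a) :=
    funext fun a => (if_pos a.2).symm
  rw [he, inner_restrict_W₁ hW (h := h') (fun w hw => if_neg hw),
    inner_restrict_W₁ hW (h := h') (fun w hw => if_neg hw), ← mul_sub]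
  congr 1
  rw [← sub_eq_zero]
  simp only [Cfsg.classInner, ← mul_sub, ← Finset.sum_sub_distrib]
  refine mul_eq_zero_of_right _ (Finset.sum_eq_zero fun w _ => ?_)
  by_cases h1 : (w : G) ∈ W₁
  · simp [h', h1]
  by_cases h2 : (w : G) ∈ W₂
  · simp [inl_apply_W₂ hW _ w h2]
  · simp [h', h1, hh w h1 h2]

end Generic

namespace TV

variable {G : Type*} [Group G] [Fintype G] (D : TV G)

theorem sup_le_T : D.W₁ ⊔ D.W₂ ≤ D.T := sup_le D.W₁_le_T D.W₂_le

theorem mem_supT (w : ↥(D.W₁ ⊔ D.W₂)) : (⟨w, D.sup_le_T w.2⟩ : D.T) ∈ D.P ⊔ D.Q₁ := by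
  rw [← subgroupOf_sup D.W₂_le D.W₁_le_T, mem_subgroupOf, sup_comm]
  exact w.2

/-- `W` inside `T`. -/
noncomputable def toT : ↥(D.W₁ ⊔ D.W₂) →* ↥(D.P ⊔ D.Q₁) :=
  (inclusion D.sup_le_T).codRestrict _ D.mem_supT

/-- `W₁` inside the kernel. -/
noncomputable def homK : D.W₁ →* D.KT :=
  (inclusion D.W₁_le_T).codRestrict _ fun a => D.W₁_le_K a.2

/-- Restriction from the kernel to `W₁`. -/
noncomputable def resW (a : D.KT → ℂ) : D.W₁ → ℂ := fun w => a (D.homK w)

/-- The multiplicity of a linear character of `W₁` in the restriction. -/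
noncomputable def nW (a : D.KT → ℂ) (l : D.W₁ →* ℂˣ) : ℤ :=
  round (Cfsg.classInner (D.resW a) fun w => (l w : ℂ)).re

theorem coe_nW {a : D.KT → ℂ} (ha : Cfsg.IsGeneralizedCharacter D.KT a) (l : D.W₁ →* ℂˣ) :
    (D.nW a l : ℂ) = Cfsg.classInner (D.resW a) fun w => (l w : ℂ) := by
  obtain ⟨n, hn⟩ := Exceptional.IsGen.classInner_eq_int (IsGen.comp D.homK ha)
    (IsGen.of_irr (isIrrCharacter_linear l))
  have hn' : Cfsg.classInner (D.resW a) (fun w => (l w : ℂ)) = n := hn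
  rw [nW, hn', Complex.intCast_re, round_intCast]

/-- The degree as an integer. -/
noncomputable def dZ (a : D.KT → ℂ) : ℤ := round (a 1).re

theorem coe_dZ {a : D.KT → ℂ} (ha : Cfsg.IsGeneralizedCharacter D.KT a) : (D.dZ a : ℂ) = a 1 := by
  obtain ⟨n, hn⟩ := Exceptional.IsGen.exists_apply_one ha
  rw [dZ, hn, Complex.intCast_re, round_intCast]

theorem dvd_of_vanish_P {μ : D.T → ℂ} (hμ : Cfsg.IsCharacter D.T μ) {d : ℕ} (hd : μ 1 = d)
    (h0 : ∀ x ∈ D.P, x ≠ 1 → μ x = 0) : D.p ∣ d := by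
  obtain ⟨k, hk⟩ := IsChar.classInner_eq_natCast (IsChar.restrict D.P hμ) (isCharacter_one (G := D.P))
  refine ⟨k, ?_⟩
  simp only [Cfsg.classInner, map_one, mul_one] at hk
  rw [Finset.sum_eq_single (1 : D.P) (fun x _ hx => h0 x x.2 fun e => hx (Subtype.ext e))
    (fun h => absurd (Finset.mem_univ _) h), D.card_P] at hk
  have hd' : (μ ((1 : D.P) : D.T)) = d := by rw [OneMemClass.coe_one, hd]
  rw [hd'] at hk
  have := Nat.cast_ne_zero (R := ℂ).mpr (Nat.card_pos (α := D.W₂)).ne'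
  field_simp at hk
  exact_mod_cast hk

/-- Every fixed character is the restriction of an exceptional character of `T`. -/
theorem exists_ext (θ : D.IK) (hf : D.IsFixed (θ : D.KT → ℂ))
    {μ : (↥(D.P ⊔ D.Q₁) →* ℂˣ) → (D.T → ℂ)}
    (hvan : ∀ η : D.T → ℂ, Cfsg.IsIrrCharacter D.T η → (∀ ω, η ≠ μ ω) →
      ∀ w : ↥(D.P ⊔ D.Q₁), (w : D.T) ∉ D.Q₁ → η w = 0) :
    ∃ ω, ∀ k : D.KT, μ ω k = (θ : D.KT → ℂ) k := by
  obtain ⟨C, hC, hCirr, hCsum⟩ := exists_decomp_of_fixed D.inf_bot D.sup_top D.cyclic_P D.hallP θ.2 hf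
  have hfix : ∀ t : D.T, Clifford.conjFn inferInstance (θ : D.KT → ℂ) t = θ := fun t => by
    have ht : t ∈ ((D.KT ⊔ D.P : Subgroup D.T) : Set D.T) := by rw [D.sup_top]; trivial
    rw [normal_mul] at ht
    obtain ⟨a, ha, b, hb, rfl⟩ := ht
    rw [Clifford.conjFn_mul, Clifford.mem_inertia.mp
      (Clifford.le_inertia inferInstance (IsIrr.isClassFunction θ.2) ha), hf b hb]
  have hres : (fun k : D.KT => Cfsg.indFun D.KT (θ : D.KT → ℂ) k) = (D.p : ℂ) • (θ : D.KT → ℂ) := by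
    funext k
    rw [Clifford.indFun_coe_normal inferInstance, Finset.sum_congr rfl fun t _ => congrFun (hfix t) k, Finset.sum_const,
      Finset.card_univ, ← Nat.card_eq_fintype_card, D.card_T, D.card_KT, nsmul_eq_mul, Pi.smul_apply,
      smul_eq_mul, Nat.cast_mul]
    have := Nat.cast_ne_zero (R := ℂ).mpr (Nat.card_pos (α := D.K)).ne'
    field_simp
  obtain ⟨η, hη⟩ := Finset.card_pos.mp (hC.symm ▸ Nat.card_pos : 0 < C.card)
  have hηirr := hCirr η hη
  have h1 : ∀ ν ∈ C, Cfsg.classInner (θ : D.KT → ℂ) (fun k : D.KT => ν k) = 1 := fun ν hν => by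
    rw [← frobenius_reciprocity D.KT _ (IsIrr.isClassFunction (hCirr ν hν)), hCsum, classInner_sum_left,
      Finset.sum_eq_single ν (fun b hb hne => Exceptional.classInner_eq_zero_of_irr (hCirr b hb)
        (hCirr ν hν) hne) (fun h => absurd hν h)]
    exact Exceptional.classInner_self_of_irr (hCirr ν hν)
  have hη1 : Cfsg.classInner (fun k : D.KT => η k) (θ : D.KT → ℂ) = 1 := by
    rw [← classInner_conj_symm, h1 η hη, map_one]
  have hηres : (fun k : D.KT => η k) = (θ : D.KT → ℂ) := by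
    refine eq_of_classInner_eq (IsChar.isClassFunction (IsChar.restrict D.KT (IsIrr.isCharacter hηirr)))
      (IsIrr.isClassFunction θ.2) fun ψ => ?_
    by_cases e : ψ = θ
    · subst e; rw [hη1, classInner_irr_self]
    rw [classInner_irr_of_ne (Ne.symm e)]
    choose n hn using fun ν (hν : ν ∈ C) =>
      IsChar.classInner_eq_natCast (IsChar.restrict D.KT (IsIrr.isCharacter (hCirr ν hν))) (IsIrr.isCharacter ψ.2)
    have hs : (fun k : D.KT => Cfsg.indFun D.KT (θ : D.KT → ℂ) k) = ∑ ν ∈ C, fun k : D.KT => ν k := by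
      funext k; rw [hCsum]; simp
    have h := congrArg (fun f => Cfsg.classInner f (ψ : D.KT → ℂ)) (hs.symm.trans hres)
    simp only [classInner_sum_left, classInner_smul_left, classInner_irr_of_ne (Ne.symm e), mul_zero] at h
    rw [← Finset.sum_attach, Finset.sum_congr rfl fun ν _ => hn ν.1 ν.2] at h
    rw [hn η hη, Nat.cast_eq_zero]
    have h' : ∑ ν ∈ C.attach, n ν.1 ν.2 = 0 := by exact_mod_cast h
    exact Finset.sum_eq_zero_iff.mp h' ⟨η, hη⟩ (Finset.mem_attach _ _)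
  by_contra hcon
  have hne : ∀ ω, η ≠ μ ω := fun ω e => hcon ⟨ω, fun k => by rw [← e]; exact congrFun hηres k⟩
  obtain ⟨d, -, hd⟩ := IsIrr.exists_degree θ.2
  have hd1 : η 1 = d := (congrFun hηres 1).trans hd
  have hp := D.dvd_of_vanish_P (IsIrr.isCharacter hηirr) hd1 fun x hx hx1 =>
    hvan η hηirr hne ⟨x, mem_sup_left hx⟩ fun h => hx1 (mem_bot.mp (D.inf_bot ▸ ⟨D.Q₁_le h, hx⟩))
  have hdd : d ∣ Nat.card D.K := D.card_KT ▸ Exceptional.DegreeLtPrime.degree_dvd_card θ hd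
  have := Nat.eq_one_of_dvd_coprimes D.cop dvd_rfl (hp.trans hdd)
  have := D.three_le_p
  have h3 : 3 ≤ Nat.card D.W₂ := D.three_le_p
  omega

/-- The labels of the fixed characters. -/
theorem exists_labels : ∃ (s : D.IK → ℤ) (lab : D.IK → (D.W₁ →* ℂˣ)),
    (∀ θ : D.IK, D.IsFixed (θ : D.KT → ℂ) → (s θ = 1 ∨ s θ = -1) ∧
      (D.p : ℤ) ∣ D.dZ (θ : D.KT → ℂ) - s θ ∧
      ∀ l, (D.p : ℤ) ∣ D.nW (θ : D.KT → ℂ) l - if l = lab θ then s θ else 0) ∧
    ∀ θ θ' : D.IK, D.IsFixed (θ : D.KT → ℂ) → D.IsFixed (θ' : D.KT → ℂ) → lab θ = lab θ' → θ = θ' := by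
  obtain ⟨μ, δ, -, hμirr, hδ, hdiff, hval, hvan, hdeg⟩ := exists_mu D.selfNormT
    fun g w => mem_of_conj_mem D.inf_bot D.sup_top D.cyclic_P D.hallP D.Q₁_le D.centP
  choose! om hom using fun (θ : D.IK) (hf : D.IsFixed (θ : D.KT → ℂ)) => D.exists_ext θ hf hvan
  refine ⟨fun θ => if δ (om θ) = 1 then 1 else -1,
    fun θ => (om θ).comp (D.toT.comp (inclusion le_sup_left)), fun θ hf => ?_, fun θ θ' hf hf' e => ?_⟩
  · set ω := om θ
    set s : ℤ := if δ ω = 1 then 1 else -1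
    have hs : (s : ℂ) = δ ω := by
      simp only [s]
      rcases hδ ω with h | h
      · rw [if_pos h, h, Int.cast_one]
      · rw [if_neg (by rw [h]; norm_num), h, Int.cast_neg, Int.cast_one]
    refine ⟨show (if δ ω = 1 then (1 : ℤ) else -1) = 1 ∨ (if δ ω = 1 then (1 : ℤ) else -1) = -1 by
      split_ifs <;> simp, ?_, fun l => ?_⟩
    · obtain ⟨n, hn⟩ := hdeg ω
      refine ⟨n, ?_⟩
      apply Int.cast_injective (α := ℂ)
      have h1 := hom θ hf 1
      rw [OneMemClass.coe_one] at h1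
      rw [Int.cast_sub, Int.cast_mul, D.coe_dZ (IsGen.of_irr θ.2), ← h1, hs, hn, D.card_P,
        Int.cast_natCast, mul_comm]
    · set lab : D.W₁ →* ℂˣ := ω.comp (D.toT.comp (inclusion le_sup_left))
      set g : ↥(D.W₁ ⊔ D.W₂) → ℂ := fun w => μ ω (D.toT w : D.T) - δ ω * (ω (D.toT w) : ℂ) with hg
      have hg0 : ∀ w : ↥(D.W₁ ⊔ D.W₂), (w : G) ∉ D.W₁ → g w = 0 := fun w hw =>
        sub_eq_zero.mpr (hval ω (D.toT w) hw)
      have e1 : (fun a : D.W₁ => g (inclusion le_sup_left a)) =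
          D.resW (θ : D.KT → ℂ) - δ ω • fun a => (lab a : ℂ) := by
        funext a
        simp only [hg, Pi.sub_apply, Pi.smul_apply, smul_eq_mul, resW, ← hom θ hf]
        rfl
      obtain ⟨m, hm⟩ := Exceptional.IsGen.classInner_eq_int
        (IsGen.comp ((D.P ⊔ D.Q₁).subtype.comp D.toT) (IsGen.of_irr (hμirr ω)))
        (IsGen.of_irr (isIrrCharacter_linear (inl D.selfNorm l)))
      refine ⟨m - s * (if ω.comp D.toT = inl D.selfNorm l then 1 else 0), ?_⟩
      show D.nW (θ : D.KT → ℂ) l - (if l = lab then s else 0) = _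
      apply Int.cast_injective (α := ℂ)
      have hk := inner_restrict_W₁ D.selfNorm hg0 l
      rw [e1, classInner_sub_left, classInner_smul_left, inner_linear, ← D.coe_nW (IsGen.of_irr θ.2)] at hk
      have hg2 : g = (fun w => μ ω (((D.P ⊔ D.Q₁).subtype.comp D.toT) w)) -
          δ ω • fun w => ((ω.comp D.toT) w : ℂ) := rfl
      rw [hg2, classInner_sub_left, classInner_smul_left, inner_linear, hm, ← hs] at hk
      simp only [eq_comm (a := l)] at hk ⊢
      push_cast [apply_ite (Int.cast (R := ℂ))]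
      by_cases c : lab = l
      · simp only [c, if_true] at hk ⊢
        linear_combination hk
      · simp only [c, if_false] at hk ⊢
        linear_combination hk
  · have hQ : ∀ w : ↥(D.P ⊔ D.Q₁), (w : D.T) ∈ D.Q₁ → om θ w = om θ' w := fun w hw => by
      have h := DFunLike.congr_fun e ⟨((w : D.T) : G), hw⟩
      have ew : D.toT (inclusion le_sup_left ⟨((w : D.T) : G), hw⟩) = w := Subtype.ext (Subtype.ext rfl)
      simpa only [MonoidHom.comp_apply, ew] using h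
    obtain ⟨-, hd⟩ := hdiff (om θ) (om θ') hQ
    refine Subtype.ext (funext fun k => ?_)
    have h := congrFun hd (k : D.T)
    rw [Pi.smul_apply, Pi.sub_apply, smul_eq_mul, hom θ hf k, hom θ' hf' k] at h
    rw [Exceptional.indFun_eq_zero_of_support (S := ((D.P ⊔ D.Q₁ : Subgroup D.T) : Set D.T) \ ↑D.Q₁)
      (fun w hw => ?_) fun y hy => ?_] at h
    · rcases mul_eq_zero.mp h.symm with h0 | h0
      · rcases hδ (om θ) with h2 | h2 <;> rw [h2] at h0 <;> norm_num at h0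
      · exact sub_eq_zero.mp h0
    · have : (w : D.T) ∈ D.Q₁ := by by_contra hh; exact hw ⟨w.2, hh⟩
      rw [hQ w this, sub_self]
    · obtain ⟨hy1, hy2⟩ := hy
      obtain ⟨a, ha, b, hb, he⟩ := exists_decomp D.centP hy1
      have hk : a * b ∈ D.KT := he ▸ by
        simpa using (inferInstance : D.KT.Normal).conj_mem _ k.2 y⁻¹
      have ha1 : a = 1 := mem_bot.mp (D.inf_bot ▸ ⟨(mul_mem_cancel_right (D.Q₁_le hb)).mp hk, ha⟩)
      exact hy2 (by rw [← he, ha1, one_mul]; exact hb)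

/-- The sign of a fixed character. -/
noncomputable def sgn : D.IK → ℤ := D.exists_labels.choose

/-- The label of a fixed character. -/
noncomputable def lab : D.IK → (D.W₁ →* ℂˣ) := D.exists_labels.choose_spec.choose

theorem sgn_eq {θ : D.IK} (hf : D.IsFixed (θ : D.KT → ℂ)) : D.sgn θ = 1 ∨ D.sgn θ = -1 :=
  (D.exists_labels.choose_spec.choose_spec.1 θ hf).1

theorem nW_mod {θ : D.IK} (hf : D.IsFixed (θ : D.KT → ℂ)) (l : D.W₁ →* ℂˣ) :
    (D.nW (θ : D.KT → ℂ) l : ZMod D.r) = if l = D.lab θ then (D.sgn θ : ZMod D.r) else 0 := by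
  have h := (D.exists_labels.choose_spec.choose_spec.1 θ hf).2.2 l
  have h' := (ZMod.intCast_zmod_eq_zero_iff_dvd _ D.r).mpr ((Int.natCast_dvd_natCast.mpr D.r_dvd).trans h)
  rw [Int.cast_sub, sub_eq_zero] at h'
  rw [h']
  unfold sgn lab
  split_ifs <;> simp

theorem dZ_mod {θ : D.IK} (hf : D.IsFixed (θ : D.KT → ℂ)) :
    (D.dZ (θ : D.KT → ℂ) : ZMod D.r) = D.sgn θ := by
  have h := (D.exists_labels.choose_spec.choose_spec.1 θ hf).2.1
  have h' := (ZMod.intCast_zmod_eq_zero_iff_dvd _ D.r).mpr ((Int.natCast_dvd_natCast.mpr D.r_dvd).trans h)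
  rwa [Int.cast_sub, sub_eq_zero] at h'

theorem lab_inj {θ θ' : D.IK} (hf : D.IsFixed (θ : D.KT → ℂ)) (hf' : D.IsFixed (θ' : D.KT → ℂ))
    (h : D.lab θ = D.lab θ') : θ = θ' :=
  D.exists_labels.choose_spec.choose_spec.2 θ θ' hf hf' h

theorem isGen_irr (θ : D.IK) : Cfsg.IsGeneralizedCharacter D.KT (θ : D.KT → ℂ) := IsGen.of_irr θ.2

theorem cast_sgn_ne {θ : D.IK} (hf : D.IsFixed (θ : D.KT → ℂ)) : (D.sgn θ : ZMod D.r) ≠ 0 := by
  rcases D.sgn_eq hf with h | h <;> rw [h] <;> simp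

theorem sgn_sq {θ : D.IK} (hf : D.IsFixed (θ : D.KT → ℂ)) : (D.sgn θ : ZMod D.r) * D.sgn θ = 1 := by
  rcases D.sgn_eq hf with h | h <;> rw [h] <;> simp

theorem two_ne_zero_r : (2 : ZMod D.r) ≠ 0 := by
  intro h
  have h' := (ZMod.natCast_eq_zero_iff 2 D.r).mp (by simpa using h)
  have := Nat.le_of_dvd two_pos h'
  have := D.three_le_r
  omega

theorem cast_dZ_ne {θ : D.IK} (hf : D.IsFixed (θ : D.KT → ℂ)) : (D.dZ (θ : D.KT → ℂ) : ZMod D.r) ≠ 0 := by
  rw [D.dZ_mod hf]; exact D.cast_sgn_ne hf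

/-- The principal character of the kernel. -/
noncomputable abbrev triv : D.IK := trivChar D.KT

theorem isFixed_triv : D.IsFixed (D.triv : D.KT → ℂ) := fun _ _ => funext fun _ => rfl

theorem dZ_triv : D.dZ (D.triv : D.KT → ℂ) = 1 := by
  apply Int.cast_injective (α := ℂ)
  rw [D.coe_dZ (D.isGen_irr _), trivChar_apply, Int.cast_one]

theorem lab_triv : D.lab D.triv = 1 ∧ (D.sgn D.triv : ZMod D.r) = 1 := by
  have h := D.nW_mod D.isFixed_triv 1
  have h1 : D.nW (D.triv : D.KT → ℂ) 1 = 1 := by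
    apply Int.cast_injective (α := ℂ)
    rw [D.coe_nW (D.isGen_irr _), Int.cast_one]
    have e : D.resW (D.triv : D.KT → ℂ) = fun w => ((1 : D.W₁ →* ℂˣ) w : ℂ) := funext fun w => by
      simp [resW]
    rw [e, inner_linear, if_pos rfl]
  have hs := D.dZ_mod D.isFixed_triv
  rw [D.dZ_triv, Int.cast_one] at hs
  rw [h1, Int.cast_one] at h
  refine ⟨by_contra fun c => one_ne_zero (h.trans (if_neg (Ne.symm c))), hs.symm⟩

/-- Conjugation by the chosen element of order `r`. -/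
noncomputable def sigma : Equiv.Perm D.IK where
  toFun θ := ⟨_, Clifford.isIrrCharacter_conjFn inferInstance θ.2 D.x₀⟩
  invFun θ := ⟨_, Clifford.isIrrCharacter_conjFn inferInstance θ.2 D.x₀⁻¹⟩
  left_inv θ := Subtype.ext (by
    show Clifford.conjFn inferInstance (Clifford.conjFn inferInstance (θ : D.KT → ℂ) D.x₀) D.x₀⁻¹ = _
    rw [← Clifford.conjFn_mul, mul_inv_cancel, Clifford.conjFn_one])
  right_inv θ := Subtype.ext (by
    show Clifford.conjFn inferInstance (Clifford.conjFn inferInstance (θ : D.KT → ℂ) D.x₀⁻¹) D.x₀ = _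
    rw [← Clifford.conjFn_mul, inv_mul_cancel, Clifford.conjFn_one])

theorem sigma_pow_apply (n : ℕ) (θ : D.IK) :
    (((D.sigma ^ n) θ : D.IK) : D.KT → ℂ) = Clifford.conjFn inferInstance (θ : D.KT → ℂ) (D.x₀ ^ n) := by
  induction n with
  | zero => rw [pow_zero, pow_zero, Clifford.conjFn_one]; rfl
  | succ n ih =>
    rw [pow_succ', Equiv.Perm.mul_apply]
    show Clifford.conjFn inferInstance _ D.x₀ = _
    refine Eq.trans (congrArg (fun a => Clifford.conjFn inferInstance a D.x₀) ih) ?_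
    rw [← Clifford.conjFn_mul, ← pow_succ]

theorem sigma_pow : D.sigma ^ D.r = 1 := Equiv.ext fun θ => Subtype.ext (by
  rw [D.sigma_pow_apply, show D.x₀ ^ D.r = 1 from D.orderOf_x₀ ▸ pow_orderOf_eq_one _, Clifford.conjFn_one]
  rfl)

theorem sigma_fixed {θ : D.IK} : D.sigma θ = θ ↔ D.IsFixed (θ : D.KT → ℂ) :=
  ⟨fun h => D.isFixed_of_x₀ θ.2 (congrArg Subtype.val h), fun h => Subtype.ext (h _ D.x₀_mem)⟩

theorem nW_sigma (θ : D.IK) (l : D.W₁ →* ℂˣ) :
    D.nW (D.sigma θ : D.KT → ℂ) l = D.nW (θ : D.KT → ℂ) l := by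
  have e : D.resW (D.sigma θ : D.KT → ℂ) = D.resW (θ : D.KT → ℂ) := by
    funext w
    refine congrArg (θ : D.KT → ℂ) (Subtype.ext (Subtype.ext ?_))
    show (D.x₀ : G) * w * (D.x₀ : G)⁻¹ = w
    rw [← D.selfNorm.2.2.2.1 (w : G) w.2 _ (show (D.x₀ : G) ∈ D.W₂ from D.x₀_mem), mul_inv_cancel_right]
  rw [nW, nW, e]

theorem mult_conjFn {f : G → ℂ} (hf : Cfsg.IsClassFunction G f) (a : D.KT → ℂ) (t : D.T) :
    D.mult f (Clifford.conjFn inferInstance a t) = D.mult f a := by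
  simp only [mult, Cfsg.classInner]
  congr 1
  refine Fintype.sum_equiv (MulAut.conjNormal t).toEquiv _ _ fun k => ?_
  have e : (MulAut.conjNormal t).toEquiv k =
      ⟨t * k * t⁻¹, (inferInstance : D.KT.Normal).conj_mem _ k.2 t⟩ := Subtype.ext (MulAut.conjNormal_apply t k)
  rw [e, Clifford.conjFn_apply]
  congr 2
  exact (hf ((k : D.T) : G) (t : G)).symm

theorem mZ_sigma {f : G → ℂ} (hf : Cfsg.IsGeneralizedCharacter G f) (θ : D.IK) :
    D.mZ f (D.sigma θ : D.KT → ℂ) = D.mZ f (θ : D.KT → ℂ) := by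
  rw [mZ, mZ]
  exact congrArg (fun z : ℂ => round z.re) (D.mult_conjFn (Exceptional.IsGen.isClassFunction hf) _ _)

theorem restrict_W₁_eq {f : G → ℂ} (hf : Cfsg.IsGeneralizedCharacter G f) (l : D.W₁ →* ℂˣ) :
    Cfsg.classInner (fun a : D.W₁ => f a) (fun a => (l a : ℂ)) =
      ((∑ φ : D.IK, D.mZ f (φ : D.KT → ℂ) * D.nW (φ : D.KT → ℂ) l : ℤ) : ℂ) := by
  have e : (fun a : D.W₁ => f a) = ∑ φ : D.IK, (D.mZ f (φ : D.KT → ℂ) : ℂ) • D.resW (φ : D.KT → ℂ) := by
    funext a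
    have h := classFunction_apply_eq_sum (Exceptional.IsGen.isClassFunction (D.res_isGen hf)) (D.homK a)
    have hr : D.res f (D.homK a) = f (a : G) := rfl
    rw [← hr, h, Finset.sum_apply]
    refine Finset.sum_congr rfl fun φ _ => ?_
    rw [Pi.smul_apply, smul_eq_mul, ← classInner_conj_symm,
      show Cfsg.classInner (φ : D.KT → ℂ) (D.res f) = D.mult f (φ : D.KT → ℂ) from rfl,
      ← D.coe_mZ hf (D.isGen_irr φ), map_intCast]
    rfl
  rw [e, classInner_sum_left, Int.cast_sum]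
  exact Finset.sum_congr rfl fun φ _ => by rw [classInner_smul_left, Int.cast_mul, D.coe_nW (D.isGen_irr φ)]

/-- The multiplicities at the fixed characters modulo `r`. -/
theorem mult_mod {f : G → ℂ} (hf : Cfsg.IsGeneralizedCharacter G f) (ω₀ : ↥(D.W₁ ⊔ D.W₂) →* ℂˣ)
    (hag : ∀ w : ↥(D.W₁ ⊔ D.W₂), (w : G) ∉ D.W₁ → (w : G) ∉ D.W₂ → f w = (ω₀ w : ℂ)) :
    ∃ c : ZMod D.r, ∀ θ : D.IK, D.IsFixed (θ : D.KT → ℂ) →
      (D.sgn θ : ZMod D.r) * (D.mZ f (θ : D.KT → ℂ) : ZMod D.r) =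
        (if D.lab θ = ω₀.comp (inclusion le_sup_left) then 1 else 0) + c := by
  set F : (D.W₁ →* ℂˣ) → ℤ := fun l => ∑ φ : D.IK, D.mZ f (φ : D.KT → ℂ) * D.nW (φ : D.KT → ℂ) l with hF
  set l₀ := ω₀.comp (inclusion (le_sup_left : D.W₁ ≤ D.W₁ ⊔ D.W₂)) with hl₀
  set g : ↥(D.W₁ ⊔ D.W₂) → ℂ := fun w => f w - (ω₀ w : ℂ) with hg
  have hF' : ∀ l, Cfsg.classInner (fun a : D.W₁ => g (inclusion le_sup_left a)) (fun a => (l a : ℂ)) =
      ((F l - if l₀ = l then 1 else 0 : ℤ) : ℂ) := fun l => by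
    have e : (fun a : D.W₁ => g (inclusion le_sup_left a)) = (fun a : D.W₁ => f a) - fun a => (l₀ a : ℂ) :=
      funext fun a => rfl
    rw [e, classInner_sub_left, D.restrict_W₁_eq hf, inner_linear]
    push_cast [hF]
    rfl
  have hdvd : ∀ l : D.W₁ →* ℂˣ, (D.p : ℤ) ∣
      (F l - if l₀ = l then 1 else 0) - (F 1 - if l₀ = 1 then 1 else 0) := by
    intro l
    have h := inner_restrict_sub D.selfNorm (h := g) (fun w h1 h2 => sub_eq_zero.mpr (hag w h1 h2)) l 1
    have hgen : Cfsg.IsGeneralizedCharacter _ g :=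
      Exceptional.IsGen.sub (IsGen.comp (Subgroup.subtype _) hf) (IsGen.of_irr (isIrrCharacter_linear ω₀))
    obtain ⟨a, ha⟩ := Exceptional.IsGen.classInner_eq_int hgen
      (IsGen.of_irr (isIrrCharacter_linear (inl D.selfNorm l)))
    obtain ⟨b, hb⟩ := Exceptional.IsGen.classInner_eq_int hgen
      (IsGen.of_irr (isIrrCharacter_linear (inl D.selfNorm (1 : D.W₁ →* ℂˣ))))
    refine ⟨a - b, Int.cast_injective (α := ℂ) ?_⟩
    rw [hF', hF', ha, hb] at h
    push_cast at h ⊢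
    exact h
  refine ⟨(F 1 : ZMod D.r) - (if l₀ = 1 then 1 else 0), fun θ hθ => ?_⟩
  have h := (ZMod.intCast_zmod_eq_zero_iff_dvd _ D.r).mpr
    ((Int.natCast_dvd_natCast.mpr D.r_dvd).trans (hdvd (D.lab θ)))
  push_cast [apply_ite (Int.cast (R := ZMod D.r))] at h
  have hsum : (F (D.lab θ) : ZMod D.r) = (D.mZ f (θ : D.KT → ℂ) : ZMod D.r) * D.sgn θ := by
    simp only [hF, Int.cast_sum, Int.cast_mul]
    rw [perm_sum_eq D.sigma D.sigma_pow _ fun φ => by rw [D.mZ_sigma hf, D.nW_sigma]]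
    rw [Finset.sum_eq_single θ]
    · rw [D.nW_mod hθ, if_pos rfl]
    · intro φ hφ hne
      have hφ' := D.sigma_fixed.mp (Finset.mem_filter.mp hφ).2
      rw [D.nW_mod hφ', if_neg fun e => hne (D.lab_inj hθ hφ' e).symm, mul_zero]
    · refine fun h => absurd ?_ h
      rw [Finset.mem_filter]
      exact ⟨Finset.mem_univ _, D.sigma_fixed.mpr hθ⟩
  rw [hsum] at h
  simp only [eq_comm (a := D.lab θ)]
  linear_combination h

/-- The basic entry: `θ - d·c` against a generalized character agreeing with `ω₀` on the regular elements. -/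
theorem entry_mod {f : G → ℂ} (hf : Cfsg.IsGeneralizedCharacter G f) (ω₀ : ↥(D.W₁ ⊔ D.W₂) →* ℂˣ)
    (hag : ∀ w : ↥(D.W₁ ⊔ D.W₂), (w : G) ∉ D.W₁ → (w : G) ∉ D.W₂ → f w = (ω₀ w : ℂ))
    {θ : D.IK} (hθ : D.IsFixed (θ : D.KT → ℂ)) (m : ℤ) :
    (D.sgn θ : ZMod D.r) * ((D.mZ f (θ : D.KT → ℂ) - D.dZ (θ : D.KT → ℂ) * m : ℤ) : ZMod D.r) =
      (if D.lab θ = ω₀.comp (inclusion le_sup_left) then 1 else 0) -
        (if ω₀.comp (inclusion le_sup_left) = 1 then 1 else 0) +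
        ((D.mZ f (D.triv : D.KT → ℂ) - m : ℤ) : ZMod D.r) := by
  obtain ⟨c, hc⟩ := D.mult_mod hf ω₀ hag
  have h1 := hc θ hθ
  have h2 := hc D.triv D.isFixed_triv
  rw [D.lab_triv.1, D.lab_triv.2, one_mul] at h2
  simp only [eq_comm (a := (1 : D.W₁ →* ℂˣ))] at h2
  have h3 := D.sgn_sq hθ
  push_cast
  rw [D.dZ_mod hθ]
  linear_combination h1 - h2 - (m : ZMod D.r) * h3

end TV

end CfsgLib.OddLocal.TypeFive
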