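import Cfsg.Agent.Lib.OddLocal.Final.TypeV.Split
import Cfsg.Agent.Lib.OddLocal.Frob12.Tools

/-!
Owner: helper1. The exceptional character of a subgroup of Type V: `τ(1 - c) = Σ_k η(1,k) - ξ`, and `ξ` has
mass at least `1 - 1/(2q)` on the nonidentity elements of the kernel.
-/

set_option autoImplicit false
set_option linter.unusedSectionVars false

open scoped Classical

namespace CfsgLib.OddLocal.TypeFive

open CfsgLib.Char CfsgLib.CyclicTI Subgroup
open scoped ComplexConjugate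

namespace TV

variable {G : Type*} [Group G] [Fintype G] (D : TV G)

/-- The linear characters above a member. -/
noncomputable def orbit (φ : D.T → ℂ) : Finset D.IK :=
  Finset.univ.filter fun b => D.IsLin b ∧ Cfsg.indFun D.KT (b : D.KT → ℂ) = φ

theorem mem_orbit {φ : D.T → ℂ} {b : D.IK} :
    b ∈ D.orbit φ ↔ D.IsLin b ∧ Cfsg.indFun D.KT (b : D.KT → ℂ) = φ := by simp [orbit]

theorem card_orbit {φ : D.T → ℂ} (hφ : φ ∈ D.Mem) : (D.orbit φ).card = D.p := by
  obtain ⟨a, ha, rfl⟩ := D.exists_lin_of_mem hφ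
  set φ := Cfsg.indFun D.KT (a : D.KT → ℂ) with hφdef
  have hcl : Cfsg.IsClassFunction D.T φ := isClassFunction_indFun _ _
  have hco : ∀ θ : D.IK, Cfsg.classInner (fun k : D.KT => φ k) (θ : D.KT → ℂ) = if θ ∈ D.orbit φ then 1 else 0 := by
    intro θ
    rw [← classInner_conj_symm, ← frobenius_reciprocity D.KT _ hcl]
    by_cases hθ : D.IsLin θ
    · rw [hφdef, Exceptional.classInner_of_irr (D.irr_of_mem (D.mem_of_lin hθ)) (D.irr_of_mem hφ), ← hφdef]
      by_cases e : Cfsg.indFun D.KT (θ : D.KT → ℂ) = φ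
      · rw [if_pos e, if_pos ((D.mem_orbit).mpr ⟨hθ, e⟩), map_one]
      · rw [if_neg e, if_neg (fun h => e ((D.mem_orbit).mp h).2), map_zero]
    · rw [hφdef, D.inner_indT_lin hθ ha, map_zero, ← hφdef, if_neg fun h => hθ ((D.mem_orbit).mp h).1]
  have h := classFunction_apply_eq_sum
    (show Cfsg.IsClassFunction D.KT (fun k : D.KT => φ k) from fun g k => hcl (g : D.T) (k : D.T)) (1 : D.KT)
  rw [Finset.sum_congr rfl fun (θ : D.IK) _ => show Cfsg.classInner (fun k : D.KT => φ k) (θ : D.KT → ℂ) * (θ : D.KT → ℂ) 1 =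
      if θ ∈ D.orbit φ then 1 else 0 by
    rw [hco θ]
    by_cases e : θ ∈ D.orbit φ
    · rw [if_pos e, ((D.mem_orbit).mp e).1.1, one_mul]
    · rw [if_neg e, zero_mul], Finset.sum_boole, OneMemClass.coe_one, D.mem_one hφ,
    Finset.filter_univ_mem] at h
  exact_mod_cast h.symm

theorem card_lin : (Finset.univ.filter fun b : D.IK => D.IsLin b).card = D.p * D.R := by
  rw [Finset.card_eq_sum_card_fiberwise (f := fun b : D.IK => Cfsg.indFun D.KT (b : D.KT → ℂ))
    (t := (Set.toFinite D.Mem).toFinset) fun b hb => by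
      simpa using D.mem_of_lin (Finset.mem_filter.mp hb).2,
    Finset.sum_congr rfl (g := fun _ => D.p) fun φ hφ => by
      rw [← D.card_orbit ((Set.Finite.mem_toFinset _).mp hφ), orbit, Finset.filter_filter],
    Finset.sum_const, smul_eq_mul, mul_comm]
  congr 1
  rw [R, ← Set.toFinset_card]
  congr 1

variable {D}
variable {ξ : (D.T → ℂ) → G → ℂ} {Z : Subgroup D.T}

/-- Every `τ(1 - c)` has the shape with `η`-part `Σ_k η(1,k)`. -/
theorem coef_diff1_eq (hg : D.Good ξ Z) {c : D.IK} (hc : D.IsLin c) (l : D.L₁) (k : D.L₂) :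
    D.coef (D.diff1 c) l k = if l = 1 then 1 else 0 := by
  obtain ⟨hξ, -, ⟨μ, hμ, hμ1, hx⟩, -, -⟩ := hg
  have hadd : D.coef (D.diff1 c) l k = D.coef (D.diff1 c) l 1 + D.coef (D.diff1 c) 1 k - 1 := by
    rw [D.coef_add (D.diff1_gen c) (D.diff1_zero hc) l k, D.coef_diff1_one hc]
  rcases D.dichotomy hc with ⟨hA, hB⟩ | hA
  · have hB' : D.coef (D.diff1 c) 1 k = 1 := by
      by_cases hk : k = 1
      · rw [hk]; exact D.coef_diff1_one hc
      · exact hB k hk
    split_ifs with hl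
    · rw [hl]; exact hB'
    · rw [hadd, hA l hl, hB']; ring
  · exact absurd ((hξ.fixed_bound hc hμ hμ1).2 hA) (by rw [hx]; ring_nf; omega)

theorem sum_coef_diff1 (hg : D.Good ξ Z) {c : D.IK} (hc : D.IsLin c) :
    ∑ l, ∑ k, D.coef (D.diff1 c) l k ^ 2 = (D.p : ℤ) := by
  rw [Finset.sum_eq_single (1 : D.L₁) (fun l _ hl => Finset.sum_eq_zero fun k _ => by
      rw [coef_diff1_eq hg hc, if_neg hl]; ring) (fun h => absurd (Finset.mem_univ _) h),
    Finset.sum_congr rfl (g := fun _ => (1 : ℤ)) fun k _ => by rw [coef_diff1_eq hg hc, if_pos rfl]; ring,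
    Finset.sum_const, Finset.card_univ, D.card_L₂, nsmul_one]

theorem eta_part (hg : D.Good ξ Z) {c : D.IK} (hc : D.IsLin c) :
    ∑ x : D.L₁ × D.L₂, (D.coef (D.diff1 c) x.1 x.2 : ℂ) • D.eta x.1 x.2 = ∑ k, D.eta 1 k := by
  rw [Fintype.sum_prod_type, Finset.sum_eq_single (1 : D.L₁) (fun l _ hl => Finset.sum_eq_zero fun k _ => by
      rw [coef_diff1_eq hg hc, if_neg hl, Int.cast_zero, zero_smul]) (fun h => absurd (Finset.mem_univ _) h)]
  exact Finset.sum_congr rfl fun k _ => by rw [coef_diff1_eq hg hc, if_pos rfl, Int.cast_one, one_smul]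

/-- `τ(1 - c)` has no multiple of `ξ` besides `-ξ c`. -/
theorem xval_triv (hg : D.Good ξ Z) : D.xval ξ D.triv = 0 := by
  have hg0 := hg
  obtain ⟨hξ, -, ⟨μ, hμ, hμ1, hxμ⟩, -, -⟩ := hg
  obtain ⟨c, hc⟩ := D.exists_lin
  obtain ⟨h1, h2⟩ := hξ.bessel' D.notLin_triv hc (N := (D.p : ℤ))
    (by rw [D.norm_indT_fixed D.isFixed_triv, Int.cast_natCast])
  rw [D.dd_triv, sum_coef_diff1 hg0 hc, D.dZ_triv, mul_one] at h1 h2
  set x := D.xval ξ D.triv with hx
  have hR : (2 : ℤ) ≤ D.R := by exact_mod_cast D.two_le_R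
  by_contra hx0
  have hRx : (D.R : ℤ) * x ^ 2 - 2 * x = 0 := by
    have hsq : 0 ≤ (D.R : ℤ) * x ^ 2 := by positivity
    have hxp : 1 ≤ x := by omega
    have := mul_le_mul_of_nonneg_right hR (sq_nonneg x)
    nlinarith
  have hx1 : x = 1 := by
    have hxp : 1 ≤ x := by
      have hsq : 0 ≤ (D.R : ℤ) * x ^ 2 := by positivity
      omega
    have hRx1 : (D.R : ℤ) * x = 2 :=
      mul_right_cancel₀ (show x ≠ 0 by omega) (by linear_combination hRx)
    have := mul_le_mul_of_nonneg_right hR (show (0 : ℤ) ≤ x by omega)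
    omega
  have hV := h2 (by linarith)
  rw [eta_part hg0 hc] at hV
  set d := D.dZ (μ : D.KT → ℂ)
  have hnl := D.notLin_of_fixed hμ
  have hE := (hξ.bessel' hnl hc (N := (D.p : ℤ)) (by rw [D.norm_indT_fixed hμ, Int.cast_natCast])).1
  rw [hxμ] at hE
  set E := D.coef (D.dd μ c) with hEdef
  have hl : D.lab μ ≠ 1 := D.lab_ne_one hμ hμ1
  have hrow : ∀ k, 1 ≤ E (D.lab μ) k ^ 2 := fun k => D.one_le_sq_of_cast_ne fun h0 => by
    have h := D.coef_fixed_mod (c := c) hμ (D.lab μ) k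
    rw [show D.coef ((μ : D.KT → ℂ) - (D.dZ (μ : D.KT → ℂ) : ℂ) • (c : D.KT → ℂ)) (D.lab μ) k = E (D.lab μ) k
      from rfl, h0, mul_zero, if_pos rfl, if_neg hl, coef_diff1_eq hg0 hc, if_neg hl] at h
    simp at h
  have hE0 : ∀ k, E 1 k = 0 := by
    intro k
    have hs := Finset.sum_le_sum (s := Finset.univ) fun k _ => hrow k
    rw [Finset.sum_const, Finset.card_univ, D.card_L₂, nsmul_one] at hs
    have h3 : ∑ k', E (D.lab μ) k' ^ 2 + ∑ k', E 1 k' ^ 2 ≤ ∑ l, ∑ k', E l k' ^ 2 := by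
      rw [← Finset.sum_pair (f := fun l => ∑ k', E l k' ^ 2) hl]
      exact Finset.sum_le_sum_of_subset_of_nonneg (Finset.subset_univ _) fun l _ _ =>
        Finset.sum_nonneg fun _ _ => sq_nonneg _
    have h4 : E 1 k ^ 2 ≤ ∑ k', E 1 k' ^ 2 :=
      Finset.single_le_sum (f := fun k' => E 1 k' ^ 2) (fun _ _ => sq_nonneg _) (Finset.mem_univ k)
    exact pow_eq_zero_iff two_ne_zero |>.mp (le_antisymm (by linarith) (sq_nonneg _))
  have hφc := D.mem_of_lin hc
  have hlhs : Cfsg.classInner (D.ind (D.diff1 c)) (D.ind (D.dd μ c)) = (d : ℂ) := by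
    have e1 := D.inner_indT_fixed D.isFixed_triv (φ := μ) (Ne.symm hμ1)
    have e2 := D.inner_indT_fixed D.isFixed_triv (φ := c) (Ne.symm hc.2)
    have e3 : Cfsg.classInner (Cfsg.indFun D.KT (c : D.KT → ℂ)) (Cfsg.indFun D.KT (μ : D.KT → ℂ)) = 0 := by
      rw [← classInner_conj_symm, D.inner_indT_lin hnl hc, map_zero]
    rw [D.inner_ind_ind (D.diff1_zero hc) (D.dd_zero _ hc), D.indT_dd, diff1, indFun_sub, classInner_sub_left,
      classInner_sub_right, classInner_sub_right, classInner_smul_right, classInner_smul_right, map_intCast, e1, e2,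
      e3, D.norm_indT_free (D.not_fixed_lin hc)]
    ring
  have hrhs : Cfsg.classInner (D.ind (D.diff1 c)) (D.ind (D.dd μ c)) = 0 := by
    rw [hV, classInner_add_left, classInner_sum_left, classInner_sum_left,
      Finset.sum_eq_zero fun k _ => show Cfsg.classInner (D.eta 1 k) (D.ind (D.dd μ c)) = 0 by
        rw [← classInner_conj_symm, D.inner_eta (D.dd_gen _ _), ← hEdef, hE0, Int.cast_zero, map_zero],
      Finset.sum_eq_zero fun φ _ => ?_, add_zero]
    have m1 := hξ.mult_dd D.notLin_triv hc φ.2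
    rw [D.dd_triv, D.dZ_triv, ← hx, hx1, one_mul] at m1
    have m2 := hξ.mult_dd hnl hc φ.2
    rw [hxμ, zero_sub] at m2
    rw [classInner_smul_left, ← classInner_conj_symm, D.inner_ind_eq (hξ.gen φ.2) (D.dd_gen μ c), map_intCast,
      ← Int.cast_mul, m1, m2]
    split_ifs <;> simp
  rw [hrhs] at hlhs
  have := dZ_pos μ
  exact absurd (Int.cast_eq_zero.mp hlhs.symm) (by omega)

theorem ind_diff1 (hg : D.Good ξ Z) {c : D.IK} (hc : D.IsLin c) :
    D.ind (D.diff1 c) = (∑ k, D.eta 1 k) - ξ (Cfsg.indFun D.KT (c : D.KT → ℂ)) := by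
  have hξ := hg.1
  obtain ⟨-, h2⟩ := hξ.bessel' D.notLin_triv hc (N := (D.p : ℤ))
    (by rw [D.norm_indT_fixed D.isFixed_triv, Int.cast_natCast])
  have hV := h2 (by rw [D.dd_triv, sum_coef_diff1 hg hc, xval_triv hg]; ring)
  rw [D.dd_triv, eta_part hg hc, Finset.sum_eq_single (⟨_, D.mem_of_lin hc⟩ : D.Mem) (fun φ _ hne => ?_)
    (fun h => absurd (Finset.mem_univ _) h)] at hV
  · have m1 := hξ.mult_dd D.notLin_triv hc (D.mem_of_lin hc)
    rw [D.dd_triv, D.dZ_triv, xval_triv hg, if_pos rfl, one_mul, zero_sub] at m1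
    rw [hV, m1, Int.cast_neg, Int.cast_one, neg_one_smul, sub_eq_add_neg]
  · have m1 := hξ.mult_dd D.notLin_triv hc φ.2
    rw [D.dd_triv, D.dZ_triv, xval_triv hg, if_neg fun e => hne (Subtype.ext e.symm), mul_zero, sub_zero] at m1
    rw [m1, Int.cast_zero, zero_smul]

/-- The mass on the kernel, in integers. -/
theorem mass_int [Z.Normal] (hg : D.Good ξ Z) {c : D.IK} (hc : D.IsLin c) :
    ∃ A : ℤ, (A : ℝ) = ∑ k : D.KT,
        (if k = 1 then 0 else Complex.normSq (ξ (Cfsg.indFun D.KT (c : D.KT → ℂ)) ((k : D.T) : G))) ∧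
      (2 * (D.q : ℤ) - 1) * ((Nat.card D.KT : ℤ) * D.p) ≤ 2 * (D.q : ℤ) * A := by
  obtain ⟨hξ, hZ, -, hzero, hN⟩ := hg
  have hφ := D.mem_of_lin hc
  set φc := Cfsg.indFun D.KT (c : D.KT → ℂ) with hφc
  set f := ξ φc with hf
  have hgen : Cfsg.IsGeneralizedCharacter G f := hξ.gen hφ
  set m : D.IK → ℤ := fun θ => D.mZ f (θ : D.KT → ℂ)
  set d : D.IK → ℤ := fun θ => D.dZ (θ : D.KT → ℂ)
  set n : ℤ := (Nat.card D.KT : ℤ)
  set S := ∑ θ, m θ * d θ with hS
  have hdd : ∑ θ, d θ ^ 2 = n := by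
    apply Int.cast_injective (α := ℂ)
    rw [Int.cast_natCast, ← sum_sq_degree (G := D.KT), Int.cast_sum]
    exact Finset.sum_congr rfl fun θ _ => by rw [Int.cast_pow, D.coe_dZ (D.isGen_irr θ)]
  have hres : Cfsg.classInner (D.res f) (D.res f) = ((∑ θ, m θ ^ 2 : ℤ) : ℂ) := by
    have e : D.res f = ∑ θ : D.IK, (m θ : ℂ) • (θ : D.KT → ℂ) := funext fun k => by
      rw [Finset.sum_apply]
      exact D.apply_eq_sum hgen k
    conv_lhs => arg 1; rw [e]
    rw [classInner_sum_left, Int.cast_sum]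
    refine Finset.sum_congr rfl fun θ _ => ?_
    rw [classInner_smul_left, show Cfsg.classInner (θ : D.KT → ℂ) (D.res f) = (m θ : ℂ) from
      (D.coe_mZ hgen (D.isGen_irr θ)).symm, sq, Int.cast_mul]
  have hf1 : f 1 = (S : ℂ) := by
    have h := D.apply_eq_sum hgen 1
    rw [OneMemClass.coe_one, OneMemClass.coe_one] at h
    rw [h, hS, Int.cast_sum]
    exact Finset.sum_congr rfl fun θ _ => by rw [Int.cast_mul, D.coe_dZ (D.isGen_irr θ)]
  refine ⟨n * ∑ θ, m θ ^ 2 - S ^ 2, ?_, ?_⟩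
  · have h := Frob12.classInner_self_eq_sum (D.res f)
    rw [hres, Complex.intCast_re] at h
    have hn : (Nat.card D.KT : ℝ) ≠ 0 := Nat.cast_ne_zero.mpr Nat.card_pos.ne'
    have h' : ∑ k : D.KT, Complex.normSq (f ((k : D.T) : G)) = (n : ℝ) * ((∑ θ, m θ ^ 2 : ℤ) : ℝ) := by
      rw [h, show (n : ℝ) = (Nat.card D.KT : ℝ) from Int.cast_natCast _, ← mul_assoc, mul_inv_cancel₀ hn, one_mul]
      rfl
    rw [Finset.sum_congr rfl fun (k : D.KT) _ => show (if k = 1 then 0 else Complex.normSq (f ((k : D.T) : G))) =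
      Complex.normSq (f ((k : D.T) : G)) - (if k = 1 then Complex.normSq (f ((k : D.T) : G)) else 0) by
        split_ifs <;> simp, Finset.sum_sub_distrib, h', Finset.sum_ite_eq' Finset.univ (1 : D.KT),
      if_pos (Finset.mem_univ _), OneMemClass.coe_one, OneMemClass.coe_one, hf1, ← Complex.ofReal_intCast S,
      Complex.normSq_ofReal, Int.cast_sub, Int.cast_mul, Int.cast_pow, sq]
  set O := D.orbit φc with hO
  set L := Finset.univ.filter fun b : D.IK => D.IsLin b with hL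
  set E := L ∪ D.out Z with hE
  have hdisj : Disjoint L (D.out Z) := Finset.disjoint_left.mpr fun θ h1 h2 =>
    (D.notLin_of_not_kerZ hZ ((D.mem_out).mp h2)).1 (Finset.mem_filter.mp h1).2
  set K₀ := m c - 1 with hK₀
  have hmE : ∀ θ ∈ E, m θ = (if θ ∈ O then 1 else 0) + K₀ * d θ := by
    intro θ hθ
    rcases Finset.mem_union.mp hθ with h | h
    · have hl := (Finset.mem_filter.mp h).2
      have h1 := hξ.mult_lin hφ hl hc
      rw [if_pos hφc.symm] at h1
      rw [show d θ = 1 from D.dZ_lin hl, mul_one, hK₀]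
      by_cases e : Cfsg.indFun D.KT (θ : D.KT → ℂ) = φc
      · rw [if_pos e] at h1
        rw [if_pos ((D.mem_orbit).mpr ⟨hl, e⟩)]
        show D.mZ f _ = _
        linear_combination h1
      · rw [if_neg e] at h1
        rw [if_neg fun h' => e ((D.mem_orbit).mp h').2]
        show D.mZ f _ = _
        linear_combination h1
    · have hθo := (D.mem_out).mp h
      have h1 := hξ.mult_dd (D.notLin_of_not_kerZ hZ hθo).1 hc hφ
      rw [if_pos hφc.symm, D.mZ_dd hgen, hzero θ hθo] at h1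
      rw [if_neg fun h' => (D.notLin_of_not_kerZ hZ hθo).1 ((D.mem_orbit).mp h').1, hK₀]
      show D.mZ f _ = _
      linear_combination h1
  have hOE : O ⊆ E := fun θ hθ =>
    Finset.mem_union_left _ (Finset.mem_filter.mpr ⟨Finset.mem_univ _, ((D.mem_orbit).mp hθ).1⟩)
  have hdO : ∀ θ ∈ O, d θ = 1 := fun θ hθ => D.dZ_lin ((D.mem_orbit).mp hθ).1
  set N := ∑ θ ∈ E, d θ ^ 2 with hNdef
  set p : ℤ := (D.p : ℤ)
  have hcO : (O.card : ℤ) = p := congrArg Nat.cast (D.card_orbit hφ)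
  have hNge : 2 * p * (D.q : ℤ) ≤ N := by
    refine hN.trans (le_of_eq ?_)
    rw [hNdef, hE, Finset.sum_union hdisj, Finset.sum_congr rfl (g := fun _ => (1 : ℤ)) fun θ hθ => by
        rw [show d θ = 1 from D.dZ_lin (Finset.mem_filter.mp hθ).2, one_pow],
      Finset.sum_const, nsmul_one, hL, D.card_lin]
    push_cast
    rw [show ∑ θ ∈ D.out Z, d θ ^ 2 = (Nat.card D.KT : ℤ) - (Z.relIndex D.KT : ℤ) from D.sum_sq_out Z]
  set v : D.IK → ℤ := fun θ => (if θ ∈ O then N else 0) - (if θ ∈ E then p * d θ else 0) with hv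
  have sO : ∀ g : D.IK → ℤ, ∑ θ, (if θ ∈ O then g θ else 0) = ∑ θ ∈ O, g θ := fun g => by
    rw [Finset.sum_ite_mem, Finset.univ_inter]
  have sE : ∀ g : D.IK → ℤ, ∑ θ, (if θ ∈ E then g θ else 0) = ∑ θ ∈ E, g θ := fun g => by
    rw [Finset.sum_ite_mem, Finset.univ_inter]
  have hvd : ∑ θ, v θ * d θ = 0 := by
    simp only [hv, sub_mul, ite_mul, zero_mul]
    rw [Finset.sum_sub_distrib, sO, sE, Finset.sum_congr rfl (g := fun _ => N) fun θ hθ => by rw [hdO θ hθ, mul_one],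
      Finset.sum_congr rfl (s₁ := E) (g := fun θ => p * d θ ^ 2) fun θ _ => by ring, ← Finset.mul_sum,
      Finset.sum_const, nsmul_eq_mul, hcO, ← hNdef]
    ring
  have hEd : ∑ θ ∈ E, m θ * d θ = p + K₀ * N := by
    rw [Finset.sum_congr rfl (g := fun θ => (if θ ∈ O then 1 else 0) + K₀ * d θ ^ 2) fun θ hθ => by
        rw [hmE θ hθ]
        by_cases e : θ ∈ O
        · rw [if_pos e, hdO θ e]; ring
        · rw [if_neg e]; ring,
      Finset.sum_add_distrib, ← Finset.mul_sum, Finset.sum_ite_mem, Finset.inter_eq_right.mpr hOE, Finset.sum_const,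
      nsmul_one, hcO]
  have hmv : ∑ θ, m θ * v θ = p * (N - p) := by
    simp only [hv, mul_sub, mul_ite, mul_zero]
    rw [Finset.sum_sub_distrib, sO, sE,
      Finset.sum_congr rfl (g := fun _ => (1 + K₀) * N) fun θ hθ => by
        rw [hmE θ (hOE hθ), if_pos hθ, hdO θ hθ]; ring,
      Finset.sum_congr rfl (s₁ := E) (g := fun θ => p * (m θ * d θ)) fun θ _ => by ring,
      Finset.sum_const, nsmul_eq_mul, hcO, ← Finset.mul_sum, hEd]
    ring
  have hvv : ∑ θ, v θ * v θ = N * p * (N - p) := by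
    have e : ∀ θ, v θ * v θ = (if θ ∈ O then N * v θ else 0) - (if θ ∈ E then p * (v θ * d θ) else 0) :=
      fun θ => by
        conv_lhs => arg 1; rw [hv]
        simp only [sub_mul, ite_mul, zero_mul]
        split_ifs <;> ring
    rw [Finset.sum_congr rfl fun θ _ => e θ, Finset.sum_sub_distrib, sO, sE, ← Finset.mul_sum, ← Finset.mul_sum,
      Finset.sum_subset (s₁ := E) (f := fun θ => v θ * d θ) (Finset.subset_univ _) (fun θ _ hθ => by
        simp only [hv, if_neg hθ, if_neg fun h => hθ (hOE h)]; ring), hvd,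
      Finset.sum_congr rfl (g := fun _ => N - p) fun θ hθ => by
        simp only [hv, if_pos hθ, if_pos (hOE hθ), hdO θ hθ]; ring,
      Finset.sum_const, nsmul_eq_mul, hcO]
    ring
  set A := n * ∑ θ, m θ ^ 2 - S ^ 2 with hA
  have hCS := Finset.sum_mul_sq_le_sq_mul_sq Finset.univ (fun θ => n * m θ - S * d θ) v
  have e1 : ∑ θ, (n * m θ - S * d θ) * v θ = n * (p * (N - p)) := by
    rw [Finset.sum_congr rfl (g := fun θ => n * (m θ * v θ) - S * (v θ * d θ)) fun θ _ => by ring,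
      Finset.sum_sub_distrib, ← Finset.mul_sum, ← Finset.mul_sum, hmv, hvd]
    ring
  have e2 : ∑ θ, (n * m θ - S * d θ) ^ 2 = n * A := by
    rw [Finset.sum_congr rfl (g := fun θ => n ^ 2 * m θ ^ 2 - 2 * n * S * (m θ * d θ) + S ^ 2 * d θ ^ 2)
        fun θ _ => by ring,
      Finset.sum_add_distrib, Finset.sum_sub_distrib, ← Finset.mul_sum, ← Finset.mul_sum, ← Finset.mul_sum, hdd,
      ← hS, hA]
    ring
  have e3 : ∑ θ, v θ ^ 2 = N * p * (N - p) :=
    (Finset.sum_congr rfl fun θ _ => sq (v θ)).trans hvv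
  rw [e1, e2, e3] at hCS
  have hp : (0 : ℤ) < p := Nat.cast_pos.mpr Nat.card_pos
  have hn0 : (0 : ℤ) < n := Nat.cast_pos.mpr Nat.card_pos
  have hq : (3 : ℤ) ≤ (D.q : ℤ) := by exact_mod_cast D.three_le_q
  have hNp : p < N := by nlinarith
  have hkey : n * p * (N - p) ≤ A * N :=
    le_of_mul_le_mul_right (by linarith) (mul_pos (mul_pos hn0 hp) (sub_pos.mpr hNp))
  have hnp : 0 ≤ n * p := (mul_pos hn0 hp).le
  refine le_of_mul_le_mul_right ?_ (hp.trans hNp)
  calc (2 * (D.q : ℤ) - 1) * (n * p) * N ≤ 2 * (D.q : ℤ) * (n * p * (N - p)) := by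
        have := mul_le_mul_of_nonneg_left hNge hnp
        nlinarith
    _ ≤ 2 * (D.q : ℤ) * A * N := by
        have := mul_le_mul_of_nonneg_left hkey (show (0 : ℤ) ≤ 2 * (D.q : ℤ) by omega)
        linarith

variable (D)

/-- The exceptional character. -/
theorem exists_exceptional : ∃ (x : G → ℂ) (c : D.IK), D.IsLin c ∧ SignedIrr x ∧
    D.ind (D.diff1 c) = (∑ k, D.eta 1 k) - x ∧
      (1 - 1 / (2 * (D.q : ℝ))) * ((Nat.card D.KT : ℝ) * D.p) ≤
        ∑ k : D.KT, (if k = 1 then 0 else Complex.normSq (x ((k : D.T) : G))) := by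
  obtain ⟨ξ, Z, hZn, hg⟩ := D.exists_good
  have := hZn
  obtain ⟨c, hc⟩ := D.exists_lin
  obtain ⟨A, hA, hA'⟩ := mass_int hg hc
  refine ⟨_, c, hc, hg.1.signed _ (D.mem_of_lin hc), ind_diff1 hg hc, hA ▸ ?_⟩
  have hq : (0 : ℝ) < 2 * (D.q : ℝ) := by have := D.three_le_q; positivity
  have h : ((2 * (D.q : ℝ)) - 1) * ((Nat.card D.KT : ℝ) * D.p) ≤ 2 * (D.q : ℝ) * (A : ℝ) := by exact_mod_cast hA'
  rw [one_sub_div hq.ne', div_mul_eq_mul_div, div_le_iff₀ hq]
  linarith

end TV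

end CfsgLib.OddLocal.TypeFive
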