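import Cfsg.Agent.Lib.OddLocal.Final.TypeV.CaseFree
import Cfsg.Agent.Lib.OddLocal.Final.TypeV.CaseCentral
import Cfsg.Agent.Lib.Core.Nilpotent

/-!
Owner: helper1. The case split on the central part of the derived kernel.
-/

set_option autoImplicit false
set_option linter.unusedSectionVars false

open scoped Classical

namespace CfsgLib.OddLocal.TypeFive

open CfsgLib.Char CfsgLib.CyclicTI Subgroup

namespace TV

variable {G : Type*} [Group G] [Fintype G] (D : TV G)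

/-- The elements of exponent dividing `r₀` of the central part of the derived kernel. -/
def centTors (r₀ : ℕ) : Subgroup D.T where
  carrier := {z | z ∈ D.DK ∧ (∀ k : D.KT, z * k = k * z) ∧ z ^ r₀ = 1}
  one_mem' := ⟨one_mem _, fun k => by rw [one_mul, mul_one], one_pow _⟩
  mul_mem' := by
    rintro a b ⟨ha, ha', ha''⟩ ⟨hb, hb', hb''⟩
    refine ⟨mul_mem ha hb, fun k => by rw [mul_assoc, hb' k, ← mul_assoc, ha' k, mul_assoc], ?_⟩
    have hc : Commute a b := ha' ⟨b, commutator_le_self D.KT hb⟩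
    rw [hc.mul_pow, ha'', hb'', one_mul]
  inv_mem' := by
    rintro a ⟨ha, ha', ha''⟩
    refine ⟨inv_mem ha, fun k => ?_, by rw [inv_pow, ha'', inv_one]⟩
    have hc : Commute a (k : D.T) := ha' k
    exact hc.inv_left

theorem mem_centTors {r₀ : ℕ} {z : D.T} :
    z ∈ D.centTors r₀ ↔ z ∈ D.DK ∧ (∀ k : D.KT, z * k = k * z) ∧ z ^ r₀ = 1 := Iff.rfl

theorem centTors_normal (r₀ : ℕ) : (D.centTors r₀).Normal := by
  refine ⟨fun z hz x => ⟨(inferInstance : (D.DK).Normal).conj_mem z hz.1 x, fun k => ?_, ?_⟩⟩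
  · have hk : x⁻¹ * k * x ∈ D.KT := by
      simpa using (inferInstance : D.KT.Normal).conj_mem k k.2 x⁻¹
    have h : z * (x⁻¹ * k * x) = x⁻¹ * k * x * z := hz.2.1 ⟨_, hk⟩
    calc x * z * x⁻¹ * (k : D.T) = x * (z * (x⁻¹ * k * x)) * x⁻¹ := by group
      _ = x * (x⁻¹ * k * x * z) * x⁻¹ := by rw [h]
      _ = k * (x * z * x⁻¹) := by group
  · rw [conj_pow, hz.2.2, mul_one, mul_inv_cancel]

theorem centTors_ne_bot {r₀ : ℕ} [hr : Fact r₀.Prime] {z : D.T} (hz : z ∈ D.DK) (hc : ∀ k : D.KT, z * k = k * z)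
    (hd : r₀ ∣ orderOf z) : D.centTors r₀ ≠ ⊥ := by
  intro hb
  set y := z ^ (orderOf z / r₀) with hy
  have hoy : orderOf y = r₀ := orderOf_pow_orderOf_div (orderOf_pos z).ne' hd
  have hmem : y ∈ D.centTors r₀ := ⟨pow_mem hz _, fun k => Commute.pow_left (hc k) _,
    hoy ▸ pow_orderOf_eq_one y⟩
  rw [hb, mem_bot] at hmem
  rw [hmem, orderOf_one] at hoy
  exact hr.out.ne_one hoy.symm

theorem exists_good : ∃ ξ Z, Z.Normal ∧ D.Good ξ Z := by
  by_cases hfree : ∃ r₀, r₀.Prime ∧ D.centTors r₀ ≠ ⊥ ∧ D.centTors r₀ ⊓ D.Q₁ = ⊥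
  · obtain ⟨r₀, hp, hne, hdisj⟩ := hfree
    have : Fact r₀.Prime := ⟨hp⟩
    have h : D.FreeCase (D.centTors r₀) r₀ := ⟨D.centTors_normal r₀, fun z hz => hz.1, hne,
      fun z hz k => hz.2.1 k, hdisj, fun z => ⟨1, Subtype.ext (by simpa using z.2.2.2)⟩⟩
    obtain ⟨ξ, hξ⟩ := h.good
    exact ⟨ξ, _, D.centTors_normal r₀, hξ⟩
  push Not at hfree
  have hq := D.q_prime
  have : Fact (D.q).Prime := ⟨hq⟩
  -- a prime carrying central torsion is `q`, and then `Q₁` is central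
  have hkey : ∀ r₀ : ℕ, r₀.Prime → D.centTors r₀ ≠ ⊥ → r₀ = D.q ∧ D.Q₁ ≤ D.centTors r₀ := by
    intro r₀ hp hne
    obtain ⟨w, hw, hw1⟩ := (bot_or_exists_ne_one (D.centTors r₀ ⊓ D.Q₁)).resolve_left (hfree r₀ hp hne)
    have hwo : orderOf w = D.q := (hq.eq_one_or_self_of_dvd _ ((orderOf_dvd_natCard D.Q₁ hw.2).trans D.card_Q₁.dvd)).resolve_left
      fun e => hw1 (orderOf_eq_one_iff.mp e)
    have hz : zpowers w = D.Q₁ := eq_of_le_of_card_ge (zpowers_le.mpr hw.2) (by rw [Nat.card_zpowers, hwo, D.card_Q₁])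
    refine ⟨?_, hz ▸ zpowers_le.mpr hw.1⟩
    have := orderOf_dvd_of_pow_eq_one hw.1.2.2
    rw [hwo] at this
    exact ((Nat.prime_dvd_prime_iff_eq hq hp).mp this).symm
  have hne : ⁅D.KT, D.KT⁆ ≠ ⊥ := fun h => D.Q₁_ne_bot (eq_bot_iff.mpr (h ▸ D.Q₁_le_DK))
  obtain ⟨Z, -, hZne, hZle, hZc⟩ := Coh.exists_central (H := D.KT) D.nilpotent_KT hne
  obtain ⟨z, hz, hz1⟩ := (bot_or_exists_ne_one Z).resolve_left hZne
  obtain ⟨r₁, hr₁, hd₁⟩ := Nat.exists_prime_and_dvd (fun e => hz1 (orderOf_eq_one_iff.mp e))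
  have : Fact r₁.Prime := ⟨hr₁⟩
  obtain ⟨-, hQ⟩ := hkey r₁ hr₁ (D.centTors_ne_bot (hZle hz) (fun k => hZc z hz k k.2) hd₁)
  have hcentral : ∀ w ∈ D.Q₁, ∀ k : D.KT, w * k = k * w := fun w hw k => (hQ hw).2.1 k
  suffices h : IsPGroup D.q D.DK by
    obtain ⟨ξ, hξ⟩ := CentralCase.good ⟨hcentral, h⟩
    exact ⟨ξ, _, CentralCase.normal ⟨hcentral, h⟩, hξ⟩
  -- the derived kernel is a `q`-group
  intro a
  obtain ⟨i, hi⟩ : ∃ i, orderOf a = D.q ^ i := by
    refine ⟨_, Nat.eq_prime_pow_of_unique_prime_dvd (orderOf_pos a).ne' fun {r} hr hd => ?_⟩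
    have : Fact r.Prime := ⟨hr⟩
    have := D.nilpotent_KT
    obtain ⟨P₀⟩ := (inferInstance : Nonempty (Sylow r D.KT))
    have hP₀ : (P₀ : Subgroup D.KT).Normal :=
      P₀.normal_of_normalizerCondition Group.normalizerCondition_of_isNilpotent
    set N : Subgroup D.KT := (D.DK).subgroupOf D.KT ⊓ P₀ with hN
    have : ((D.DK).subgroupOf D.KT).Normal := inferInstance
    have : N.Normal := by rw [hN]; infer_instance
    have hNne : N ≠ ⊥ := by
      intro hb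
      set y := (a : D.T) ^ (orderOf (a : D.T) / r)
      have hoy : orderOf y = r := orderOf_pow_orderOf_div (orderOf_pos _).ne' (by rwa [orderOf_coe])
      have hyD : y ∈ D.DK := pow_mem a.2 _
      set y' : D.KT := ⟨y, commutator_le_self D.KT hyD⟩
      have hy' : orderOf y' = r := (orderOf_mk y _).trans hoy
      have hpg : IsPGroup r (zpowers y') := IsPGroup.of_card (n := 1) (by rw [Nat.card_zpowers, hy', pow_one])
      obtain ⟨P₁, hP₁⟩ := hpg.exists_le_sylow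
      obtain rfl : P₁ = P₀ := by
        have := Sylow.unique_of_normal P₀ hP₀
        exact (this.uniq P₁).trans (this.uniq P₀).symm
      have hmem : y' ∈ N := ⟨hyD, hP₁ (mem_zpowers y')⟩
      rw [hb, mem_bot] at hmem
      rw [hmem, orderOf_one] at hy'
      exact hr.ne_one hy'.symm
    obtain ⟨u, hu, hu1⟩ := (bot_or_exists_ne_one _).resolve_left (Core.inf_center_ne_bot_of_isNilpotent N hNne)
    obtain ⟨j, hj⟩ := P₀.isPGroup' ⟨u, hu.1.2⟩
    have huj : u ^ r ^ j = 1 := by simpa using congrArg Subtype.val hj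
    obtain ⟨l, -, hl⟩ := (Nat.dvd_prime_pow hr).mp (orderOf_dvd_of_pow_eq_one huj)
    have hl0 : l ≠ 0 := fun e => hu1 (orderOf_eq_one_iff.mp (by rw [hl, e, pow_zero]))
    refine (hkey r hr (D.centTors_ne_bot (z := (u : D.T)) hu.1.1
      (fun k => congrArg Subtype.val (Subgroup.mem_center_iff.mp hu.2 k).symm)
      (by rw [orderOf_coe, hl]; exact dvd_pow_self r hl0))).1
  exact ⟨i, hi ▸ pow_orderOf_eq_one a⟩

end TV

end CfsgLib.OddLocal.TypeFive
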