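import Cfsg.Agent.Lib.OddLocal.Final.TypeV.Dichotomy
import Cfsg.Agent.Lib.Char.Coherence.InducedSets
import Cfsg.Agent.Lib.Char.Exceptional.Coherence2

/-!
Owner: helper1. The coherence system on all the characters of `T` induced from nonprincipal characters of
the kernel, with the TI induction as map.
-/

set_option autoImplicit false
set_option linter.unusedSectionVars false

open scoped Classical

namespace CfsgLib.OddLocal.TypeFive

open CfsgLib.Char CfsgLib.CyclicTI Subgroup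
open scoped ComplexConjugate

namespace TV

variable {G : Type*} [Group G] [Fintype G] (D : TV G)

/-- The characters induced from the nonprincipal characters of the kernel. -/
abbrev S₀ : Set (D.T → ℂ) := Cfsg.inducedIrrAbove D.KT ⊥

theorem mem_S₀ {θ : D.IK} (h : θ ≠ D.triv) : Cfsg.indFun D.KT (θ : D.KT → ℂ) ∈ D.S₀ :=
  ⟨θ, θ.2, fun e => h (Subtype.ext e), fun a ha => by rw [show a = 1 from Subtype.ext (mem_bot.mp ha)], rfl⟩

theorem exists_of_mem_S₀ {φ : D.T → ℂ} (h : φ ∈ D.S₀) :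
    ∃ θ : D.IK, θ ≠ D.triv ∧ φ = Cfsg.indFun D.KT (θ : D.KT → ℂ) := by
  obtain ⟨θ, hθ, h1, -, rfl⟩ := h
  exact ⟨⟨θ, hθ⟩, fun e => h1 (congrArg Subtype.val e), rfl⟩

theorem nilpotent_KT : Group.IsNilpotent D.KT := by
  have := D.nilpotent
  exact Group.nilpotent_of_mulEquiv (subgroupOfEquivOfLe D.K_le).symm

theorem solvable_KT : Group.IsSolvable D.KT := by
  have := D.nilpotent_KT
  infer_instance

theorem KT_ne_bot : D.KT ≠ ⊥ := fun h => D.Q₁_ne_bot (eq_bot_iff.mpr (h ▸ D.Q₁_le))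

theorem exists_lin : ∃ c : D.IK, D.IsLin c := by
  obtain ⟨θ, hθ, h1, hd, -⟩ := Coh.exists_linear (K := D.KT) D.solvable_KT (A := ⊥)
    (fun h => D.KT_ne_bot (eq_bot_iff.mpr h))
  exact ⟨⟨θ, hθ⟩, hd, fun e => h1 (congrArg Subtype.val e)⟩

theorem zspan_props {α : D.T → ℂ} (h : α ∈ Cfsg.zspanOn D.S₀ ({1}ᶜ : Set D.T)) :
    Cfsg.IsGeneralizedCharacter D.T α ∧ ∀ t : D.T, (t : G) ∉ (D.K : Set G) \ {1} → α t = 0 := by
  obtain ⟨hz, h1⟩ := h
  have key : Cfsg.IsGeneralizedCharacter D.T α ∧ ∀ t : D.T, t ∉ D.KT → α t = 0 := by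
    clear h1
    induction hz using Submodule.span_induction with
    | mem x hx =>
      obtain ⟨θ, -, rfl⟩ := D.exists_of_mem_S₀ hx
      exact ⟨IsGen.of_isCharacter (isCharacter_indFun _ (IsIrr.isCharacter θ.2)),
        fun t ht => Clifford.indFun_eq_zero_off_normal inferInstance _ ht⟩
    | zero => exact ⟨Exceptional.isGen_zero, fun _ _ => rfl⟩
    | add x y _ _ hx hy =>
      exact ⟨Exceptional.IsGen.add hx.1 hy.1, fun t ht => by rw [Pi.add_apply, hx.2 t ht, hy.2 t ht, add_zero]⟩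
    | smul n x _ hx =>
      exact ⟨Exceptional.IsGen.zsmul n hx.1, fun t ht => by rw [Pi.smul_apply, hx.2 t ht, smul_zero]⟩
  refine ⟨key.1, fun t ht => ?_⟩
  by_cases hk : t ∈ D.KT
  · exact h1 t fun hne => ht ⟨hk, fun e => hne (Subtype.ext e)⟩
  · exact key.2 t hk

theorem tau_isometry : Cfsg.IsLinearIsometryOn (Cfsg.zspanOn D.S₀ ({1}ᶜ : Set D.T)) D.tau := by
  refine ⟨fun α _ β _ => indFun_add D.T α β, fun α _ n => ?_, fun α hα β hβ => ?_,
    fun α hα => Exceptional.IsGen.indFun _ (D.zspan_props hα).1⟩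
  · rw [tau, tau, ← Int.cast_smul_eq_zsmul ℂ, indFun_smul, Int.cast_smul_eq_zsmul ℂ]
  · exact Exceptional.ti_indFun_inner D.ti_set (D.zspan_props hα).2
      (Exceptional.IsGen.isClassFunction (D.zspan_props hβ).1) (D.zspan_props hβ).2

theorem tau_map_one {α : D.T → ℂ} (hα : α ∈ Cfsg.zspanOn D.S₀ ({1}ᶜ : Set D.T)) : D.tau α 1 = 0 := by
  rw [tau, indFun_apply_one, (D.zspan_props hα).2 1 (fun h => h.2 rfl), mul_zero]

/-- The irreducible members. -/
def Free : Set (D.T → ℂ) := {φ | φ ∈ D.S₀ ∧ Cfsg.IsIrrCharacter D.T φ}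

theorem conj_mem_S₀ {φ : D.T → ℂ} (h : φ ∈ D.S₀) : Cfsg.conjFun φ ∈ D.S₀ ∧ Cfsg.conjFun φ ≠ φ := by
  refine ⟨Coh.closed_conj ⊥ φ h, ?_⟩
  obtain ⟨θ, hne, rfl⟩ := D.exists_of_mem_S₀ h
  intro e
  have h0 := D.inner_indT_conj hne
  rw [show Cfsg.indFun D.KT (conjIrr θ : D.KT → ℂ) = Cfsg.indFun D.KT (θ : D.KT → ℂ) from
    ((Coh.conjFun_indFun (K := D.KT) (θ : D.KT → ℂ)).symm.trans e)] at h0
  by_cases hf : D.IsFixed (θ : D.KT → ℂ)
  · rw [D.norm_indT_fixed hf] at h0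
    have := D.three_le_p
    have : D.p = 0 := by exact_mod_cast h0
    omega
  · rw [D.norm_indT_free hf] at h0
    exact one_ne_zero h0

theorem exists_free_system :
    ∃ R : (D.T → ℂ) → Finset (G → ℂ), Cfsg.IsCoherenceSystem D.Free D.tau R := by
  obtain ⟨c, hc⟩ := D.exists_lin
  refine Exceptional.coherenceSystem_of_irr (S := D.Free) ⟨_, D.mem_S₀ hc.2, D.isIrr_ind_of_moved c.2 (D.not_fixed_lin hc)⟩
    (fun φ h => h.2) (fun φ h => ⟨⟨(D.conj_mem_S₀ h.1).1, Exceptional.IsIrr.conjFun h.2⟩, (D.conj_mem_S₀ h.1).2⟩)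
    (Exceptional.IsLinearIsometryOn.mono D.tau_isometry (Exceptional.zspanOn_subset _ fun φ h => h.1))
    fun α hα => D.tau_map_one (Exceptional.zspanOn_subset _ (fun φ h => h.1) hα)

theorem fixed_of_not_irr {θ : D.IK} (h : ¬ Cfsg.IsIrrCharacter D.T (Cfsg.indFun D.KT (θ : D.KT → ℂ))) :
    D.IsFixed (θ : D.KT → ℂ) := by_contra fun hf => h (D.isIrr_ind_of_moved θ.2 hf)

theorem not_irr_of_fixed {θ : D.IK} (hf : D.IsFixed (θ : D.KT → ℂ)) :
    ¬ Cfsg.IsIrrCharacter D.T (Cfsg.indFun D.KT (θ : D.KT → ℂ)) := fun h => by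
  have h1 := Exceptional.classInner_self_of_irr h
  rw [D.norm_indT_fixed hf] at h1
  have := D.three_le_p
  have : D.p = 1 := by exact_mod_cast h1
  omega

/-- The signed members of the family attached to a fixed character and its conjugate. -/
noncomputable def fixedR (θ : D.IK) : Finset (G → ℂ) :=
  (Finset.univ.filter fun x : D.L₁ × D.L₂ => x.1 = D.lab θ ∨ x.1 = D.lab (conjIrr θ)).image
    fun x => (D.coef ((θ : D.KT → ℂ) - (conjIrr θ : D.KT → ℂ)) x.1 x.2 : ℂ) • D.eta x.1 x.2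

theorem mem_fixedR {θ : D.IK} {α : G → ℂ} (h : α ∈ D.fixedR θ) :
    ∃ x : D.L₁ × D.L₂, (x.1 = D.lab θ ∨ x.1 = D.lab (conjIrr θ)) ∧
      α = (D.coef ((θ : D.KT → ℂ) - (conjIrr θ : D.KT → ℂ)) x.1 x.2 : ℂ) • D.eta x.1 x.2 := by
  obtain ⟨x, hx, rfl⟩ := Finset.mem_image.mp h
  exact ⟨x, (Finset.mem_filter.mp hx).2, rfl⟩

theorem fixedR_facts {θ : D.IK} (hf : D.IsFixed (θ : D.KT → ℂ)) (hne : θ ≠ D.triv) :
    (∀ α ∈ D.fixedR θ, ∀ β ∈ D.fixedR θ, Cfsg.classInner α β = if α = β then 1 else 0) ∧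
    D.ind ((θ : D.KT → ℂ) - (conjIrr θ : D.KT → ℂ)) = ∑ α ∈ D.fixedR θ, α := by
  obtain ⟨hsq, hsum⟩ := D.fixed_pair hf (D.isFixed_conj.mpr hf) (D.conjIrr_ne hne).symm (D.dZ_conj θ).symm
  set C := D.coef ((θ : D.KT → ℂ) - (conjIrr θ : D.KT → ℂ))
  set A := Finset.univ.filter fun x : D.L₁ × D.L₂ => x.1 = D.lab θ ∨ x.1 = D.lab (conjIrr θ) with hA
  have hC : ∀ x ∈ A, (C x.1 x.2 : ℂ) * C x.1 x.2 = 1 := fun x hx => by
    have h := hsq x.1 x.2
    rw [if_pos (Finset.mem_filter.mp hx).2] at h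
    rw [← Int.cast_mul, ← sq, h, Int.cast_one]
  have hin : ∀ x ∈ A, ∀ y ∈ A, Cfsg.classInner ((C x.1 x.2 : ℂ) • D.eta x.1 x.2) ((C y.1 y.2 : ℂ) • D.eta y.1 y.2)
      = if x = y then 1 else 0 := fun x hx y hy => by
    rw [classInner_smul_left, classInner_smul_right, map_intCast, D.eta_inner]
    split_ifs with h
    · rw [← h, mul_one]; exact hC x hx
    · rw [mul_zero, mul_zero]
  have hinj : Set.InjOn (fun x : D.L₁ × D.L₂ => (C x.1 x.2 : ℂ) • D.eta x.1 x.2) A := fun x hx y hy e => by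
    by_contra hxy
    have h1 := hin x hx y hy
    have h2 := hin x hx x hx
    simp only at e
    rw [if_pos rfl, e] at h2
    rw [e, if_neg hxy] at h1
    exact one_ne_zero (h2.symm.trans h1)
  refine ⟨fun α hα β hβ => ?_, ?_⟩
  · obtain ⟨x, hx, rfl⟩ := Finset.mem_image.mp hα
    obtain ⟨y, hy, rfl⟩ := Finset.mem_image.mp hβ
    rw [hin x hx y hy]
    by_cases h : x = y
    · rw [if_pos h, if_pos (by rw [h])]
    · rw [if_neg h, if_neg fun e => h (hinj hx hy e)]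
  · rw [fixedR, Finset.sum_image hinj, hsum]
    refine (Finset.sum_subset (Finset.subset_univ A) fun x _ hx => ?_).symm
    have h := hsq x.1 x.2
    rw [if_neg fun h' => hx (Finset.mem_filter.mpr ⟨Finset.mem_univ _, h'⟩), sq_eq_zero_iff] at h
    rw [h, Int.cast_zero, zero_smul]

/-- The chosen sets of the system. -/
noncomputable def sysR (φ : D.T → ℂ) : Finset (G → ℂ) :=
  if Cfsg.IsIrrCharacter D.T φ then D.exists_free_system.choose φ
  else if h : ∃ θ : D.IK, φ = Cfsg.indFun D.KT (θ : D.KT → ℂ) then D.fixedR h.choose else ∅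

theorem sysR_free {φ : D.T → ℂ} (h : Cfsg.IsIrrCharacter D.T φ) : D.sysR φ = D.exists_free_system.choose φ :=
  if_pos h

theorem sysR_fixed {φ : D.T → ℂ} (hφ : φ ∈ D.S₀) (h : ¬ Cfsg.IsIrrCharacter D.T φ) :
    ∃ θ : D.IK, D.IsFixed (θ : D.KT → ℂ) ∧ θ ≠ D.triv ∧ φ = Cfsg.indFun D.KT (θ : D.KT → ℂ) ∧
      D.sysR φ = D.fixedR θ := by
  obtain ⟨θ, hne, rfl⟩ := D.exists_of_mem_S₀ hφ
  have hf := D.fixed_of_not_irr h
  refine ⟨θ, hf, hne, rfl, ?_⟩
  have hex : ∃ θ' : D.IK, Cfsg.indFun D.KT (θ : D.KT → ℂ) = Cfsg.indFun D.KT (θ' : D.KT → ℂ) := ⟨θ, rfl⟩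
  rw [sysR, if_neg h, dif_pos hex]
  refine congrArg _ (by_contra fun hc => ?_)
  have h0 := D.inner_indT_fixed hf (φ := hex.choose) (Ne.symm hc)
  rw [← hex.choose_spec, D.norm_indT_fixed hf] at h0
  have := D.three_le_p
  have : D.p = 0 := by exact_mod_cast h0
  omega

theorem free_R_orth_eta {φ : D.T → ℂ} (hφ : φ ∈ D.Free) {α : G → ℂ}
    (hα : α ∈ D.exists_free_system.choose φ) (l : D.L₁) (k : D.L₂) :
    Cfsg.classInner α (D.eta l k) = 0 := by
  have hR := D.exists_free_system.choose_spec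
  obtain ⟨θ, hne, e⟩ := D.exists_of_mem_S₀ hφ.1
  have hf : ¬ D.IsFixed (θ : D.KT → ℂ) := fun hf => D.not_irr_of_fixed hf (e ▸ hφ.2)
  have hsum := hR.sum_eq φ hφ
  have hind : D.tau (φ - Cfsg.conjFun φ) = D.ind ((θ : D.KT → ℂ) - (conjIrr θ : D.KT → ℂ)) := by
    rw [e, Coh.conjFun_indFun, ind, indFun_sub]; rfl
  rw [hind] at hsum
  have h0 : Cfsg.classInner (D.ind ((θ : D.KT → ℂ) - (conjIrr θ : D.KT → ℂ))) (D.eta l k) = 0 := by
    rw [D.inner_eta (D.pair_gen θ), D.free_pair_coef hf, Int.cast_zero]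
  have hsg : ∀ β ∈ D.exists_free_system.choose φ, SignedIrr β := fun β hβ =>
    Exceptional.IsGen.norm_one' (hR.virtual φ hφ β hβ) (by rw [hR.orthonormal φ hφ β hβ β hβ, if_pos rfl])
  rcases (hsg α hα).trichotomy (D.eta_signed l k) with h | ⟨h, -⟩ | ⟨h, -⟩
  · exact h
  all_goals
    rw [hsum, classInner_sum_left, Finset.sum_eq_single α] at h0
    · exact h0
    · intro β hβ hne
      have h1 := hR.orthonormal φ hφ β hβ α hα
      rw [if_neg hne, h] at h1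
      first
        | exact h1
        | (rw [CfsgLib.CyclicTI.inner_neg_right, neg_eq_zero] at h1; exact h1)
    · exact fun hn => absurd hα hn

/-- The coherence system. -/
theorem system : Cfsg.IsCoherenceSystem D.S₀ D.tau D.sysR := by
  have hR := D.exists_free_system.choose_spec
  have horth : ∀ χ ∈ D.S₀, ∀ φ ∈ D.S₀, χ ≠ φ → Cfsg.classInner χ φ = 0 := by
    intro χ hχ φ hφ hne
    obtain ⟨θ, -, rfl⟩ := D.exists_of_mem_S₀ hχ
    obtain ⟨θ', -, rfl⟩ := D.exists_of_mem_S₀ hφ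
    refine D.inner_indT fun t e => hne ?_
    rw [← e, Coh.indFun_conjFn]
  have hcases : ∀ φ ∈ D.S₀, Cfsg.IsIrrCharacter D.T φ ∧ φ ∈ D.Free ∧ D.sysR φ = D.exists_free_system.choose φ ∨
      ∃ θ : D.IK, D.IsFixed (θ : D.KT → ℂ) ∧ θ ≠ D.triv ∧ φ = Cfsg.indFun D.KT (θ : D.KT → ℂ) ∧
        D.sysR φ = D.fixedR θ := fun φ hφ => by
    by_cases h : Cfsg.IsIrrCharacter D.T φ
    · exact Or.inl ⟨h, ⟨hφ, h⟩, D.sysR_free h⟩
    · exact Or.inr (D.sysR_fixed hφ h)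
  obtain ⟨c, hc⟩ := D.exists_lin
  refine ⟨⟨_, D.mem_S₀ hc.2⟩, fun φ h => Coh.isCharacter_of_mem h, fun φ h => (D.conj_mem_S₀ h).1,
    fun φ h => (D.conj_mem_S₀ h).2, D.tau_isometry, fun α hα => D.tau_map_one hα, horth, ?_, ?_, ?_, ?_⟩
  · intro χ hχ
    rcases hcases χ hχ with ⟨-, hF, e⟩ | ⟨θ, hf, hne, -, e⟩ <;> rw [e]
    · exact hR.orthonormal χ hF
    · exact (D.fixedR_facts hf hne).1
  · intro χ hχ α hα
    rcases hcases χ hχ with ⟨-, hF, e⟩ | ⟨θ, -, -, -, e⟩ <;> rw [e] at hα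
    · exact hR.virtual χ hF α hα
    · obtain ⟨x, -, rfl⟩ := D.mem_fixedR hα
      exact Exceptional.IsGen.intCast_smul _ (D.eta_isGen _ _)
  · intro χ hχ
    rcases hcases χ hχ with ⟨-, hF, e⟩ | ⟨θ, hf, hne, eθ, e⟩ <;> rw [e]
    · exact hR.sum_eq χ hF
    · rw [← (D.fixedR_facts hf hne).2, eθ, Coh.conjFun_indFun, ind, indFun_sub]
      rfl
  · intro χ hχ φ hφ h1 h2 α hα β hβ
    rcases hcases φ hφ with ⟨-, hF, e⟩ | ⟨θ, hf, -, eθ, e⟩ <;> rw [e] at hα <;>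
      rcases hcases χ hχ with ⟨-, hF', e'⟩ | ⟨θ', hf', -, eθ', e'⟩ <;> rw [e'] at hβ
    · exact hR.disjoint χ hF' φ hF h1 h2 α hα β hβ
    · obtain ⟨y, -, rfl⟩ := D.mem_fixedR hβ
      rw [classInner_smul_right, D.free_R_orth_eta hF hα, mul_zero]
    · obtain ⟨x, -, rfl⟩ := D.mem_fixedR hα
      rw [classInner_smul_left, ← classInner_conj_symm, D.free_R_orth_eta hF' hβ, map_zero, mul_zero]
    · obtain ⟨x, hx, rfl⟩ := D.mem_fixedR hα
      obtain ⟨y, hy, rfl⟩ := D.mem_fixedR hβ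
      rw [eθ, eθ'] at h1
      rw [eθ, eθ', Coh.conjFun_indFun] at h2
      have hp : (D.p : ℂ) ≠ 0 := Nat.cast_ne_zero.mpr Nat.card_pos.ne'
      have n1 : θ ≠ θ' := fun h => hp (by rw [← D.norm_indT_fixed hf]; rw [← h] at h1; exact h1)
      have n2 : θ ≠ conjIrr θ' := fun h => hp (by
        rw [← D.norm_indT_fixed hf]
        change Cfsg.classInner _ (Cfsg.indFun D.KT (conjIrr θ' : D.KT → ℂ)) = 0 at h2
        rw [← h] at h2
        exact h2)
      have n3 : conjIrr θ ≠ θ' := fun h => n2 (by rw [← h, conjIrr_conjIrr])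
      have n4 : conjIrr θ ≠ conjIrr θ' := fun h => n1 (by rw [← conjIrr_conjIrr θ, h, conjIrr_conjIrr])
      have hxy : x ≠ y := by
        rintro rfl
        have hc := D.isFixed_conj.mpr hf
        have hc' := D.isFixed_conj.mpr hf'
        rcases hx with h | h <;> rcases hy with h' | h' <;> rw [h] at h'
        · exact n1 (D.lab_inj hf hf' h')
        · exact n2 (D.lab_inj hf hc' h')
        · exact n3 (D.lab_inj hc hf' h')
        · exact n4 (D.lab_inj hc hc' h')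
      rw [classInner_smul_left, classInner_smul_right, D.eta_inner, if_neg hxy, mul_zero, mul_zero]

end TV

end CfsgLib.OddLocal.TypeFive
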